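import Cfsg.Agent.H527.C3.Twist_m3
import Cfsg.Agent.ClassicalGeometry.PSLTorus
import Cfsg.Agent.H341.ThreeList_m3
import Cfsg.Agent.S0279
import Cfsg.Agent.LieClassical.SUBasic
import Mathlib
import Cfsg.Agent.S0243
import Cfsg.Agent.S2540
import Cfsg.Agent.LieClassical.SLGen
import Cfsg.Agent.H259.NatMod
import Cfsg.Agent.H402.PSL2Cls
import Cfsg.Agent.ClassicalGeometry.PSL2Basic
import Mathlib.LinearAlgebra.GeneralLinearGroup.AlgEquiv
import Cfsg.Agent.S0755
import Cfsg.Agent.H415.C3.LKitOne_mg_m3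
import Cfsg.Prelude.Def_LieTypeChar
import Cfsg.Agent.ChevalleyStructure.E6Min.Torus
import Cfsg.Agent.H318.Four.RowE6
import Cfsg.Agent.H944.E6Tab
import Cfsg.Agent.H65.E6Ext_m3
import Cfsg.Agent.FastGrp
import Cfsg.Agent.Prune
set_option linter.all false

section
prune_inst 0x7ffca9f8ebb80bffdfff7e67a6d0cdfc38901fffe4dff94bbfe021cf0b9f030009c5238501e010fe0e83421410a878037b7eeeffe26fdc7ffffdfff41ffbee4fe5f6b008119488340f3c0ff603f0778e7f3fffffffffefffffffffffffffffbeffbfffffffff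

-- part: H314/Co3/RowLin_mg
section
prune_inst 0x14010000240020000008580912020104c0000800000040085030a440300a402048081c000800001480a2000000008000000008000000000000004000001000010d0040420000008060018000080000000000000010000000000000000000004000000000
set_option linter.all false
open scoped Cfsg.Agent.FastGrp

-- part: H314/Co3/Lin
section
/-!
# S1920, case A: groups with small linear representations (helper314)
-/

set_option autoImplicit false

open Subgroup

namespace Cfsg.Agent.H314.Co3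

/-- a 2-subgroup lifts through an epimorphism with kernel of odd order -/
theorem exists_lift {L G : Type*} [Group L] [Group G] [Finite L] (π : L →* G) (hπ : Function.Surjective π)
    (hk : Odd (Nat.card π.ker)) (T : Subgroup G) (hT : IsPGroup 2 T) : ∃ σ : ↥T →* L, ∀ t, π (σ t) = t := by
  have : Fact (Nat.Prime 2) := ⟨Nat.prime_two⟩
  have : Finite G := Finite.of_surjective π hπ
  let M : Subgroup L := T.comap π
  obtain ⟨P⟩ : Nonempty (Sylow 2 ↥M) := inferInstance
  let f : ↥M →* ↥T := (π.comp M.subtype).codRestrict T fun x => x.2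
  have hf : ∀ x : ↥M, ((f x : ↥T) : G) = π (x : L) := fun x => rfl
  have hfs : Function.Surjective f := by
    rintro ⟨t, ht⟩
    obtain ⟨x, hx⟩ := hπ t
    exact ⟨⟨x, by change π x ∈ T; rw [hx]; exact ht⟩, Subtype.ext hx⟩
  have hfk : f.ker.map M.subtype = π.ker := by
    ext x
    constructor
    · rintro ⟨y, hy, rfl⟩
      have : f y = 1 := hy
      rw [MonoidHom.mem_ker, Subgroup.coe_subtype, ← hf, this]; rfl
    · intro hx
      have hx' : π x = 1 := hx
      refine ⟨⟨x, by change π x ∈ T; rw [hx']; exact one_mem _⟩, ?_, rfl⟩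
      exact Subtype.ext hx'
  have hfkc : Nat.card f.ker = Nat.card π.ker := by
    rw [← hfk]; exact Nat.card_congr (f.ker.equivMapOfInjective M.subtype M.subtype_injective).toEquiv
  have hMc : Nat.card ↥M = Nat.card π.ker * Nat.card T := by
    rw [← hfkc, ← Subgroup.card_mul_index f.ker, Subgroup.index_ker, MonoidHom.range_eq_top.2 hfs,
      Nat.card_congr Subgroup.topEquiv.toEquiv]
  obtain ⟨n, hn⟩ := IsPGroup.iff_card.1 hT
  have hPc : Nat.card P = Nat.card T := by
    rw [P.card_eq_multiplicity, hMc, hn, Nat.factorization_mul hk.pos.ne' (by positivity),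
      Nat.Prime.factorization_pow Nat.prime_two]
    simp only [Finsupp.add_apply, Finsupp.single_eq_same]
    rw [Nat.factorization_eq_zero_of_not_dvd, zero_add]
    exact fun h => (Nat.not_even_iff_odd.2 hk) (even_iff_two_dvd.2 h)
  let g : ↥(P : Subgroup ↥M) →* ↥T := f.comp (P : Subgroup ↥M).subtype
  have hg : Function.Injective g := by
    rw [injective_iff_map_eq_one]
    intro x hx
    have h1 : (x : ↥M) ∈ f.ker := hx
    have h2 : orderOf (x : ↥M) ∣ Nat.card f.ker := Subgroup.orderOf_dvd_natCard _ h1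
    obtain ⟨k, hk'⟩ := (IsPGroup.iff_orderOf.1 P.2) x
    rw [Subgroup.orderOf_coe, hk', hfkc] at h2
    have h3 : k = 0 := by
      by_contra hk0
      exact (Nat.not_even_iff_odd.2 hk) (even_iff_two_dvd.2 ((dvd_pow_self 2 hk0).trans h2))
    rw [h3, pow_zero, orderOf_eq_one_iff] at hk'
    exact hk'
  have hb : Function.Bijective g := (Nat.bijective_iff_injective_and_card g).2 ⟨hg, hPc⟩
  let e : ↥(P : Subgroup ↥M) ≃* ↥T := MulEquiv.ofBijective g hb
  refine ⟨(M.subtype.comp (P : Subgroup ↥M).subtype).comp e.symm.toMonoidHom, fun t => ?_⟩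
  have h1 : e (e.symm t) = t := e.apply_symm_apply t
  have h2 : ((e (e.symm t) : ↥T) : G) = π (((e.symm t : ↥(P : Subgroup ↥M)) : ↥M) : L) := rfl
  rw [h1] at h2
  exact h2.symm

variable {G : Type*} [Group G]

namespace CA

variable {H N0 : Subgroup G} {z s : G} {ψ : ↥H →* Equiv.Perm (Fin 6)}

theorem exists_TR [Finite G] (C : CA H N0 z s ψ) : ∃ T : Subgroup G, T ≤ H ∧ T ≤ normalizer (N0 : Set G) ∧ N0 ≤ T ∧
    IsPGroup 2 T ∧ Nat.card T = 2 ^ 10 ∧ ∃ r ∈ T, r * s ≠ s * r := by
  obtain ⟨T, hTH, hTN, hNT, hT2, hTc, hTk⟩ := C.exists_T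
  refine ⟨T, hTH, hTN, hNT, hT2, hTc, ?_⟩
  by_contra hcon
  push Not at hcon
  let f : ↥T →* Equiv.Perm (Fin 6) := ψ.comp (Subgroup.inclusion hTH)
  have hr : f.range ≤ alternatingGroup (Fin 6) := by
    rintro _ ⟨t, rfl⟩
    rw [Equiv.Perm.mem_alternatingGroup]
    exact (C.inv_s ⟨t, hTH t.2⟩ (hTN t.2)).2 (hcon t t.2)
  have hkN : f.ker.map T.subtype ≤ N0 := by
    rintro _ ⟨a, ha, rfl⟩
    exact hTk ⟨a, hTH a.2⟩ a.2 ha
  have h1 : Nat.card f.ker ∣ 64 := by
    rw [← C.card, Nat.card_congr (f.ker.equivMapOfInjective T.subtype T.subtype_injective).toEquiv]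
    exact Subgroup.card_dvd_of_le hkN
  have h2 : Nat.card f.ker * Nat.card f.range = 2 ^ 10 := by
    rw [← hTc, ← Subgroup.index_ker]; exact Subgroup.card_mul_index f.ker
  have h3 : Nat.card f.range ∣ 360 := by
    have h4 := Subgroup.card_dvd_of_le hr
    rwa [Nat.card_eq_fintype_card (α := alternatingGroup (Fin 6)),
      show Fintype.card (alternatingGroup (Fin 6)) = 360 by
        have h5 := two_mul_card_alternatingGroup (α := Fin 6)
        rw [Fintype.card_perm, Fintype.card_fin, show Nat.factorial 6 = 720 by rfl] at h5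
        omega] at h4
  obtain ⟨k, hk⟩ := h1
  have h4 : 16 * k = Nat.card f.range := by
    have h5 : 0 < Nat.card f.ker := Nat.card_pos
    apply Nat.eq_of_mul_eq_mul_left h5
    rw [h2]
    calc Nat.card f.ker * (16 * k) = 16 * (Nat.card f.ker * k) := by ring
      _ = 2 ^ 10 := by rw [← hk]; norm_num
  have h5 : 16 ∣ 360 := (Dvd.intro _ h4).trans h3
  norm_num at h5

/-- **no small linear representation in odd characteristic** -/
theorem lin_core [Finite G] (C : CA H N0 z s ψ) {ι F : Type*} [Fintype ι] [DecidableEq ι] [Field F] (h2 : (2 : F) ≠ 0)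
    {L : Type*} [Group L] [Finite L] (π : L →* G) (hπ : Function.Surjective π) (hk : Odd (Nat.card π.ker))
    (ρ : L →* Matrix ι ι F) (hρ : Function.Injective ρ) :
    8 ≤ Fintype.card ι ∧ (Fintype.card ι = 8 → ∃ y : L, π y = z ∧ ρ y = -1) := by
  obtain ⟨T, hTH, hTN, hNT, hT2, -, r, hrT, hr⟩ := C.exists_TR
  obtain ⟨σ, hσ⟩ := exists_lift π hπ hk T hT2
  let K := AlgebraicClosure F
  let m : Matrix ι ι F →* Matrix ι ι K := ((algebraMap F K).mapMatrix : Matrix ι ι F →+* Matrix ι ι K)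
  have hm : Function.Injective m := by
    intro x y hxy
    ext i j
    have := congrFun (congrFun hxy i) j
    exact (algebraMap F K).injective this
  let l : Matrix ι ι K ≃ₐ[K] ((ι → K) →ₗ[K] (ι → K)) := Matrix.toLinAlgEquiv'
  let P : ↥T →* ((ι → K) →ₗ[K] (ι → K)) := ((l : Matrix ι ι K →* _).comp m).comp (ρ.comp σ)
  have hPe : ∀ t, P t = l (m (ρ (σ t))) := fun t => rfl
  obtain ⟨i, hi⟩ : ∃ i : K, i * i = -1 := by
    obtain ⟨i, hi⟩ := IsAlgClosed.exists_pow_nat_eq (-1 : K) (n := 2) (by norm_num)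
    exact ⟨i, by rw [← pow_two, hi]⟩
  have h2K : (2 : K) ≠ 0 := by
    intro h
    apply h2
    apply (algebraMap F K).injective
    rw [map_ofNat, map_zero]
    exact h
  have hinjP : ∀ t, P t = 1 → t = 1 := by
    intro t ht
    rw [hPe] at ht
    have h3 : m (ρ (σ t)) = m (ρ 1) := by
      apply l.injective
      rw [ht, map_one, map_one, map_one]
    have h4 : σ t = 1 := hρ (hm h3)
    apply Subtype.ext
    rw [← hσ, h4, map_one]; rfl
  have hz : P ⟨z, hNT C.zN⟩ ≠ 1 := fun h => C.z_ne (congrArg Subtype.val (hinjP _ h))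
  obtain ⟨h3, h4⟩ := C.dim_eight h2K hi hNT hrT (hTH hrT) (hTN hrT) hr P hz
  rw [Module.finrank_fintype_fun_eq_card] at h3 h4
  refine ⟨h3, fun h8 => ⟨σ ⟨z, hNT C.zN⟩, hσ _, ?_⟩⟩
  have h5 := h4 h8
  rw [hPe] at h5
  apply hm
  apply l.injective
  rw [h5]
  have h6 : m (-1) = -1 := by
    change ((algebraMap F K).mapMatrix : Matrix ι ι F →+* Matrix ι ι K) (-1) = -1
    rw [map_neg, map_one]
  rw [h6, map_neg, map_one]

end CA

end Cfsg.Agent.H314.Co3
end

-- part: H314/Co3/Two
section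
/-!
# S1920, case A: pairs of commuting `SL_2` (helper314)
-/

set_option autoImplicit false

open Subgroup
open scoped MatrixGroups

namespace Cfsg.Agent.H314.Co3

/-- the diagonal torus of `SL_2` -/
def dgHom (F : Type*) [Field F] : Fˣ →* SL(2, F) where
  toFun u := ⟨!![(u : F), 0; 0, ((u⁻¹ : Fˣ) : F)], by simp [Matrix.det_fin_two]⟩
  map_one' := by
    apply Subtype.ext
    ext i j
    (revert i j; simp only [_root_.Fin.forall_fin_succ, _root_.Units.val_one, _root_.inv_one, _root_.Matrix.of_apply, _root_.Matrix.cons_val', _root_.Matrix.cons_val_fin_one, _root_.Matrix.SpecialLinearGroup.coe_one, Fin.isValue, _root_.Matrix.cons_val_zero, _root_.Matrix.cons_val_succ, _root_.IsEmpty.forall_iff, _root_.and_true, _root_.Matrix.one_apply_eq, Nat.reduceAdd, _root_.Fin.succ_zero_eq_one, _root_.ne_eq, _root_.zero_ne_one, _root_.not_false_eq_true, _root_.Matrix.one_apply_ne, _root_.and_self, _root_.Fin.succ_ne_zero, _root_.true_and])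
  map_mul' u v := by
    apply Subtype.ext
    change !![((u * v : Fˣ) : F), 0; 0, (((u * v)⁻¹ : Fˣ) : F)] =
      !![(u : F), 0; 0, ((u⁻¹ : Fˣ) : F)] * !![(v : F), 0; 0, ((v⁻¹ : Fˣ) : F)]
    ext i j
    (revert i j; simp only [Matrix.mul_apply, Fin.sum_univ_two, mul_comm, _root_.Fin.forall_fin_succ, _root_.Units.val_mul, _root_.mul_inv_rev, _root_.Units.val_inv_eq_inv_val, _root_.Matrix.of_apply, _root_.Matrix.cons_val', _root_.Matrix.cons_val_fin_one, Fin.isValue, _root_.Matrix.cons_val_zero, _root_.Matrix.cons_val_one, _root_.MulZeroClass.zero_mul, _root_.add_zero, _root_.Matrix.cons_val_succ, _root_.zero_add, _root_.forall_const, _root_.MulZeroClass.mul_zero, _root_.and_self, _root_.implies_true])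

theorem dgHom_injective (F : Type*) [Field F] : Function.Injective (dgHom F) := by
  intro u v h
  apply Units.ext
  exact congrArg (fun x : SL(2, F) => x.1 0 0) h

/-- elements of `SL_2(q)` of order dividing `q - 1` or `q + 1` -/
theorem exists_ord (F : Type*) [Field F] [Fintype F] {k : ℕ} (h : k ∣ Fintype.card F - 1 ∨ k ∣ Fintype.card F + 1) :
    ∃ a : SL(2, F), orderOf a = k := by
  classical
  have hq : 1 < Fintype.card F := Fintype.one_lt_card
  have key : ∀ {X : Type _} [Group X] (a : X) (n : ℕ), 0 < n → orderOf a = n → k ∣ n → ∃ b : X, orderOf b = k := by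
    intro X _ a n hn ha hk
    obtain ⟨m, rfl⟩ := hk
    have hm : 0 < m := Nat.pos_of_mul_pos_left hn
    refine ⟨a ^ m, ?_⟩
    rw [orderOf_pow_of_dvd hm.ne' (by rw [ha]; exact Dvd.intro_left _ rfl), ha, Nat.mul_div_cancel _ hm]
  rcases h with h | h
  · obtain ⟨u, hu⟩ := IsCyclic.exists_ofOrder_eq_natCard (α := Fˣ)
    rw [Nat.card_eq_fintype_card, Fintype.card_units] at hu
    exact key (dgHom F u) _ (by omega) (by rw [orderOf_injective (dgHom F) (dgHom_injective F), hu]) h
  · obtain ⟨a, s, ha, -⟩ := ClassicalGeometry.NonsplitTorus.exists_torus_TI F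
    exact key a _ (by omega) ha h

theorem exists_sixteen (F : Type*) [Field F] [Fintype F] (hq : Odd (Fintype.card F))
    (h : 32 ∣ Fintype.card F ^ 2 - 1) : ∃ a : SL(2, F), orderOf a = 16 := by
  apply exists_ord
  have hq1 : 1 < Fintype.card F := Fintype.one_lt_card
  obtain ⟨a, ha⟩ := hq
  rw [ha] at h ⊢
  have e : (2 * a + 1) ^ 2 - 1 = 4 * (a * (a + 1)) := by
    apply Nat.sub_eq_of_eq_add
    ring
  rw [e] at h
  have h1 : 8 ∣ a * (a + 1) := by
    obtain ⟨c, hc⟩ := h
    exact ⟨c, by omega⟩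
  have h2 : 2 * a + 1 - 1 = 2 * a := by omega
  have h3 : 2 * a + 1 + 1 = 2 * (a + 1) := by ring
  rw [h2, h3]
  rcases Nat.even_or_odd a with hae | hao
  · left
    have hc : Nat.Coprime 8 (a + 1) := by
      rw [show 8 = 2 ^ 3 by norm_num]
      exact Nat.Coprime.pow_left _ ((Nat.coprime_two_left).2 hae.add_one)
    have := hc.dvd_of_dvd_mul_right h1
    obtain ⟨c, hc⟩ := this
    exact ⟨c, by omega⟩
  · right
    have hc : Nat.Coprime 8 a := by
      rw [show 8 = 2 ^ 3 by norm_num]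
      exact Nat.Coprime.pow_left _ ((Nat.coprime_two_left).2 hao)
    have := hc.dvd_of_dvd_mul_left h1
    obtain ⟨c, hc⟩ := this
    exact ⟨c, by omega⟩

variable {G : Type*} [Group G]

theorem isPGroup_zpowers {x : G} {k : ℕ} (hx : orderOf x = 2 ^ k) : IsPGroup 2 (zpowers x) :=
  IsPGroup.of_card (n := k) (by rw [Nat.card_zpowers, hx])

namespace CA

variable {H N0 : Subgroup G} {z s : G} {ψ : ↥H →* Equiv.Perm (Fin 6)}

/-- no 2-elements of order at least `2 ^ 8` -/
theorem kill_elt [Finite G] (C : CA H N0 z s ψ) {x : G} {k : ℕ} (hx : orderOf x = 2 ^ k) (hk : 128 < orderOf x) :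
    False := by
  have h1 := (C.abel (isPGroup_zpowers hx) (by
    rintro _ ⟨a, rfl⟩ _ ⟨b, rfl⟩
    change x ^ a * x ^ b = x ^ b * x ^ a
    rw [← zpow_add, ← zpow_add, add_comm])).1
  rw [Nat.card_zpowers] at h1
  omega

/-- **no commuting pairs of elements of order 16 with small intersection** -/
theorem kill16 [Finite G] (C : CA H N0 z s ψ) {x y w : G} (hx : orderOf x = 16) (hy : orderOf y = 16)
    (hxy : x * y = y * x) (hint : ∀ g, g ∈ zpowers x → g ∈ zpowers y → g = 1 ∨ g = w) : False := by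
  have hcc : Commute x y := hxy
  let f : ↥(zpowers x) × ↥(zpowers y) →* G := (zpowers x).subtype.noncommCoprod (zpowers y).subtype (by
    rintro ⟨_, ⟨a, rfl⟩⟩ ⟨_, ⟨b, rfl⟩⟩
    exact (hcc.zpow_zpow a b))
  have hf : ∀ a b, f (a, b) = (a : G) * b := fun a b => rfl
  have hcomm : ∀ a ∈ f.range, ∀ b ∈ f.range, a * b = b * a := by
    rintro _ ⟨⟨⟨_, ⟨a, rfl⟩⟩, ⟨_, ⟨b, rfl⟩⟩⟩, rfl⟩ _ ⟨⟨⟨_, ⟨a', rfl⟩⟩, ⟨_, ⟨b', rfl⟩⟩⟩, rfl⟩
    rw [← map_mul, ← map_mul]
    congr 1
    apply Prod.ext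
    · apply Subtype.ext
      change x ^ a * x ^ a' = x ^ a' * x ^ a
      rw [← zpow_add, ← zpow_add, add_comm]
    · apply Subtype.ext
      change y ^ b * y ^ b' = y ^ b' * y ^ b
      rw [← zpow_add, ← zpow_add, add_comm]
  have hcard : Nat.card (↥(zpowers x) × ↥(zpowers y)) = 2 ^ 8 := by
    rw [Nat.card_prod, Nat.card_zpowers, Nat.card_zpowers, hx, hy]; norm_num
  have hp : IsPGroup 2 f.range := (IsPGroup.of_card hcard).of_surjective f.rangeRestrict f.rangeRestrict_surjective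
  -- the kernel
  have hk : Nat.card f.ker ≤ 2 := by
    classical
    let g : ↥f.ker → Bool := fun p => decide (((p : ↥(zpowers x) × ↥(zpowers y)).1 : G) = 1)
    have hg : Function.Injective g := by
      rintro ⟨⟨a, b⟩, h⟩ ⟨⟨a', b'⟩, h'⟩ hgg
      have h1 : (a : G) * b = 1 := h
      have h2 : (a' : G) * b' = 1 := h'
      have e1 : (b : G) = (a : G)⁻¹ := (inv_eq_of_mul_eq_one_right h1).symm
      have e2 : (b' : G) = (a' : G)⁻¹ := (inv_eq_of_mul_eq_one_right h2).symm
      have i1 : (a : G) = 1 ∨ (a : G) = w := hint _ a.2 (by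
        have := inv_mem b.2
        rwa [e1, inv_inv] at this)
      have i2 : (a' : G) = 1 ∨ (a' : G) = w := hint _ a'.2 (by
        have := inv_mem b'.2
        rwa [e2, inv_inv] at this)
      have hgg' : ((a : G) = 1 ↔ (a' : G) = 1) := by
        simpa only [g, _root_.OneMemClass.coe_eq_one, _root_.decide_eq_decide] using hgg
      have h3 : (a : G) = a' := by
        rcases i1 with i1 | i1
        · rw [i1, hgg'.1 i1]
        · rcases i2 with i2 | i2
          · rw [i2, hgg'.2 i2]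
          · rw [i1, i2]
      apply Subtype.ext
      apply Prod.ext
      · exact Subtype.ext h3
      · apply Subtype.ext
        change (b : G) = b'
        rw [e1, e2, h3]
    have := Nat.card_le_card_of_injective g hg
    simpa only [_root_.MonoidHom.mem_ker, _root_.ge_iff_le, _root_.Nat.card_eq_fintype_card, _root_.Fintype.card_bool] using this
  have hmul : Nat.card f.ker * Nat.card f.range = 2 ^ 8 := by
    rw [← hcard, ← Subgroup.index_ker]; exact Subgroup.card_mul_index f.ker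
  have h128 : 128 ≤ Nat.card f.range := by
    by_contra hlt
    have : Nat.card f.ker * Nat.card f.range ≤ 2 * 127 := Nat.mul_le_mul hk (by omega)
    omega
  obtain ⟨z', hz'⟩ := (C.abel hp hcomm).2 h128
  have hxm : ∀ n : ℕ, x ^ n ∈ f.range := fun n => ⟨(⟨x ^ n, pow_mem (mem_zpowers x) n⟩, 1), by rw [hf]; simp⟩
  have h1 := hz' _ (hxm 1)
  have h3 := hz' _ (hxm 3)
  rw [pow_one] at h1
  rw [← pow_mul] at h3
  have n1 : x ^ 4 ≠ 1 := fun h => by
    have := orderOf_dvd_of_pow_eq_one h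
    rw [hx] at this
    exact absurd this (by norm_num)
  have n3 : x ^ (3 * 4) ≠ 1 := fun h => by
    have := orderOf_dvd_of_pow_eq_one h
    rw [hx] at this
    exact absurd this (by norm_num)
  have e : x ^ (3 * 4) = x ^ 4 := by rw [h1.resolve_left n1, h3.resolve_left n3]
  have e2 : x ^ 8 = 1 := by
    have : x ^ (3 * 4) = x ^ 8 * x ^ 4 := by rw [← pow_add]
    rw [this] at e
    exact mul_eq_right.1 e
  have := orderOf_dvd_of_pow_eq_one e2
  rw [hx] at this
  exact absurd this (by norm_num)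

/-- **two commuting `SL_2`** -/
theorem kill_pair [Finite G] (C : CA H N0 z s ψ) {E E' : Type*} [Field E] [Fintype E] [Field E'] [Fintype E']
    (hE : Odd (Fintype.card E)) (hE' : Odd (Fintype.card E')) (h32 : 32 ∣ Fintype.card E ^ 2 - 1)
    (h32' : 32 ∣ Fintype.card E' ^ 2 - 1) (f : SL(2, E) →* G) (f' : SL(2, E') →* G) (hf : Function.Injective f)
    (hf' : Function.Injective f') (hc : ∀ u v, f u * f' v = f' v * f u) (w : G)
    (hint : ∀ u v, f u = f' v → f u = 1 ∨ f u = w) : False := by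
  obtain ⟨a, ha⟩ := exists_sixteen E hE h32
  obtain ⟨b, hb⟩ := exists_sixteen E' hE' h32'
  refine C.kill16 (x := f a) (y := f' b) (w := w) (by rw [orderOf_injective f hf, ha])
    (by rw [orderOf_injective f' hf', hb]) (hc a b) ?_
  rintro _ ⟨m, rfl⟩ ⟨n, hn⟩
  change f a ^ m = 1 ∨ f a ^ m = w
  have hn' : f' b ^ n = f a ^ m := hn
  rw [← map_zpow] at hn' ⊢
  rw [← map_zpow] at hn'
  exact hint _ _ hn'.symm

end CA

end Cfsg.Agent.H314.Co3
end

-- part: H314/Co3/Eng
section
/-!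
# Known simple groups whose order is divisible by `2 ^ 10` but not by `2 ^ 11` (helper314, after H285/TwoPart)
-/

set_option autoImplicit false

namespace Cfsg.Agent.H314.Co3.Eng

open Cfsg Cfsg.Agent.OrdDiv
open Cfsg.Agent.H285.TwoPart (psl_card psp_card psu_card oodd_card oplus_card ominus_card e2 e2k e4 e8 of_mul_dvd
  prod_dvd_glN prB_dvd prU_dvd prB_three prB_four prU_six d3)

universe u

theorem even_sub {q : ℕ} (k : ℕ) (hq : Odd q) : 2 ∣ q ^ k - 1 := by
  have h : Odd (q ^ k) := hq.pow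
  obtain ⟨c, hc⟩ := h
  exact ⟨c, by omega⟩

theorem even_add {q : ℕ} (k : ℕ) (hq : Odd q) : 2 ∣ q ^ k + 1 := by
  have h : Odd (q ^ k) := hq.pow
  obtain ⟨c, hc⟩ := h
  exact ⟨c + 1, by omega⟩

theorem e12 {q : ℕ} (hq : Odd q) : 16 ∣ q ^ 12 - 1 := by
  have := Nat.sub_dvd_pow_sub_pow (q ^ 4) 1 3
  rw [one_pow, ← pow_mul] at this
  exact (e4 hq).trans this

theorem d4 {q : ℕ} (hq : Odd q) : 2 * 2 ^ 11 ∣ prB q 4 := by
  rw [prB_four]
  exact (show 2 * 2 ^ 11 ∣ 8 * 16 * 8 * 32 by norm_num).trans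
    (mul_dvd_mul (mul_dvd_mul (mul_dvd_mul (e2 hq) (e4 hq)) (e2k 3 hq)) (e8 hq))

theorem psl_ge {n q c : ℕ} (hn : 6 ≤ n) (hq : Odd q) (hq1 : 1 < q) (h : fPSL.den n q * c = fPSL.num n q) :
    2 ^ 11 ∣ c := by
  have h0 : 0 < fPSL.den n q := by
    change 0 < Nat.gcd n (q - 1) * (q - 1)
    exact Nat.mul_pos (Nat.gcd_pos_of_pos_left _ (by omega)) (by omega)
  refine of_mul_dvd h0 h ?_
  change Nat.gcd n (q - 1) * (q - 1) * 2 ^ 11 ∣ glN n q
  refine dvd_trans ?_ (prod_dvd_glN (q := q) hn)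
  have h1 : Nat.gcd n (q - 1) ∣ q ^ 3 - 1 := by
    have := Nat.sub_dvd_pow_sub_pow q 1 3
    rw [one_pow] at this
    exact (Nat.gcd_dvd_right _ _).trans this
  have h2 : ∏ i ∈ Finset.range 6, (q ^ (i + 1) - 1) =
      (q ^ 3 - 1) * (q - 1) * ((q ^ 2 - 1) * (q ^ 4 - 1) * (q ^ 6 - 1) * (q ^ 5 - 1)) := by
    simp only [Finset.prod_range_succ, Finset.prod_range_zero, one_mul, zero_add, pow_one, Nat.reduceAdd]
    ring
  rw [h2]
  exact mul_dvd_mul (mul_dvd_mul h1 dvd_rfl) ((show 2 ^ 11 ∣ 8 * 16 * 8 * 2 by norm_num).trans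
    (mul_dvd_mul (mul_dvd_mul (mul_dvd_mul (e2 hq) (e4 hq)) (e2k 3 hq)) (even_sub 5 hq)))

theorem psu_ge {n q c : ℕ} (hn : 6 ≤ n) (hq : Odd q) (h : fPSU.den n q * c = fPSU.num n q) :
    2 ^ 11 ∣ c := by
  have h0 : 0 < fPSU.den n q := by
    change 0 < Nat.gcd n (q + 1) * (q + 1)
    exact Nat.mul_pos (Nat.gcd_pos_of_pos_left _ (by omega)) (by omega)
  refine of_mul_dvd h0 h ?_
  change Nat.gcd n (q + 1) * (q + 1) * 2 ^ 11 ∣ q ^ (n * (n - 1) / 2) * prU q n
  refine dvd_trans ?_ ((prU_dvd (q := q) hn).trans (Dvd.intro_left _ rfl))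
  have h1 : Nat.gcd n (q + 1) ∣ q ^ 3 + 1 := by
    have := Odd.nat_add_dvd_pow_add_pow q 1 (n := 3) (by decide)
    rw [one_pow] at this
    exact (Nat.gcd_dvd_right _ _).trans this
  have h2 : prU q 6 = (q ^ 3 + 1) * (q + 1) * ((q ^ 2 - 1) * (q ^ 4 - 1) * (q ^ 6 - 1) * (q ^ 5 + 1)) := by
    rw [prU_six]
    ring
  rw [h2]
  exact mul_dvd_mul (mul_dvd_mul h1 dvd_rfl) ((show 2 ^ 11 ∣ 8 * 16 * 8 * 2 by norm_num).trans
    (mul_dvd_mul (mul_dvd_mul (mul_dvd_mul (e2 hq) (e4 hq)) (e2k 3 hq)) (even_add 5 hq)))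

theorem psp_ge {m q c : ℕ} (hm : 4 ≤ m) (hq : Odd q) (h : fPSp.den m q * c = fPSp.num m q) :
    2 ^ 11 ∣ c := by
  have h0 : 0 < fPSp.den m q := by
    change 0 < Nat.gcd 2 (q - 1)
    exact Nat.gcd_pos_of_pos_left _ (by omega)
  refine of_mul_dvd h0 h ?_
  change Nat.gcd 2 (q - 1) * 2 ^ 11 ∣ q ^ (m ^ 2) * prB q m
  exact (Nat.mul_dvd_mul_right (Nat.gcd_dvd_left _ _) _).trans
    ((d4 hq).trans ((prB_dvd (q := q) hm).trans (Dvd.intro_left _ rfl)))

theorem oodd_ge {m q c : ℕ} (hm : 4 ≤ m) (hq : Odd q) (h : 2 * c = fOOdd.num m q) : 2 ^ 11 ∣ c := by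
  refine of_mul_dvd (by norm_num) h ?_
  change 2 * 2 ^ 11 ∣ q ^ (m ^ 2) * prB q m
  exact (d4 hq).trans ((prB_dvd (q := q) hm).trans (Dvd.intro_left _ rfl))

theorem oplus_ge {m q c : ℕ} (hm : 4 ≤ m) (hq : Odd q) (h : fOPlus.den m q * c = fOPlus.num m q) :
    2 ^ 11 ∣ c := by
  refine of_mul_dvd (d := fOPlus.den m q) (Nat.gcd_pos_of_pos_left _ (by omega)) h ?_
  change Nat.gcd 4 (q ^ m - 1) * 2 ^ 11 ∣ q ^ (m * (m - 1)) * ((q ^ m - 1) * prB q (m - 1))
  refine dvd_trans ?_ (Dvd.intro_left _ rfl)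
  rcases Nat.lt_or_ge m 5 with h5 | h5
  · obtain rfl : m = 4 := by omega
    exact (Nat.mul_dvd_mul_right (Nat.gcd_dvd_left _ _) _).trans
      ((show 4 * 2 ^ 11 ∣ 16 * 2 ^ 10 by norm_num).trans (mul_dvd_mul (e4 hq) (d3 hq)))
  · exact mul_dvd_mul (Nat.gcd_dvd_right _ _) ((Dvd.intro_left _ rfl).trans ((d4 hq).trans (prB_dvd (q := q) (by omega))))

theorem ominus_ge {m q c : ℕ} (hm : 5 ≤ m) (hq : Odd q) (h : fOMinus.den m q * c = fOMinus.num m q) :
    2 ^ 11 ∣ c := by
  refine of_mul_dvd (d := fOMinus.den m q) (Nat.gcd_pos_of_pos_left _ (by omega)) h ?_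
  change Nat.gcd 4 (q ^ m + 1) * 2 ^ 11 ∣ q ^ (m * (m - 1)) * ((q ^ m + 1) * prB q (m - 1))
  exact (mul_dvd_mul (Nat.gcd_dvd_right _ _)
    ((Dvd.intro_left _ rfl).trans ((d4 hq).trans (prB_dvd (q := q) (by omega))))).trans (Dvd.intro_left _ rfl)

theorem d268 {q : ℕ} (hq : Odd q) : 2 * 2 ^ 11 ∣ (q ^ 2 - 1) * (q ^ 6 - 1) * (q ^ 8 - 1) * (q ^ 12 - 1) :=
  (show 2 * 2 ^ 11 ∣ 8 * 8 * 32 * 16 by norm_num).trans
    (mul_dvd_mul (mul_dvd_mul (mul_dvd_mul (e2 hq) (e2k 3 hq)) (e8 hq)) (e12 hq))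

theorem exc_ge {q c d N : ℕ} (hq : Odd q) (hd : d ∣ 2 ∨ d ∣ 3) (h : d * c = N)
    (hN : (q ^ 2 - 1) * (q ^ 6 - 1) * (q ^ 8 - 1) * (q ^ 12 - 1) ∣ N) : 2 ^ 11 ∣ c := by
  have h1 := (d268 hq).trans hN
  rcases hd with hd | hd
  · refine of_mul_dvd (Nat.pos_of_dvd_of_pos hd (by norm_num)) h ((Nat.mul_dvd_mul_right hd _).trans h1)
  · rw [← h] at h1
    have h2 : Nat.Coprime (2 ^ 11) d := Nat.Coprime.coprime_dvd_right hd (by norm_num)
    exact h2.dvd_of_dvd_mul_left ((Dvd.intro_left _ rfl).trans h1)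

/-! ### even characteristic -/

theorem even_box {D : Fam} {n q c : ℕ} (hq : IsPrimePow q) (he : ¬ Odd q) (hlo : D.lo ≤ n) (hn : n ≤ D.e n + 1)
    (he1 : 1 ≤ D.e n) (hok : D.ok n q = true) (hc : D.den n q * c = D.num n q) (hpow : q ^ D.e n ∣ D.num n q)
    (hcop : (D.den n q).Coprime q) (h10 : ¬ 2 ^ 11 ∣ c) :
    (n, q) ∈ (box [(2, 10)] D.e D.lo).filter (fun x => D.ok x.1 x.2) ∧ c = D.num n q / D.den n q := by
  refine ⟨?_, div_eq hq hcop hc⟩
  rw [List.mem_filter]
  refine ⟨?_, hok⟩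
  obtain ⟨p, f, hp, hf, rfl⟩ := (isPrimePow_nat_iff q).1 hq
  obtain rfl : p = 2 := by
    rcases hp.eq_two_or_odd' with h | h
    · exact h
    · exact absurd h.pow he
  have h1 : (2 ^ f) ^ D.e n ∣ c := by
    rw [← hc] at hpow
    exact Nat.Coprime.dvd_of_dvd_mul_left (Nat.Coprime.pow_left _ hcop.symm) hpow
  rw [← pow_mul] at h1
  refine mem_box (k := 10) (List.mem_singleton.2 rfl) hf hlo hn he1 ?_
  by_contra hlt
  exact h10 ((pow_dvd_pow 2 (by rw [mul_comm]; omega)).trans h1)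

/-- the explicit list: even characteristic and sporadic groups -/
def small : List Grp :=
  List.flatten [
    ((box [(2, 10)] fPSL.e fPSL.lo).filter (fun x => fPSL.ok x.1 x.2)).map (fun x => Grp.psl x.1 x.2),
    ((box [(2, 10)] fPSp.e fPSp.lo).filter (fun x => fPSp.ok x.1 x.2)).map (fun x => Grp.psp x.1 x.2),
    ((box [(2, 10)] fPSU.e fPSU.lo).filter (fun x => fPSU.ok x.1 x.2)).map (fun x => Grp.psu x.1 x.2),
    ((box [(2, 10)] fOPlus.e fOPlus.lo).filter (fun x => fOPlus.ok x.1 x.2)).map (fun x => Grp.oplus x.1 x.2),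
    ((box [(2, 10)] fOMinus.e fOMinus.lo).filter (fun x => fOMinus.ok x.1 x.2)).map (fun x => Grp.ominus x.1 x.2),
    ((box [(2, 10)] fG2.e fG2.lo).filter (fun x => fG2.ok x.1 x.2)).map (fun x => Grp.g2 x.2),
    ((box [(2, 10)] fF4.e fF4.lo).filter (fun x => fF4.ok x.1 x.2)).map (fun x => Grp.f4 x.2),
    ((box [(2, 10)] fE6.e fE6.lo).filter (fun x => fE6.ok x.1 x.2)).map (fun x => Grp.e6 x.2),
    ((box [(2, 10)] fE7.e fE7.lo).filter (fun x => fE7.ok x.1 x.2)).map (fun x => Grp.e7 x.2),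
    ((box [(2, 10)] fE8.e fE8.lo).filter (fun x => fE8.ok x.1 x.2)).map (fun x => Grp.e8 x.2),
    ((box [(2, 10)] fTE6.e fTE6.lo).filter (fun x => fTE6.ok x.1 x.2)).map (fun x => Grp.te6 x.2),
    ((box [(2, 10)] fTD4.e fTD4.lo).filter (fun x => fTD4.ok x.1 x.2)).map (fun x => Grp.td4 x.2),
    ((box [(2, 10)] fSz.e fSz.lo).filter (fun x => fSz.ok x.1 x.2)).map (fun x => Grp.sz x.2),
    ((box [(2, 10)] fTF4.e fTF4.lo).filter (fun x => fTF4.ok x.1 x.2)).map (fun x => Grp.tf4 x.2),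
    (spor.filter (fun x => x.2 % 2048 != 0)).map (fun x => x.1)]

theorem mem_small {g : Grp} (i : Fin 15)
    (h : g ∈ ([
    ((box [(2, 10)] fPSL.e fPSL.lo).filter (fun x => fPSL.ok x.1 x.2)).map (fun x => Grp.psl x.1 x.2),
    ((box [(2, 10)] fPSp.e fPSp.lo).filter (fun x => fPSp.ok x.1 x.2)).map (fun x => Grp.psp x.1 x.2),
    ((box [(2, 10)] fPSU.e fPSU.lo).filter (fun x => fPSU.ok x.1 x.2)).map (fun x => Grp.psu x.1 x.2),
    ((box [(2, 10)] fOPlus.e fOPlus.lo).filter (fun x => fOPlus.ok x.1 x.2)).map (fun x => Grp.oplus x.1 x.2),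
    ((box [(2, 10)] fOMinus.e fOMinus.lo).filter (fun x => fOMinus.ok x.1 x.2)).map (fun x => Grp.ominus x.1 x.2),
    ((box [(2, 10)] fG2.e fG2.lo).filter (fun x => fG2.ok x.1 x.2)).map (fun x => Grp.g2 x.2),
    ((box [(2, 10)] fF4.e fF4.lo).filter (fun x => fF4.ok x.1 x.2)).map (fun x => Grp.f4 x.2),
    ((box [(2, 10)] fE6.e fE6.lo).filter (fun x => fE6.ok x.1 x.2)).map (fun x => Grp.e6 x.2),
    ((box [(2, 10)] fE7.e fE7.lo).filter (fun x => fE7.ok x.1 x.2)).map (fun x => Grp.e7 x.2),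
    ((box [(2, 10)] fE8.e fE8.lo).filter (fun x => fE8.ok x.1 x.2)).map (fun x => Grp.e8 x.2),
    ((box [(2, 10)] fTE6.e fTE6.lo).filter (fun x => fTE6.ok x.1 x.2)).map (fun x => Grp.te6 x.2),
    ((box [(2, 10)] fTD4.e fTD4.lo).filter (fun x => fTD4.ok x.1 x.2)).map (fun x => Grp.td4 x.2),
    ((box [(2, 10)] fSz.e fSz.lo).filter (fun x => fSz.ok x.1 x.2)).map (fun x => Grp.sz x.2),
    ((box [(2, 10)] fTF4.e fTF4.lo).filter (fun x => fTF4.ok x.1 x.2)).map (fun x => Grp.tf4 x.2),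
    (spor.filter (fun x => x.2 % 2048 != 0)).map (fun x => x.1)] : List (List Grp)).get i) : g ∈ small := by
  unfold small
  exact List.mem_flatten.2 ⟨_, by exact List.get_mem (l := [_, _, _, _, _, _, _, _, _, _, _, _, _, _, _]) i, h⟩

/-- one-parameter families in even characteristic -/
theorem one_even {a : ℕ} {f den : ℕ → ℕ} {ok : ℕ → Bool} {q c : ℕ} (ha : 1 ≤ a) (hq : IsPrimePow q) (he : ¬ Odd q)
    (hok : ok q = true) (hc : den q * c = q ^ a * f q) (hcop : (den q).Coprime q) (h10 : ¬ 2 ^ 11 ∣ c) :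
    (0, q) ∈ (box [(2, 10)] (one a f den ok).e (one a f den ok).lo).filter (fun x => (one a f den ok).ok x.1 x.2) ∧
      c = (one a f den ok).num 0 q / (one a f den ok).den 0 q :=
  even_box (D := one a f den ok) hq he (Nat.zero_le _) (Nat.zero_le _) (by change 1 ≤ a + 1000 * 0; omega) hok hc
    (by change q ^ (a + 1000 * 0) ∣ q ^ a * f q; rw [mul_zero, add_zero]; exact Dvd.intro _ rfl) hcop h10

/-- what remains if `2 ^ 11` does not divide the order -/
def Rest (G : Type u) [Group G] : Prop :=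
  (∃ n : ℕ, 5 ≤ n ∧ n ≤ 15 ∧ Nonempty (G ≃* ↥(alternatingGroup (Fin n)))) ∨
  (∃ (F : Type) (_ : Field F) (_ : Fintype F) (n : ℕ), Odd (Fintype.card F) ∧ 2 ≤ n ∧ n ≤ 5 ∧
    Nonempty (G ≃* Matrix.ProjectiveSpecialLinearGroup (Fin n) F)) ∨
  (∃ (F : Type) (_ : Field F) (_ : Fintype F) (m : ℕ), Odd (Fintype.card F) ∧ 2 ≤ m ∧ m ≤ 3 ∧
    Nonempty (G ≃* PSp m F)) ∨
  (∃ (F : Type) (_ : Field F) (_ : Fintype F) (n q : ℕ), Fintype.card F = q ^ 2 ∧ Odd q ∧ 3 ≤ n ∧ n ≤ 5 ∧
    Nonempty (G ≃* PSU n F q)) ∨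
  (∃ (F : Type) (_ : Field F) (_ : Fintype F), Odd (Fintype.card F) ∧
    Nonempty (G ≃* POmega F (quadFormOdd 3 F))) ∨
  (∃ (F : Type) (_ : Field F) (_ : Fintype F), Odd (Fintype.card F) ∧ Nonempty (G ≃* ↥(Lie.chevG2.group F))) ∨
  (∃ (F : Type) (_ : Field F) (_ : Fintype F) (q : ℕ), Odd q ∧ IsPrimePow q ∧ Fintype.card F = q ^ 3 ∧
    Nonempty (G ≃* ↥(Lie.twistedD4 F q))) ∨
  Lie.IsoRee G ∨
  (∃ (F : Type) (_ : Field F) (_ : Fintype F) (a b : F), Odd (Fintype.card F) ∧
    (∀ z₁ z₂ : F, z₁ ^ 2 + a * z₁ * z₂ + b * z₂ ^ 2 = 0 → z₁ = 0 ∧ z₂ = 0) ∧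
    Nonempty (G ≃* POmega F (quadFormMinus 3 F a b))) ∨
  (∃ g ∈ small, _root_.Cfsg.Agent.OrdDiv.Real g G ∧ Nat.card G = ordN g)

theorem spor_small {g : Grp} {o : ℕ} (hg : (g, o) ∈ spor) (h10 : ¬ 2 ^ 11 ∣ o) : g ∈ small := by
  refine mem_small 14 (List.mem_map.2 ⟨(g, o), List.mem_filter.2 ⟨hg, ?_⟩, rfl⟩)
  have : o % 2048 ≠ 0 := fun h => h10 (Nat.dvd_of_mod_eq_zero h)
  simpa using this

theorem rest_psl {F : Type} [Field F] [Fintype F] {n : ℕ} (hn : 2 ≤ n) (hn2 : n = 2 → 4 ≤ Fintype.card F)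
    (h10 : ¬ 2 ^ 11 ∣ Nat.card (Matrix.ProjectiveSpecialLinearGroup (Fin n) F)) :
    (Odd (Fintype.card F) ∧ n ≤ 5) ∨ (.psl n (Fintype.card F) ∈ small ∧
      Nat.card (Matrix.ProjectiveSpecialLinearGroup (Fin n) F) = ordN (.psl n (Fintype.card F))) := by
  have hq : 1 < Fintype.card F := Fintype.one_lt_card
  have hc := psl_card (F := F) hn
  by_cases ho : Odd (Fintype.card F)
  · left
    refine ⟨ho, ?_⟩
    by_contra hlt
    exact h10 (psl_ge (by omega) ho hq hc)
  · right
    have hok : fPSL.ok n (Fintype.card F) = true := by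
      change (!(Nat.beq n 2 && Nat.blt (Fintype.card F) 4)) = true
      by_cases h2 : n = 2
      · have h4 := hn2 h2
        have : Nat.blt (Fintype.card F) 4 = false := by
          rw [← Bool.not_eq_true, Nat.blt_eq]
          omega
        rw [this, Bool.and_false]
        rfl
      · have : Nat.beq n 2 = false := by
          rw [← Bool.not_eq_true, Nat.beq_eq]
          exact h2
        rw [this, Bool.false_and]
        rfl
    have hcop : (fPSL.den n (Fintype.card F)).Coprime (Fintype.card F) := by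
      change (Nat.gcd n (Fintype.card F - 1) * (Fintype.card F - 1)).Coprime (Fintype.card F)
      have h1 := cop_sub (q := Fintype.card F) (k := 1) (by omega) le_rfl
      rw [pow_one] at h1
      exact Nat.Coprime.mul_left (Nat.Coprime.coprime_dvd_left (Nat.gcd_dvd_right _ _) h1) h1
    obtain ⟨h1, h2⟩ := even_box (D := fPSL) Fintype.isPrimePow_card_of_field ho hn (le_tri hn).1 (le_tri hn).2 hok hc
      (pow_dvd_glN n _) hcop h10
    exact ⟨mem_small 0 (List.mem_map.2 ⟨_, h1, rfl⟩), h2⟩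

theorem rest_psp {F : Type} [Field F] [Fintype F] {m : ℕ} (hm : 2 ≤ m) (hm2 : m = 2 → 3 ≤ Fintype.card F)
    (h10 : ¬ 2 ^ 11 ∣ Nat.card (PSp m F)) :
    (Odd (Fintype.card F) ∧ m ≤ 3) ∨ (.psp m (Fintype.card F) ∈ small ∧
      Nat.card (PSp m F) = ordN (.psp m (Fintype.card F))) := by
  have hq : 1 < Fintype.card F := Fintype.one_lt_card
  have hc := psp_card (F := F) (m := m) (by omega)
  by_cases ho : Odd (Fintype.card F)
  · left
    refine ⟨ho, ?_⟩
    by_contra hlt
    exact h10 (psp_ge (by omega) ho hc)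
  · right
    have hmm : m ≤ m ^ 2 := by nlinarith only []
    have hok : fPSp.ok m (Fintype.card F) = true := by
      change (!(Nat.beq m 2 && Nat.blt (Fintype.card F) 3)) = true
      by_cases h2 : m = 2
      · have h4 := hm2 h2
        have : Nat.blt (Fintype.card F) 3 = false := by
          rw [← Bool.not_eq_true, Nat.blt_eq]
          omega
        rw [this, Bool.and_false]
        rfl
      · have : Nat.beq m 2 = false := by
          rw [← Bool.not_eq_true, Nat.beq_eq]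
          exact h2
        rw [this, Bool.false_and]
        rfl
    have hcop : (fPSp.den m (Fintype.card F)).Coprime (Fintype.card F) := by
      change (Nat.gcd 2 (Fintype.card F - 1)).Coprime (Fintype.card F)
      have h1 := cop_sub (q := Fintype.card F) (k := 1) (by omega) le_rfl
      rw [pow_one] at h1
      exact Nat.Coprime.coprime_dvd_left (Nat.gcd_dvd_right _ _) h1
    obtain ⟨h1, h2⟩ := even_box (D := fPSp) Fintype.isPrimePow_card_of_field ho hm (hmm.trans (Nat.le_succ _))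
      (Nat.one_le_pow _ _ (by omega)) hok hc (Dvd.intro _ rfl) hcop h10
    exact ⟨mem_small 1 (List.mem_map.2 ⟨_, h1, rfl⟩), h2⟩

theorem rest_psu {F : Type} [Field F] [Fintype F] {n q : ℕ} (hF : Fintype.card F = q ^ 2) (hn : 3 ≤ n)
    (hn2 : ¬ (n = 3 ∧ q = 2)) (h10 : ¬ 2 ^ 11 ∣ Nat.card (PSU n F q)) :
    (Odd q ∧ n ≤ 5) ∨ (.psu n q ∈ small ∧ Nat.card (PSU n F q) = ordN (.psu n q)) := by
  have hq2 : IsPrimePow (q ^ 2) := hF ▸ Fintype.isPrimePow_card_of_field
  have hqp : IsPrimePow q := (isPrimePow_pow_iff (by norm_num)).1 hq2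
  have hc := psu_card hF (n := n) (by omega)
  by_cases ho : Odd q
  · left
    refine ⟨ho, ?_⟩
    by_contra hlt
    exact h10 (psu_ge (by omega) ho hc)
  · right
    have hok : fPSU.ok n q = true := by
      change (!(Nat.beq n 3 && Nat.beq q 2)) = true
      by_cases h2 : n = 3
      · have h4 : q ≠ 2 := fun h => hn2 ⟨h2, h⟩
        have : Nat.beq q 2 = false := by
          rw [← Bool.not_eq_true, Nat.beq_eq]
          exact h4
        rw [this, Bool.and_false]
        rfl
      · have : Nat.beq n 3 = false := by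
          rw [← Bool.not_eq_true, Nat.beq_eq]
          exact h2
        rw [this, Bool.false_and]
        rfl
    have hcop : (fPSU.den n q).Coprime q := by
      change (Nat.gcd n (q + 1) * (q + 1)).Coprime q
      have h1 := cop_add (q := q) (k := 1) le_rfl
      rw [pow_one] at h1
      exact Nat.Coprime.mul_left (Nat.Coprime.coprime_dvd_left (Nat.gcd_dvd_right _ _) h1) h1
    obtain ⟨h1, h2⟩ := even_box (D := fPSU) hqp ho hn (le_tri (by omega)).1 (le_tri (by omega)).2 hok hc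
      (Dvd.intro _ rfl) hcop h10
    exact ⟨mem_small 2 (List.mem_map.2 ⟨_, h1, rfl⟩), h2⟩

theorem rest_oplus {F : Type} [Field F] [Fintype F] {m : ℕ} (hm : 4 ≤ m) :
    2 ^ 11 ∣ Nat.card (POmega F (quadFormPlus m F)) := by
  by_contra h10
  have hq : 1 < Fintype.card F := Fintype.one_lt_card
  have hc := oplus_card (F := F) hm
  by_cases ho : Odd (Fintype.card F)
  · exact h10 (oplus_ge hm ho hc)
  · have hmm : m ≤ m * (m - 1) := Nat.le_mul_of_pos_right _ (by omega)
    obtain ⟨h1, h2⟩ := even_box (D := fOPlus) Fintype.isPrimePow_card_of_field ho hm (hmm.trans (Nat.le_succ _))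
      (le_trans (by omega) hmm) rfl hc (Dvd.intro _ rfl)
      (by
        change (Nat.gcd 4 (Fintype.card F ^ m - 1)).Coprime (Fintype.card F)
        exact Nat.Coprime.coprime_dvd_left (Nat.gcd_dvd_right _ _) (cop_sub (by omega) (by omega))) h10
    have h3 : ∀ x ∈ (box [(2, 10)] fOPlus.e fOPlus.lo).filter (fun x => fOPlus.ok x.1 x.2), False := by
      decide +kernel
    exact h3 _ h1

theorem rest_ominus {F : Type} [Field F] [Fintype F] {m : ℕ} (hm : 4 ≤ m) {a b : F}
    (hab : ∀ z₁ z₂ : F, z₁ ^ 2 + a * z₁ * z₂ + b * z₂ ^ 2 = 0 → z₁ = 0 ∧ z₂ = 0)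
    (hm4 : ¬ (m = 4 ∧ Odd (Fintype.card F))) :
    2 ^ 11 ∣ Nat.card (POmega F (quadFormMinus (m - 1) F a b)) := by
  by_contra h10
  have hq : 1 < Fintype.card F := Fintype.one_lt_card
  have hc := ominus_card (F := F) hm hab
  by_cases ho : Odd (Fintype.card F)
  · exact h10 (ominus_ge (by by_contra h5; exact hm4 ⟨by omega, ho⟩) ho hc)
  · have hmm : m ≤ m * (m - 1) := Nat.le_mul_of_pos_right _ (by omega)
    obtain ⟨h1, h2⟩ := even_box (D := fOMinus) Fintype.isPrimePow_card_of_field ho hm (hmm.trans (Nat.le_succ _))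
      (le_trans (by omega) hmm) rfl hc (Dvd.intro _ rfl)
      (by
        change (Nat.gcd 4 (Fintype.card F ^ m + 1)).Coprime (Fintype.card F)
        exact Nat.Coprime.coprime_dvd_left (Nat.gcd_dvd_right _ _) (cop_add (by omega))) h10
    have h3 : ∀ x ∈ (box [(2, 10)] fOMinus.e fOMinus.lo).filter (fun x => fOMinus.ok x.1 x.2), False := by
      decide +kernel
    exact h3 _ h1

/-- an exceptional family with large 2-part -/
theorem exc_all {a : ℕ} {f den : ℕ → ℕ} {q c : ℕ} (ha : 11 ≤ a)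
    (hd : den q ∣ 2 ∨ den q ∣ 3) (hc : den q * c = q ^ a * f q) (hcop : (den q).Coprime q)
    (hf : (q ^ 2 - 1) * (q ^ 6 - 1) * (q ^ 8 - 1) * (q ^ 12 - 1) ∣ f q ∨ ¬ Odd q) : 2 ^ 11 ∣ c := by
  by_cases ho : Odd q
  · have hf' := hf.resolve_right (by simpa only [_root_.Nat.not_odd_iff_even, _root_.Nat.not_even_iff_odd] using ho)
    exact exc_ge ho hd hc (hf'.trans (Dvd.intro_left _ rfl))
  · have h1 : q ^ a ∣ c := by
      have h2 : q ^ a ∣ den q * c := by rw [hc]; exact Dvd.intro _ rfl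
      exact Nat.Coprime.dvd_of_dvd_mul_left (Nat.Coprime.pow_left _ hcop.symm) h2
    have h2 : 2 ∣ q := (Nat.not_odd_iff_even.1 ho).two_dvd
    exact ((pow_dvd_pow 2 ha).trans (pow_dvd_pow_of_dvd h2 a)).trans h1

/-- **The main list.** -/
theorem main (T : OrderTable.{u}) {G : Type u} [Group G] (h : IsKnownSimple' G)
    (hna : ¬ ∀ a b : G, a * b = b * a) (h10 : ¬ 2 ^ 11 ∣ Nat.card G) : Rest G := by
  have key : ∀ (g : Grp), g ∈ spor.map (fun x => x.1) → Real g G → Rest G := fun g hg hr => by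
    obtain ⟨x, hx, rfl⟩ := List.mem_map.1 hg
    have h1 := T.spor G x hx hr
    iterate 9 right
    exact ⟨x.1, spor_small (g := x.1) (o := x.2) hx (by rw [← h1]; exact h10), hr, h1.trans (spor_ord x hx).symm⟩
  rcases h with h | h | h | h | h | h | h | h | h | h
  · exfalso
    have : Fact (Nat.card G).Prime := ⟨h⟩
    have : IsCyclic G := isCyclic_of_prime_card (p := Nat.card G) rfl
    exact hna fun a b => (IsCyclic.isMulCommutative (α := G)).is_comm.comm a b
  · obtain ⟨n, hn, ⟨e⟩⟩ := h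
    left
    refine ⟨n, hn, ?_, ⟨e⟩⟩
    by_contra hlt
    have h1 := alt_card hn e
    have h2 : Nat.factorial 16 ∣ 2 * Nat.card G := by rw [← h1]; exact Nat.factorial_dvd_factorial (by omega)
    have h3 : 2 * 2 ^ 11 ∣ 2 * Nat.card G := (show 2 * 2 ^ 11 ∣ Nat.factorial 16 by decide +kernel).trans h2
    exact h10 (Nat.dvd_of_mul_dvd_mul_left (by norm_num) h3)
  · obtain ⟨F, _, _, n, hn, hn2, ⟨e⟩⟩ := h
    have hcc := Nat.card_congr e.toEquiv
    rw [hcc] at h10
    rcases rest_psl hn hn2 h10 with h | ⟨h1, h2⟩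
    · right; left
      exact ⟨F, inferInstance, inferInstance, n, h.1, hn, h.2, ⟨e⟩⟩
    · iterate 9 right
      exact ⟨_, h1, ⟨F, inferInstance, inferInstance, rfl, ⟨e⟩⟩, hcc.trans h2⟩
  · obtain ⟨F, _, _, n, hn, hn2, ⟨e⟩⟩ := h
    have hcc := Nat.card_congr e.toEquiv
    rw [hcc] at h10
    rcases rest_psp hn hn2 h10 with h | ⟨h1, h2⟩
    · iterate 2 right
      left
      exact ⟨F, inferInstance, inferInstance, n, h.1, hn, h.2, ⟨e⟩⟩
    · iterate 9 right
      exact ⟨_, h1, ⟨F, inferInstance, inferInstance, rfl, ⟨e⟩⟩, hcc.trans h2⟩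
  · obtain ⟨F, _, _, n, q, hF, hn, hn2, ⟨e⟩⟩ := h
    have hcc := Nat.card_congr e.toEquiv
    rw [hcc] at h10
    rcases rest_psu hF hn hn2 h10 with h | ⟨h1, h2⟩
    · iterate 3 right
      left
      exact ⟨F, inferInstance, inferInstance, n, q, hF, h.1, hn, h.2, ⟨e⟩⟩
    · iterate 9 right
      exact ⟨_, h1, ⟨F, inferInstance, inferInstance, hF, ⟨e⟩⟩, hcc.trans h2⟩
  · obtain ⟨F, _, _, n, hn, ho, ⟨e⟩⟩ := h
    rw [Nat.card_congr e.toEquiv] at h10
    obtain rfl : n = 3 := by
      by_contra hne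
      exact h10 (oodd_ge (by omega) ho (oodd_card hn ho))
    iterate 4 right
    left
    exact ⟨F, inferInstance, inferInstance, ho, ⟨e⟩⟩
  · obtain ⟨F, _, _, n, hn, ⟨e⟩⟩ := h
    rw [Nat.card_congr e.toEquiv] at h10
    exact absurd (rest_oplus hn) h10
  · obtain ⟨F, _, _, n, a, b, hn, hab, ⟨e⟩⟩ := h
    rw [Nat.card_congr e.toEquiv] at h10
    by_cases h4 : n = 4 ∧ Odd (Fintype.card F)
    · obtain ⟨rfl, ho⟩ := h4
      iterate 8 right
      left
      exact ⟨F, inferInstance, inferInstance, a, b, ho, hab, ⟨e⟩⟩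
    · exact absurd (rest_ominus hn hab h4) h10
  · rcases h with h | h | h | h | h | h | h | h | h | h | h
    · obtain ⟨F, _, _, hq, ⟨e⟩⟩ := h
      have hcc := Nat.card_congr e.toEquiv
      rw [hcc] at h10
      by_cases ho : Odd (Fintype.card F)
      · iterate 5 right
        left
        exact ⟨F, inferInstance, inferInstance, ho, ⟨e⟩⟩
      · exfalso
        obtain ⟨h1, -⟩ : (0, Fintype.card F) ∈ (box [(2, 10)] fG2.e fG2.lo).filter (fun x => fG2.ok x.1 x.2) ∧
            Nat.card ↥(Lie.chevG2.group F) = fG2.num 0 (Fintype.card F) / fG2.den 0 (Fintype.card F) :=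
          one_even (a := 6) (f := fun q => (q ^ 2 - 1) * (q ^ 6 - 1)) (den := fun _ => 1)
            (ok := fun q => Nat.ble 3 q) (by norm_num) Fintype.isPrimePow_card_of_field ho (by rw [Nat.ble_eq]; exact hq)
            (by rw [T.g2 F]; ring) (Nat.coprime_one_left _) h10
        have h3 : ∀ x ∈ (box [(2, 10)] fG2.e fG2.lo).filter (fun x => fG2.ok x.1 x.2), False := by
          decide +kernel
        exact h3 _ h1
    · obtain ⟨F, _, _, ⟨e⟩⟩ := h
      rw [Nat.card_congr e.toEquiv] at h10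
      refine absurd (exc_all (a := 24) (f := fun q => (q ^ 2 - 1) * (q ^ 6 - 1) * (q ^ 8 - 1) * (q ^ 12 - 1))
        (den := fun _ => 1) (q := Fintype.card F) (by norm_num)
        (Or.inl (one_dvd _)) (by rw [T.f4 F _ rfl]; ring)
        (Nat.coprime_one_left _) (Or.inl dvd_rfl)) h10
    · obtain ⟨F, _, _, ⟨e⟩⟩ := h
      rw [Nat.card_congr e.toEquiv] at h10
      have h0 := cop_sub (q := Fintype.card F) (k := 1) Fintype.card_pos le_rfl
      rw [pow_one] at h0
      refine absurd (exc_all (a := 36)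
        (f := fun q => (q ^ 2 - 1) * (q ^ 5 - 1) * (q ^ 6 - 1) * (q ^ 8 - 1) * (q ^ 9 - 1) * (q ^ 12 - 1))
        (den := fun q => Nat.gcd 3 (q - 1)) (q := Fintype.card F) (by norm_num)
        (Or.inr (Nat.gcd_dvd_left _ _)) (by rw [T.e6 F _ rfl]; ring)
        (Nat.Coprime.coprime_dvd_left (Nat.gcd_dvd_right _ _) h0)
        (Or.inl ⟨(Fintype.card F ^ 5 - 1) * (Fintype.card F ^ 9 - 1), by ring⟩)) h10
    · obtain ⟨F, _, _, ⟨e⟩⟩ := h
      rw [Nat.card_congr e.toEquiv] at h10
      have h0 := cop_sub (q := Fintype.card F) (k := 1) Fintype.card_pos le_rfl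
      rw [pow_one] at h0
      refine absurd (exc_all (a := 63)
        (f := fun q => (q ^ 2 - 1) * (q ^ 6 - 1) * (q ^ 8 - 1) * (q ^ 10 - 1) * (q ^ 12 - 1) *
          (q ^ 14 - 1) * (q ^ 18 - 1))
        (den := fun q => Nat.gcd 2 (q - 1)) (q := Fintype.card F) (by norm_num)
        (Or.inl (Nat.gcd_dvd_left _ _)) (by rw [T.e7 F _ rfl]; ring)
        (Nat.Coprime.coprime_dvd_left (Nat.gcd_dvd_right _ _) h0)
        (Or.inl ⟨(Fintype.card F ^ 10 - 1) * (Fintype.card F ^ 14 - 1) *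
          (Fintype.card F ^ 18 - 1), by ring⟩)) h10
    · obtain ⟨F, _, _, ⟨e⟩⟩ := h
      rw [Nat.card_congr e.toEquiv] at h10
      refine absurd (exc_all (a := 120)
        (f := fun q => (q ^ 2 - 1) * (q ^ 8 - 1) * (q ^ 12 - 1) * (q ^ 14 - 1) * (q ^ 18 - 1) *
          (q ^ 20 - 1) * (q ^ 24 - 1) * (q ^ 30 - 1))
        (den := fun _ => 1) (q := Fintype.card F) (by norm_num)
        (Or.inl (one_dvd _)) (by rw [T.e8 F _ rfl]; ring)
        (Nat.coprime_one_left _) (Or.inl ?_)) h10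
      have h12 : Fintype.card F ^ 6 - 1 ∣ Fintype.card F ^ 18 - 1 := by
        have := Nat.sub_dvd_pow_sub_pow (Fintype.card F ^ 6) 1 3
        rwa [one_pow, ← pow_mul] at this
      obtain ⟨k, hk⟩ := h12
      refine ⟨k * (Fintype.card F ^ 14 - 1) * (Fintype.card F ^ 20 - 1) *
        (Fintype.card F ^ 24 - 1) * (Fintype.card F ^ 30 - 1), ?_⟩
      rw [hk]
      ring
    · obtain ⟨F, _, _, q, hq, hF, ⟨e⟩⟩ := h
      rw [Nat.card_congr e.toEquiv] at h10
      have h0 := cop_add (q := q) (k := 1) le_rfl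
      rw [pow_one] at h0
      refine absurd (exc_all (a := 36)
        (f := fun q => (q ^ 2 - 1) * (q ^ 5 + 1) * (q ^ 6 - 1) * (q ^ 8 - 1) * (q ^ 9 + 1) * (q ^ 12 - 1))
        (den := fun q => Nat.gcd 3 (q + 1)) (q := q) (by norm_num)
        (Or.inr (Nat.gcd_dvd_left _ _)) (by rw [T.te6 F q hq hF]; ring)
        (Nat.Coprime.coprime_dvd_left (Nat.gcd_dvd_right _ _) h0)
        (Or.inl ⟨(q ^ 5 + 1) * (q ^ 9 + 1), by ring⟩)) h10
    · obtain ⟨F, _, _, q, hq, hF, ⟨e⟩⟩ := h
      rw [Nat.card_congr e.toEquiv] at h10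
      by_cases ho : Odd q
      · iterate 6 right
        left
        exact ⟨F, inferInstance, inferInstance, q, ho, hq, hF, ⟨e⟩⟩
      · exact absurd (exc_all (a := 12) (f := fun q => (q ^ 2 - 1) * (q ^ 6 - 1) * (q ^ 8 + q ^ 4 + 1))
          (den := fun _ => 1) (q := q) (by norm_num)
          (Or.inl (one_dvd _)) (by rw [T.td4 F q hq hF]; ring) (Nat.coprime_one_left _) (Or.inr ho)) h10
    · obtain ⟨F, _, _, m, hm, hF, ⟨e⟩⟩ := h
      have hcc := Nat.card_congr e.toEquiv
      rw [hcc] at h10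
      obtain ⟨h1, h2⟩ : (0, 2 ^ (2 * m + 1)) ∈ (box [(2, 10)] fSz.e fSz.lo).filter (fun x => fSz.ok x.1 x.2) ∧
          Nat.card ↥(Lie.Sz F (2 ^ (m + 1))) = fSz.num 0 (2 ^ (2 * m + 1)) / fSz.den 0 (2 ^ (2 * m + 1)) :=
        one_even (a := 2) (f := fun q => (q - 1) * (q ^ 2 + 1)) (den := fun _ => 1)
          (ok := fun q => Nat.blt 2 q && Nat.beq (q % 2) 0 && Nat.beq (q % 3) 2) (by norm_num) (Nat.prime_two.isPrimePow.pow (by omega))
          (by rw [Nat.not_odd_iff_even]; exact (even_two).pow_of_ne_zero (by omega)) (ok_two hm)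
          (by rw [T.sz F m hm hF]; ring) (Nat.coprime_one_left _) h10
      iterate 9 right
      exact ⟨.sz (2 ^ (2 * m + 1)), mem_small 12 (List.mem_map.2 ⟨_, h1, rfl⟩),
        ⟨F, inferInstance, inferInstance, m, hm, hF, rfl, ⟨e⟩⟩, hcc.trans h2⟩
    · iterate 7 right
      left
      exact h
    · obtain ⟨F, _, _, m, hm, hF, ⟨e⟩⟩ := h
      rw [Nat.card_congr e.toEquiv] at h10
      exact absurd (exc_all (a := 12) (f := fun q => (q - 1) * (q ^ 3 + 1) * (q ^ 4 - 1) * (q ^ 6 + 1))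
        (den := fun _ => 1) (q := 2 ^ (2 * m + 1)) (by norm_num)
        (Or.inl (one_dvd _)) (by rw [T.tf4 F m hm hF]; ring)
        (Nat.coprime_one_left _)
        (Or.inr (by rw [Nat.not_odd_iff_even]; exact (even_two).pow_of_ne_zero (by omega)))) h10
    · exact key .tits (by decide) h
  · rcases h with h | h | h | h | h | h | h | h | h | h | h | h | h | h | h | h | h | h | h | h | h | h | h | h | h | h
    · exact key .m11 (by decide) h
    · exact key .m12 (by decide) h
    · exact key .m22 (by decide) h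
    · exact key .m23 (by decide) h
    · exact key .m24 (by decide) h
    · exact key .j1 (by decide) h
    · exact key .j2 (by decide) h
    · exact key .j3 (by decide) h
    · exact key .j4 (by decide) h
    · exact key .co1 (by decide) h
    · exact key .co2 (by decide) h
    · exact key .co3 (by decide) h
    · exact key .mcl (by decide) h
    · exact key .hs (by decide) h
    · exact key .suz (by decide) h
    · exact key .he (by decide) h
    · exact key .ru (by decide) h
    · exact key .on (by decide) h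
    · exact key .ly (by decide) h
    · exact key .fi22 (by decide) h
    · exact key .fi23 (by decide) h
    · exact key .fi24 (by decide) h
    · exact key .hn (by decide) h
    · exact key .th (by decide) h
    · exact key .b (by decide) h
    · exact key .m (by decide) h

end Cfsg.Agent.H314.Co3.Eng
end

-- part: H314/Co3/Num
section
/-!
# S1920, case A: arithmetic of the 2-parts (helper314)
-/

set_option autoImplicit false

namespace Cfsg.Agent.H314.Co3.Num

open Cfsg Cfsg.Agent.OrdDiv Cfsg.Agent.H285 Cfsg.Agent.H285.TwoPart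

theorem v_odd {n : ℕ} (h : Odd n) : n.factorization 2 = 0 :=
  Nat.factorization_eq_zero_of_not_dvd fun h' => (Nat.not_even_iff_odd.2 h) (even_iff_two_dvd.2 h')

theorem v_mul {a b : ℕ} (ha : a ≠ 0) (hb : b ≠ 0) :
    (a * b).factorization 2 = a.factorization 2 + b.factorization 2 := by
  rw [Nat.factorization_mul ha hb, Finsupp.add_apply]

theorem v_pow (a k : ℕ) : (a ^ k).factorization 2 = k * a.factorization 2 := by
  rw [Nat.factorization_pow, Finsupp.smul_apply, smul_eq_mul]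

theorem v_two : (2 : ℕ).factorization 2 = 1 := Nat.Prime.factorization_self Nat.prime_two

theorem dvd_of_v {n k : ℕ} (hn : n ≠ 0) (h : k ≤ n.factorization 2) : 2 ^ k ∣ n :=
  (Nat.Prime.pow_dvd_iff_le_factorization Nat.prime_two hn).2 h

/-- squares -/
theorem sq32 {c x y : ℕ} (hx : x ≠ 0) (hy : Odd y) (h : c = y * x ^ 2) (hc : c.factorization 2 = 10) : 32 ∣ x := by
  rw [h, v_mul hy.pos.ne' (pow_ne_zero 2 hx), v_odd hy, v_pow] at hc
  exact dvd_of_v (k := 5) hx (by omega)

/-- cubes -/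
theorem cube_ne {c x y : ℕ} (hx : x ≠ 0) (hy : Odd y) (h : c = y * x ^ 3) (hc : c.factorization 2 = 10) : False := by
  rw [h, v_mul hy.pos.ne' (pow_ne_zero 3 hx), v_odd hy, v_pow] at hc
  omega

/-- `q ^ 2 - 1` and its companions -/
theorem x_ne {q : ℕ} (hq1 : 1 < q) : q ^ 2 - 1 ≠ 0 := by
  have : 2 ^ 2 ≤ q ^ 2 := Nat.pow_le_pow_left hq1 2
  omega

theorem q4 {q : ℕ} : q ^ 4 - 1 = (q ^ 2 - 1) * (q ^ 2 + 1) := by
  have h := Nat.sq_sub_sq (q ^ 2) 1
  rw [one_pow] at h
  rw [show q ^ 4 = (q ^ 2) ^ 2 by ring, h, mul_comm]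

theorem q6 {q : ℕ} (hq1 : 1 < q) : q ^ 6 - 1 = (q ^ 2 - 1) * (q ^ 4 + q ^ 2 + 1) := by
  obtain ⟨x, hx⟩ : ∃ x, q ^ 2 = x + 1 := ⟨q ^ 2 - 1, by have := x_ne hq1; omega⟩
  rw [show q ^ 6 = (q ^ 2) ^ 3 by ring, show q ^ 4 = (q ^ 2) ^ 2 by ring, hx, Nat.add_sub_cancel]
  apply Nat.sub_eq_of_eq_add
  ring

theorem half_odd {q : ℕ} (hq : Odd q) : ∃ y, Odd y ∧ q ^ 2 + 1 = 2 * y := by
  obtain ⟨k, rfl⟩ := hq
  exact ⟨2 * (k ^ 2 + k) + 1, ⟨k ^ 2 + k, rfl⟩, by ring⟩

theorem odd_q4 {q : ℕ} (hq : Odd q) : Odd (q ^ 4 + q ^ 2 + 1) := by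
  have h4 : Odd (q ^ 4) := hq.pow
  have h2 : Odd (q ^ 2) := hq.pow
  exact (h4.add_odd h2).add_one

theorem odd_q8 {q : ℕ} (hq : Odd q) : Odd (q ^ 8 + q ^ 4 + 1) := by
  have h4 : Odd (q ^ 8) := hq.pow
  have h2 : Odd (q ^ 4) := hq.pow
  exact (h4.add_odd h2).add_one

theorem psp4 {q c : ℕ} (hq : Odd q) (hq1 : 1 < q) (h : fPSp.den 2 q * c = fPSp.num 2 q) (hc : c.factorization 2 = 10) :
    32 ∣ q ^ 2 - 1 := by
  change Nat.gcd 2 (q - 1) * c = q ^ (2 ^ 2) * prB q 2 at h
  obtain ⟨y, hy, hy2⟩ := half_odd hq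
  have hg : Nat.gcd 2 (q - 1) = 2 := by
    apply Nat.gcd_eq_left
    obtain ⟨k, rfl⟩ := hq
    exact ⟨k, by omega⟩
  rw [hg, prB_two, q4, hy2] at h
  have e : c = (q ^ 4 * y) * (q ^ 2 - 1) ^ 2 := by
    have : 2 * c = 2 * ((q ^ 4 * y) * (q ^ 2 - 1) ^ 2) := by rw [h]; ring
    omega
  exact sq32 (x_ne hq1) (hq.pow.mul hy) e hc

theorem psp6 {q c : ℕ} (hq : Odd q) (hq1 : 1 < q) (h : 2 * c = q ^ 9 * prB q 3) (hc : c.factorization 2 = 10) : False := by
  obtain ⟨y, hy, hy2⟩ := half_odd hq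
  rw [prB_three, q4, hy2, q6 hq1] at h
  have e : c = (q ^ 9 * y * (q ^ 4 + q ^ 2 + 1)) * (q ^ 2 - 1) ^ 3 := by
    have : 2 * c = 2 * ((q ^ 9 * y * (q ^ 4 + q ^ 2 + 1)) * (q ^ 2 - 1) ^ 3) := by rw [h]; ring
    omega
  exact cube_ne (x_ne hq1) ((hq.pow.mul hy).mul (odd_q4 hq)) e hc

theorem g2 {q c : ℕ} (hq : Odd q) (hq1 : 1 < q) (h : c = q ^ 6 * (q ^ 2 - 1) * (q ^ 6 - 1))
    (hc : c.factorization 2 = 10) : 32 ∣ q ^ 2 - 1 := by
  rw [q6 hq1] at h
  have e : c = (q ^ 6 * (q ^ 4 + q ^ 2 + 1)) * (q ^ 2 - 1) ^ 2 := by rw [h]; ring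
  exact sq32 (x_ne hq1) (hq.pow.mul (odd_q4 hq)) e hc

theorem td4 {q c : ℕ} (hq : Odd q) (hq1 : 1 < q) (h : c = q ^ 12 * (q ^ 2 - 1) * (q ^ 6 - 1) * (q ^ 8 + q ^ 4 + 1))
    (hc : c.factorization 2 = 10) : 32 ∣ q ^ 2 - 1 := by
  rw [q6 hq1] at h
  have e : c = (q ^ 12 * (q ^ 4 + q ^ 2 + 1) * (q ^ 8 + q ^ 4 + 1)) * (q ^ 2 - 1) ^ 2 := by rw [h]; ring
  exact sq32 (x_ne hq1) ((hq.pow.mul (odd_q4 hq)).mul (odd_q8 hq)) e hc

/-- `PSL_4` -/
theorem psl4 {q c : ℕ} (hq : Odd q) (hq1 : 1 < q) (h : fPSL.den 4 q * c = fPSL.num 4 q) (hc : c.factorization 2 = 10) :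
    8 ∣ q - 1 := by
  change Nat.gcd 4 (q - 1) * (q - 1) * c = glN 4 q at h
  have hg : glN 4 q = q ^ 6 * ((q - 1) * (q ^ 2 - 1) * (q ^ 3 - 1) * (q ^ 4 - 1)) := by
    rw [TwoExact.glN_eq]
    simp only [Finset.prod_range_succ, Finset.prod_range_zero, one_mul, zero_add, pow_one, Nat.reduceAdd, pow_zero]
    ring
  rw [hg] at h
  have hq0 : 0 < q - 1 := by omega
  have h1 : Nat.gcd 4 (q - 1) * c = q ^ 6 * ((q ^ 2 - 1) * (q ^ 3 - 1) * (q ^ 4 - 1)) := by
    apply Nat.eq_of_mul_eq_mul_left hq0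
    calc (q - 1) * (Nat.gcd 4 (q - 1) * c) = Nat.gcd 4 (q - 1) * (q - 1) * c := by ring
      _ = _ := by rw [h]; ring
  obtain ⟨y, hy, hy2⟩ := half_odd hq
  have hc0 : c ≠ 0 := by
    rintro rfl
    simp at hc
  have q3 : q ^ 3 - 1 = (q - 1) * (q ^ 2 + q + 1) := by
    obtain ⟨x, rfl⟩ : ∃ x, q = x + 1 := ⟨q - 1, by omega⟩
    rw [Nat.add_sub_cancel]
    apply Nat.sub_eq_of_eq_add
    ring
  have q2 : q ^ 2 - 1 = (q - 1) * (q + 1) := by
    have := Nat.sq_sub_sq q 1
    rw [one_pow] at this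
    rw [this, mul_comm]
  have ho : Odd (q ^ 2 + q + 1) := by
    have h2 : Odd (q ^ 2) := hq.pow
    exact (h2.add_odd hq).add_one
  have hq4 : q % 4 = 1 ∨ q % 4 = 3 := by
    obtain ⟨k, rfl⟩ := hq
    omega
  have hq6 : Odd (q ^ 6) := hq.pow
  rcases hq4 with hq4 | hq4
  · have hg4 : Nat.gcd 4 (q - 1) = 4 := Nat.gcd_eq_left (by (clear * - hq4; omega))
    obtain ⟨w, hw, hw2⟩ : ∃ w, Odd w ∧ q + 1 = 2 * w := ⟨(q + 1) / 2, by rw [Nat.odd_iff]; omega, by omega⟩
    rw [hg4, q4, hy2, q3, q2, hw2] at h1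
    have e : c = (q ^ 6 * w ^ 2 * (q ^ 2 + q + 1) * y) * (2 * (q - 1) ^ 3) := by
      have : 4 * c = 4 * ((q ^ 6 * w ^ 2 * (q ^ 2 + q + 1) * y) * (2 * (q - 1) ^ 3)) := by rw [h1]; ring
      omega
    have hw' : Odd (w ^ 2) := hw.pow
    have hall := ((hq6.mul hw').mul ho).mul hy
    rw [e, v_mul hall.pos.ne' (by positivity), v_odd hall, v_mul (by norm_num) (by positivity), v_two, v_pow] at hc
    exact dvd_of_v (k := 3) hq0.ne' (by omega)
  · exfalso
    have hg2 : Nat.gcd 4 (q - 1) = 2 := by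
      obtain ⟨k, hk⟩ : ∃ k, q - 1 = 4 * k + 2 := ⟨(q - 1) / 4, by (clear * - hq4; omega)⟩
      rw [hk]
      have h' : (4 * k + 2) % 4 = 2 := by omega
      rw [Nat.gcd_rec, h']
      decide
    obtain ⟨w, hw, hw2⟩ : ∃ w, Odd w ∧ q - 1 = 2 * w := ⟨(q - 1) / 2, by rw [Nat.odd_iff]; (clear * - hq4; omega), by (clear * - hq4; omega)⟩
    rw [hg2, q4, hy2, q3, hw2] at h1
    have hx := x_ne hq1
    have e : c = (q ^ 6 * w * (q ^ 2 + q + 1) * y) * (2 * (q ^ 2 - 1) ^ 2) := by
      have : 2 * c = 2 * ((q ^ 6 * w * (q ^ 2 + q + 1) * y) * (2 * (q ^ 2 - 1) ^ 2)) := by rw [h1]; ring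
      omega
    have hall := ((hq6.mul hw).mul ho).mul hy
    rw [e, v_mul hall.pos.ne' (by (clear * - hx; positivity)), v_odd hall, v_mul (by norm_num) (by (clear * - hx; positivity)), v_two, v_pow] at hc
    omega

/-- `PSU_4` -/
theorem psu4 {q c : ℕ} (hq : Odd q) (hq1 : 1 < q) (h : fPSU.den 4 q * c = fPSU.num 4 q) (hc : c.factorization 2 = 10) :
    8 ∣ q + 1 := by
  change Nat.gcd 4 (q + 1) * (q + 1) * c = q ^ (4 * (4 - 1) / 2) * prU q 4 at h
  have hg : prU q 4 = (q + 1) * (q ^ 2 - 1) * (q ^ 3 + 1) * (q ^ 4 - 1) := by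
    unfold prU
    rw [prod_list]
    simp only [Finset.prod_range_succ, _root_.Nat.beq_eq, _root_.Finset.range_one, _root_.Finset.prod_singleton, _root_.Nat.zero_mod, ↓ _root_.reduceIte, _root_.zero_add, _root_.pow_one, _root_.Nat.mod_succ, _root_.one_ne_zero, _root_.Nat.reduceAdd, _root_.Nat.mod_self, _root_.Nat.reduceMod]
  rw [hg] at h
  have hq0 : 0 < q + 1 := by omega
  have h1 : Nat.gcd 4 (q + 1) * c = q ^ 6 * ((q ^ 2 - 1) * (q ^ 3 + 1) * (q ^ 4 - 1)) := by
    apply Nat.eq_of_mul_eq_mul_left hq0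
    calc (q + 1) * (Nat.gcd 4 (q + 1) * c) = Nat.gcd 4 (q + 1) * (q + 1) * c := by ring
      _ = _ := by rw [h]; norm_num only []; ring
  obtain ⟨y, hy, hy2⟩ := half_odd hq
  have q3 : q ^ 3 + 1 = (q + 1) * (q ^ 2 - q + 1) := by
    have h2 : q ≤ q ^ 2 := by nlinarith only []
    obtain ⟨d, hd⟩ : ∃ d, q ^ 2 = q + d := ⟨q ^ 2 - q, by omega⟩
    have e1 : q ^ 2 - q + 1 = d + 1 := by omega
    rw [e1]
    have e2 : q ^ 3 = q * (q + d) := by rw [← hd]; ring
    rw [e2]
    linarith only [hd]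
  have q2 : q ^ 2 - 1 = (q + 1) * (q - 1) := by
    have := Nat.sq_sub_sq q 1
    rw [one_pow] at this
    rw [this]
  have ho : Odd (q ^ 2 - q + 1) := by
    have h2 : Even (q ^ 2 - q) := by
      have : q ^ 2 - q = q * (q - 1) := by rw [Nat.mul_sub, mul_one, pow_two]
      rw [this]
      exact Even.mul_left (by obtain ⟨k, rfl⟩ := hq; exact ⟨k, by omega⟩) q
    exact h2.add_one
  have hq4 : q % 4 = 1 ∨ q % 4 = 3 := by
    obtain ⟨k, rfl⟩ := hq
    omega
  have hq6 : Odd (q ^ 6) := hq.pow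
  rcases hq4 with hq4 | hq4
  · exfalso
    have hg2 : Nat.gcd 4 (q + 1) = 2 := by
      obtain ⟨k, hk⟩ : ∃ k, q + 1 = 4 * k + 2 := ⟨(q + 1) / 4, by omega⟩
      rw [hk]
      have h' : (4 * k + 2) % 4 = 2 := by omega
      rw [Nat.gcd_rec, h']
      decide
    obtain ⟨w, hw, hw2⟩ : ∃ w, Odd w ∧ q + 1 = 2 * w := ⟨(q + 1) / 2, by rw [Nat.odd_iff]; omega, by omega⟩
    rw [hg2, q4, hy2, q3, hw2] at h1
    have hx := x_ne hq1
    have e : c = (q ^ 6 * w * (q ^ 2 - q + 1) * y) * (2 * (q ^ 2 - 1) ^ 2) := by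
      have : 2 * c = 2 * ((q ^ 6 * w * (q ^ 2 - q + 1) * y) * (2 * (q ^ 2 - 1) ^ 2)) := by rw [h1]; ring
      omega
    have hall := ((hq6.mul hw).mul ho).mul hy
    rw [e, v_mul hall.pos.ne' (by (clear * - hx; positivity)), v_odd hall, v_mul (by norm_num) (by (clear * - hx; positivity)), v_two, v_pow] at hc
    omega
  · have hg4 : Nat.gcd 4 (q + 1) = 4 := Nat.gcd_eq_left (by omega)
    obtain ⟨w, hw, hw2⟩ : ∃ w, Odd w ∧ q - 1 = 2 * w := ⟨(q - 1) / 2, by rw [Nat.odd_iff]; omega, by omega⟩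
    rw [hg4, q4, hy2, q3, q2, hw2] at h1
    have e : c = (q ^ 6 * w ^ 2 * (q ^ 2 - q + 1) * y) * (2 * (q + 1) ^ 3) := by
      have : 4 * c = 4 * ((q ^ 6 * w ^ 2 * (q ^ 2 - q + 1) * y) * (2 * (q + 1) ^ 3)) := by rw [h1]; ring
      omega
    have hw' : Odd (w ^ 2) := hw.pow
    have hall := ((hq6.mul hw').mul ho).mul hy
    rw [e, v_mul hall.pos.ne' (by positivity), v_odd hall, v_mul (by norm_num) (by positivity), v_two, v_pow] at hc
    exact dvd_of_v (k := 3) hq0.ne' (by omega)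

/-- `PSL_2` -/
theorem psl2 {q c : ℕ} (hq : Odd q) (hq1 : 1 < q) (h : fPSL.den 2 q * c = fPSL.num 2 q) (hc : c.factorization 2 = 10) :
    2 ^ 9 ∣ (q - 1) / 2 ∨ 2 ^ 9 ∣ (q + 1) / 2 := by
  change Nat.gcd 2 (q - 1) * (q - 1) * c = glN 2 q at h
  have hg : glN 2 q = q * ((q - 1) * (q ^ 2 - 1)) := by
    rw [TwoExact.glN_eq]
    simp only [Finset.prod_range_succ, _root_.Finset.range_one, _root_.Finset.prod_singleton, _root_.pow_zero, _root_.pow_one, _root_.one_mul, _root_.zero_add, _root_.Nat.reduceAdd]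
  have hg2 : Nat.gcd 2 (q - 1) = 2 := by
    apply Nat.gcd_eq_left
    obtain ⟨k, rfl⟩ := hq
    exact ⟨k, by omega⟩
  have hq0 : 0 < q - 1 := by omega
  rw [hg, hg2] at h
  have h1 : 2 * c = q * (q ^ 2 - 1) := by
    apply Nat.eq_of_mul_eq_mul_left hq0
    calc (q - 1) * (2 * c) = 2 * (q - 1) * c := by ring
      _ = _ := by rw [h]; ring
  have q2 : q ^ 2 - 1 = (q + 1) * (q - 1) := by
    have := Nat.sq_sub_sq q 1
    rw [one_pow] at this
    rw [this]
  have hc0 : c ≠ 0 := by
    rintro rfl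
    simp at hc
  obtain ⟨a, ha⟩ : ∃ a, q = 2 * a + 1 := id hq
  have ea : (q - 1) / 2 = a := by (clear * - ha; omega)
  have eb : (q + 1) / 2 = a + 1 := by omega
  have h2 : 2 * c = 2 * (2 * (q * (a * (a + 1)))) := by
    rw [h1, q2, show q + 1 = 2 * (a + 1) by omega, show q - 1 = 2 * a by (clear * - ha; omega)]; ring
  have h3 : c = 2 * (q * (a * (a + 1))) := by omega
  have ha0 : a ≠ 0 := by omega
  rw [h3, v_mul (by norm_num) (by (clear * - hq1 ha0; positivity)), v_two, v_mul (by omega) (by (clear * - ha0; positivity)), v_odd hq,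
    v_mul ha0 (by omega)] at hc
  rw [ea, eb]
  rcases Nat.even_or_odd a with hae | hao
  · left
    have : Odd (a + 1) := hae.add_one
    rw [v_odd this] at hc
    exact dvd_of_v ha0 (by omega)
  · right
    rw [v_odd hao] at hc
    exact dvd_of_v (by omega) (by omega)

end Cfsg.Agent.H314.Co3.Num
end

-- part: H314/Co3/RowLin
section
/-!
# S1920, case A: linear and unitary groups (helper314)
-/

set_option autoImplicit false

open Subgroup Cfsg Matrix
open scoped MatrixGroups

namespace Cfsg.Agent.H314.Co3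

open Cfsg.Agent.OrdDiv

theorem odd_card_of {X : Type*} [Group X] [Finite X] (h : ∀ x : X, x * x = 1 → x = 1) : Odd (Nat.card X) := by
  rw [← Nat.not_even_iff_odd]
  intro he
  have : Fact (Nat.Prime 2) := ⟨Nat.prime_two⟩
  obtain ⟨x, hx⟩ := exists_prime_orderOf_dvd_card' (G := X) 2 he.two_dvd
  have h1 : x * x = 1 := by
    have := pow_orderOf_eq_one x
    rwa [hx, pow_two] at this
  rw [h x h1, orderOf_one] at hx
  exact absurd hx (by norm_num)

theorem two_ne {F : Type*} [Field F] [Fintype F] (h : Odd (Fintype.card F)) : (2 : F) ≠ 0 :=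
  (ClassicalGeometry.PSLTorus.two_ne_zero_iff_odd F).2 h

variable {G : Type*} [Group G] {H N0 : Subgroup G} {z s : G} {ψ : ↥H →* Equiv.Perm (Fin 6)}

/-- **the diagonal group of exponent 8** -/
theorem CA.kill8 [Finite G] (C : CA H N0 z s ψ) {X : Type*} [CommGroup X] {u : X} (hu : orderOf u = 8)
    (f : ↥(zpowers u) × ↥(zpowers u) × ↥(zpowers u) →* G)
    (hf : ∀ a b c, f (a, b, c) = 1 → a = b ∧ b = c ∧ a ^ 4 = 1) : False := by
  have hcu : Nat.card ↥(zpowers u) = 8 := by rw [Nat.card_zpowers, hu]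
  have : Finite ↥(zpowers u) := Nat.finite_of_card_ne_zero (by omega)
  have hcard : Nat.card (↥(zpowers u) × ↥(zpowers u) × ↥(zpowers u)) = 2 ^ 9 := by
    rw [Nat.card_prod, Nat.card_prod, hcu]; norm_num
  have hp : IsPGroup 2 f.range := (IsPGroup.of_card hcard).of_surjective f.rangeRestrict f.rangeRestrict_surjective
  have hcomm : ∀ a ∈ f.range, ∀ b ∈ f.range, a * b = b * a := by
    rintro _ ⟨a, rfl⟩ _ ⟨b, rfl⟩
    rw [← map_mul, ← map_mul, mul_comm]
  have hk : Nat.card f.ker ≤ 4 := by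
    have h4 : Nat.card (powMonoidHom 4 : ↥(zpowers u) →* ↥(zpowers u)).ker = 4 := by
      rw [IsCyclic.card_powMonoidHom_ker, hcu]; rfl
    rw [← h4]
    let g : ↥f.ker → (powMonoidHom 4 : ↥(zpowers u) →* ↥(zpowers u)).ker := fun p =>
      ⟨p.1.1, by
        rw [MonoidHom.mem_ker, powMonoidHom_apply]
        exact (hf p.1.1 p.1.2.1 p.1.2.2 p.2).2.2⟩
    apply Nat.card_le_card_of_injective g
    rintro ⟨⟨a, b, c⟩, h⟩ ⟨⟨a', b', c'⟩, h'⟩ hg
    have h1 : a = a' := congrArg Subtype.val hg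
    obtain ⟨e1, e2, -⟩ := hf a b c h
    obtain ⟨e3, e4, -⟩ := hf a' b' c' h'
    apply Subtype.ext
    change (a, b, c) = (a', b', c')
    rw [← e2, ← e1, ← e4, ← e3, h1]
  have hmul : Nat.card f.ker * Nat.card f.range = 2 ^ 9 := by
    rw [← hcard, ← Subgroup.index_ker]; exact Subgroup.card_mul_index f.ker
  have h128 : 128 ≤ Nat.card f.range := by
    by_contra hlt
    have : Nat.card f.ker * Nat.card f.range ≤ 4 * 127 := Nat.mul_le_mul hk (by omega)
    omega
  obtain ⟨z', hz'⟩ := (C.abel hp hcomm).2 h128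
  let v : ↥(zpowers u) := ⟨u, mem_zpowers u⟩
  have hv : v ^ 4 ≠ 1 := fun h => by
    have h1 : u ^ 4 = 1 := congrArg Subtype.val h
    have := orderOf_dvd_of_pow_eq_one h1
    rw [hu] at this
    exact absurd this (by norm_num)
  have h1 := hz' _ ⟨(v, 1, 1), rfl⟩
  have h2 := hz' _ ⟨(1, v, 1), rfl⟩
  rw [← map_pow] at h1 h2
  have e1 : ((v, 1, 1) : ↥(zpowers u) × ↥(zpowers u) × ↥(zpowers u)) ^ 4 = (v ^ 4, 1, 1) := by
    simp [Prod.pow_mk]
  have e2 : ((1, v, 1) : ↥(zpowers u) × ↥(zpowers u) × ↥(zpowers u)) ^ 4 = (1, v ^ 4, 1) := by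
    simp [Prod.pow_mk]
  rw [e1] at h1
  rw [e2] at h2
  have n1 : f (v ^ 4, 1, 1) ≠ 1 := fun h => hv (hf _ _ _ h).1
  have n2 : f (1, v ^ 4, 1) ≠ 1 := fun h => hv (hf _ _ _ h).1.symm
  have e : f (v ^ 4, 1, 1) = f (1, v ^ 4, 1) := by rw [h1.resolve_left n1, h2.resolve_left n2]
  have h3 : f (v ^ 4, (v ^ 4)⁻¹, 1) = 1 := by
    have h4 : ((v ^ 4, (v ^ 4)⁻¹, 1) : ↥(zpowers u) × ↥(zpowers u) × ↥(zpowers u)) = (v ^ 4, 1, 1) * (1, v ^ 4, 1)⁻¹ := by
      simp
    rw [h4, map_mul, map_inv, e, mul_inv_cancel]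
  have h4 := (hf _ _ _ h3).2.1
  exact hv (inv_eq_one.1 h4)

/-! ### linear groups -/

/-- the kernel of `SL_n → G`, `n` odd -/
theorem row_psl_odd [Finite G] (C : CA H N0 z s ψ) {F : Type} [Field F] [Fintype F] (hF : Odd (Fintype.card F))
    {n : ℕ} (hn : Odd n) (hn8 : n < 8) (e : G ≃* Matrix.ProjectiveSpecialLinearGroup (Fin n) F) : False := by
  classical
  let π : Matrix.SpecialLinearGroup (Fin n) F →* G := e.symm.toMonoidHom.comp (QuotientGroup.mk' _)
  have hπ : Function.Surjective π := e.symm.surjective.comp (QuotientGroup.mk'_surjective _)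
  have hk : ∀ x, π x = 1 → x ∈ Subgroup.center (Matrix.SpecialLinearGroup (Fin n) F) := by
    intro x hx
    have h1 : (QuotientGroup.mk' _ x : Matrix.ProjectiveSpecialLinearGroup (Fin n) F) = 1 := by
      apply e.symm.injective
      rw [map_one]; exact hx
    exact (QuotientGroup.eq_one_iff _).1 h1
  have hko : Odd (Nat.card π.ker) := by
    apply odd_card_of
    rintro ⟨x, hx⟩ hxx
    have hx1 : x * x = 1 := congrArg Subtype.val hxx
    obtain ⟨r, hr, hrx⟩ := Matrix.SpecialLinearGroup.mem_center_iff.1 (hk x hx)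
    rw [Fintype.card_fin] at hr
    apply Subtype.ext
    change x = 1
    have hn0 : 0 < n := hn.pos
    have h3 : r * r = 1 := by
      have h4 := congrArg (fun A : Matrix.SpecialLinearGroup (Fin n) F => A.1 ⟨0, hn0⟩ ⟨0, hn0⟩) hx1
      have h5 : ((x * x : Matrix.SpecialLinearGroup (Fin n) F) : Matrix (Fin n) (Fin n) F) = Matrix.scalar (Fin n) (r * r) := by
        rw [Matrix.SpecialLinearGroup.coe_mul, ← hrx, ← map_mul]
      change ((x * x : Matrix.SpecialLinearGroup (Fin n) F) : Matrix (Fin n) (Fin n) F) ⟨0, hn0⟩ ⟨0, hn0⟩ = _ at h4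
      rw [h5] at h4
      simpa only [_root_.Matrix.scalar_apply, _root_.Matrix.diagonal_apply_eq, _root_.Matrix.SpecialLinearGroup.coe_one, _root_.Matrix.one_apply_eq] using h4
    have h6 : r = 1 := by
      obtain ⟨k, rfl⟩ := hn
      rw [pow_succ, pow_mul, pow_two, h3, one_pow, one_mul] at hr
      exact hr
    apply Subtype.ext
    change (x : Matrix (Fin n) (Fin n) F) = 1
    rw [← hrx, h6, map_one]
  have h1 := (C.lin_core (two_ne hF) π hπ hko (slToMat n F) (by
    intro x y hxy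
    exact Subtype.ext hxy)).1
  rw [Fintype.card_fin] at h1
  omega

theorem row_psl2 [Finite G] (C : CA H N0 z s ψ) {F : Type} [Field F] [Fintype F] (hF : Odd (Fintype.card F))
    (e : G ≃* Matrix.ProjectiveSpecialLinearGroup (Fin 2) F) : False := by
  have hc := H285.TwoPart.psl_card (F := F) (n := 2) le_rfl
  rw [← Nat.card_congr e.toEquiv] at hc
  have h9 := Num.psl2 hF Fintype.one_lt_card hc C.two
  have h10 : 2 ^ 10 ∣ Fintype.card F - 1 ∨ 2 ^ 10 ∣ Fintype.card F + 1 := by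
    obtain ⟨k, hk⟩ := hF
    rcases h9 with ⟨c, hc⟩ | ⟨c, hc⟩
    · exact Or.inl ⟨c, by omega⟩
    · exact Or.inr ⟨c, by omega⟩
  obtain ⟨a, ha⟩ := exists_ord F h10
  let x : G := e.symm (ClassicalGeometry.PSLTorus.pr F a)
  have hx : ∀ n : ℕ, x ^ n = 1 → 2 ^ 9 ∣ n := by
    intro n hn
    have h1 : ClassicalGeometry.PSLTorus.pr F (a ^ n) = 1 := by
      apply e.symm.injective
      rw [map_one, map_pow, map_pow]; exact hn
    rw [ClassicalGeometry.PSLTorus.pr_eq_one_iff] at h1
    have h2 : a ^ (n * 2) = 1 := by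
      rw [pow_mul]
      rcases h1 with h1 | h1 <;> rw [h1] <;> simp only [_root_.one_pow, _root_.even_two, _root_.Even.neg_pow]
    have h3 := orderOf_dvd_of_pow_eq_one h2
    rw [ha] at h3
    obtain ⟨c, hc⟩ := h3
    exact ⟨c, by omega⟩
  have h1 : x ^ (2 ^ 10) = 1 := by
    have : a ^ (2 ^ 10) = 1 := by rw [← ha]; exact pow_orderOf_eq_one a
    change (e.symm (ClassicalGeometry.PSLTorus.pr F a)) ^ (2 ^ 10) = 1
    rw [← map_pow, ← map_pow, this, map_one, map_one]
  obtain ⟨k, -, hk⟩ := (Nat.dvd_prime_pow Nat.prime_two).1 (orderOf_dvd_of_pow_eq_one h1)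
  refine C.kill_elt hk ?_
  have h2 := Nat.le_of_dvd (orderOf_pos x) (hx _ (pow_orderOf_eq_one x))
  exact lt_of_lt_of_le (by norm_num) h2

/-- a diagonal hom -/
def dg4 {F : Type*} [Field F] (u : Fˣ) : ↥(zpowers u) × ↥(zpowers u) × ↥(zpowers u) →* SL(4, F) where
  toFun p := ⟨Matrix.diagonal ![((p.1 : Fˣ) : F), ((p.2.1 : Fˣ) : F), ((p.2.2 : Fˣ) : F),
      (((p.1 * p.2.1 * p.2.2)⁻¹ : ↥(zpowers u)) : Fˣ)], by
    rw [Matrix.det_diagonal, Fin.prod_univ_four]
    change ((p.1 : Fˣ) : F) * ((p.2.1 : Fˣ) : F) * ((p.2.2 : Fˣ) : F) *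
      ((((p.1 * p.2.1 * p.2.2)⁻¹ : ↥(zpowers u)) : Fˣ) : F) = 1
    rw [← Units.val_mul, ← Units.val_mul, ← Units.val_mul]
    have : (p.1 : Fˣ) * (p.2.1 : Fˣ) * (p.2.2 : Fˣ) * (((p.1 * p.2.1 * p.2.2)⁻¹ : ↥(zpowers u)) : Fˣ) = 1 := by
      have h : p.1 * p.2.1 * p.2.2 * (p.1 * p.2.1 * p.2.2)⁻¹ = 1 := mul_inv_cancel _
      exact congrArg Subtype.val h
    rw [this, Units.val_one]⟩
  map_one' := by
    apply Subtype.ext
    change Matrix.diagonal _ = 1
    rw [← Matrix.diagonal_one]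
    congr 1
    funext i
    (revert i; simp only [_root_.Fin.forall_fin_succ, _root_.Nat.succ_eq_add_one, Nat.reduceAdd, _root_.Prod.fst_one, _root_.OneMemClass.coe_one, _root_.Units.val_one, _root_.Prod.snd_one, _root_.mul_one, _root_.inv_one, Fin.isValue, _root_.Matrix.cons_val_zero, _root_.Matrix.cons_val_succ, _root_.Matrix.cons_val_fin_one, _root_.implies_true, _root_.and_self])
  map_mul' p q := by
    apply Subtype.ext
    change Matrix.diagonal _ = Matrix.diagonal _ * Matrix.diagonal _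
    rw [Matrix.diagonal_mul_diagonal]
    congr 1
    funext i
    fin_cases i
    · simp only [_root_.Prod.fst_mul, _root_.Subgroup.coe_mul, _root_.Units.val_mul, _root_.Prod.snd_mul, _root_.mul_inv_rev, _root_.InvMemClass.coe_inv, _root_.Units.val_inv_eq_inv_val, _root_.Nat.succ_eq_add_one, _root_.Nat.reduceAdd, _root_.Fin.zero_eta, _root_.Fin.isValue, _root_.Matrix.cons_val_zero]
    · simp only [_root_.Prod.fst_mul, _root_.Subgroup.coe_mul, _root_.Units.val_mul, _root_.Prod.snd_mul, _root_.mul_inv_rev, _root_.InvMemClass.coe_inv, _root_.Units.val_inv_eq_inv_val, _root_.Nat.succ_eq_add_one, _root_.Nat.reduceAdd, _root_.Fin.mk_one, _root_.Fin.isValue, _root_.Matrix.cons_val_one, _root_.Matrix.cons_val_zero]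
    · simp only [_root_.Prod.fst_mul, _root_.Subgroup.coe_mul, _root_.Units.val_mul, _root_.Prod.snd_mul, _root_.mul_inv_rev, _root_.InvMemClass.coe_inv, _root_.Units.val_inv_eq_inv_val, _root_.Nat.succ_eq_add_one, _root_.Nat.reduceAdd, _root_.Fin.reduceFinMk, _root_.Matrix.cons_val]
    · change (((((p.1 * q.1) * (p.2.1 * q.2.1) * (p.2.2 * q.2.2))⁻¹ : ↥(zpowers u)) : Fˣ) : F) =
        ((((p.1 * p.2.1 * p.2.2)⁻¹ : ↥(zpowers u)) : Fˣ) : F) * ((((q.1 * q.2.1 * q.2.2)⁻¹ : ↥(zpowers u)) : Fˣ) : F)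
      rw [← Units.val_mul, ← Subgroup.coe_mul]
      congr 2
      rw [← _root_.mul_inv_rev]
      congr 1
      simp only [mul_comm, mul_left_comm]

theorem dg4_val {F : Type*} [Field F] (u : Fˣ) (p : ↥(zpowers u) × ↥(zpowers u) × ↥(zpowers u)) :
    (dg4 u p : Matrix (Fin 4) (Fin 4) F) = Matrix.diagonal ![((p.1 : Fˣ) : F), ((p.2.1 : Fˣ) : F), ((p.2.2 : Fˣ) : F),
      (((p.1 * p.2.1 * p.2.2)⁻¹ : ↥(zpowers u)) : Fˣ)] := rfl

theorem dg4_scalar {F : Type*} [Field F] {u : Fˣ} {a b c : ↥(zpowers u)} {r : F}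
    (h : (dg4 u (a, b, c) : Matrix (Fin 4) (Fin 4) F) = Matrix.diagonal fun _ => r) :
    a = b ∧ b = c ∧ a ^ 4 = 1 := by
  rw [dg4_val] at h
  have h1 := Matrix.diagonal_injective h
  have e0 : ((a : Fˣ) : F) = r := congrFun h1 0
  have e1 : ((b : Fˣ) : F) = r := congrFun h1 1
  have e2 : ((c : Fˣ) : F) = r := congrFun h1 2
  have e3 : ((((a * b * c)⁻¹ : ↥(zpowers u)) : Fˣ) : F) = r := congrFun h1 3
  have hab : a = b := Subtype.ext (Units.ext (e0.trans e1.symm))
  have hbc : b = c := Subtype.ext (Units.ext (e1.trans e2.symm))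
  refine ⟨hab, hbc, ?_⟩
  have h3 : (a * b * c)⁻¹ = a := Subtype.ext (Units.ext (e3.trans e0.symm))
  rw [← hbc, ← hab] at h3
  have h4 : a ^ 4 = (a * a * a) * a := by simp only [pow_succ, pow_zero, one_mul]
  rw [h4]
  nth_rewrite 4 [← h3]
  exact mul_inv_cancel _

theorem exists_u8 {F : Type*} [Field F] [Fintype F] (h : 8 ∣ Fintype.card F - 1) : ∃ u : Fˣ, orderOf u = 8 := by
  classical
  have hq : 1 < Fintype.card F := Fintype.one_lt_card
  obtain ⟨u, hu⟩ := IsCyclic.exists_ofOrder_eq_natCard (α := Fˣ)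
  rw [Nat.card_eq_fintype_card, Fintype.card_units] at hu
  obtain ⟨m, hm⟩ := h
  have hm0 : 0 < m := by
    rcases Nat.eq_zero_or_pos m with h | h
    · rw [h] at hm; omega
    · exact h
  refine ⟨u ^ m, ?_⟩
  rw [orderOf_pow_of_dvd hm0.ne' (by rw [hu, hm]; exact Dvd.intro_left _ rfl), hu, hm, Nat.mul_div_cancel _ hm0]

theorem row_psl4 [Finite G] (C : CA H N0 z s ψ) {F : Type} [Field F] [Fintype F] (hF : Odd (Fintype.card F))
    (e : G ≃* Matrix.ProjectiveSpecialLinearGroup (Fin 4) F) : False := by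
  have hc := H285.TwoPart.psl_card (F := F) (n := 4) (by norm_num)
  rw [← Nat.card_congr e.toEquiv] at hc
  obtain ⟨u, hu⟩ := exists_u8 (Num.psl4 hF Fintype.one_lt_card hc C.two)
  refine C.kill8 hu ((e.symm.toMonoidHom.comp (QuotientGroup.mk' _)).comp (dg4 u)) ?_
  intro a b c h
  have h1 : (QuotientGroup.mk' _ (dg4 u (a, b, c)) : Matrix.ProjectiveSpecialLinearGroup (Fin 4) F) = 1 := by
    apply e.symm.injective
    rw [map_one]; exact h
  have h2 : dg4 u (a, b, c) ∈ Subgroup.center SL(4, F) := (QuotientGroup.eq_one_iff _).1 h1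
  obtain ⟨r, -, hr⟩ := Matrix.SpecialLinearGroup.mem_center_iff.1 h2
  refine dg4_scalar (r := r) ?_
  rw [← hr]; rfl

/-! ### unitary groups -/

theorem row_psu_odd [Finite G] (C : CA H N0 z s ψ) {F : Type} [Field F] [Fintype F] {q : ℕ}
    (hF : Fintype.card F = q ^ 2) (hq : Odd q) {n : ℕ} (hn : Odd n) (hn3 : 3 ≤ n) (hn8 : n < 8)
    (e : G ≃* PSU n F q) : False := by
  classical
  let π : SU n F q →* G := e.symm.toMonoidHom.comp (QuotientGroup.mk' _)
  have hπ : Function.Surjective π := e.symm.surjective.comp (QuotientGroup.mk'_surjective _)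
  have hker : π.ker = Subgroup.center (SU n F q) := by
    ext x
    constructor
    · intro hx
      have h1 : (QuotientGroup.mk' _ x : PSU n F q) = 1 := by
        apply e.symm.injective
        rw [map_one]; exact hx
      exact (QuotientGroup.eq_one_iff _).1 h1
    · intro hx
      have h1 : (QuotientGroup.mk' _ x : PSU n F q) = 1 := (QuotientGroup.eq_one_iff _).2 hx
      change e.symm (QuotientGroup.mk' _ x : PSU n F q) = 1
      rw [h1, map_one]
  have hko : Odd (Nat.card π.ker) := by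
    rw [hker, S0279.result hF n hn3]
    exact Odd.of_dvd_nat hn (Nat.gcd_dvd_left _ _)
  have hF' : Odd (Fintype.card F) := by rw [hF]; exact hq.pow
  have h1 := (C.lin_core (two_ne hF') π hπ hko ((slToMat n F).comp (SU n F q).subtype) (by
    intro x y hxy
    exact Subtype.ext (Subtype.ext hxy))).1
  rw [Fintype.card_fin] at h1
  omega

theorem row_psu4 [Finite G] (C : CA H N0 z s ψ) {F : Type} [Field F] [Fintype F] {q : ℕ}
    (hF : Fintype.card F = q ^ 2) (hq : Odd q) (e : G ≃* PSU 4 F q) : False := by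
  have hc := H285.TwoPart.psu_card (F := F) (n := 4) hF (by norm_num)
  rw [← Nat.card_congr e.toEquiv] at hc
  have hq1 : 1 < q := by
    have h1 : 1 < Fintype.card F := Fintype.one_lt_card
    rw [hF] at h1
    by_contra hlt
    have h2 : q ^ 2 ≤ 1 ^ 2 := Nat.pow_le_pow_left (by omega) 2
    omega
  have h8 := Num.psu4 hq hq1 hc C.two
  have hfac : q ^ 2 - 1 = (q + 1) * (q - 1) := by
    have := Nat.sq_sub_sq q 1
    simpa only [_root_.one_pow] using this
  obtain ⟨u, hu⟩ := exists_u8 (F := F) (by rw [hF, hfac]; exact h8.mul_right _)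
  have hnorm : ∀ x : ↥(zpowers u), ((x : Fˣ) : F) ^ (q + 1) = 1 := by
    rintro ⟨_, k, rfl⟩
    obtain ⟨m, hm⟩ := h8
    change (((u ^ k : Fˣ)) : F) ^ (q + 1) = 1
    have h1 : u ^ 8 = 1 := by rw [← hu]; exact pow_orderOf_eq_one u
    have h2 : (u ^ k) ^ (q + 1) = 1 := by
      rw [hm, pow_mul, ← zpow_natCast (u ^ k), ← _root_.zpow_mul, mul_comm k, _root_.zpow_mul, zpow_natCast, h1, _root_.one_zpow, one_pow]
    rw [← Units.val_pow_eq_pow_val, h2, Units.val_one]
  have hmem : ∀ p, dg4 u p ∈ SU 4 F q := by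
    intro p
    have h1 : ∏ i, (![((p.1 : Fˣ) : F), ((p.2.1 : Fˣ) : F), ((p.2.2 : Fˣ) : F),
      (((p.1 * p.2.1 * p.2.2)⁻¹ : ↥(zpowers u)) : Fˣ)] : Fin 4 → F) i = 1 := by
      have := (dg4 u p).2
      rw [show (dg4 u p).1 = _ from dg4_val u p, Matrix.det_diagonal] at this
      exact this
    have h2 := (LieClassical.SUBasic.suDiag q (![((p.1 : Fˣ) : F), ((p.2.1 : Fˣ) : F), ((p.2.2 : Fˣ) : F),
      (((p.1 * p.2.1 * p.2.2)⁻¹ : ↥(zpowers u)) : Fˣ)] : Fin 4 → F) h1 (by
        intro i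
        fin_cases i
        · exact hnorm _
        · exact hnorm _
        · exact hnorm _
        · exact hnorm _)).2
    exact h2
  let g : ↥(zpowers u) × ↥(zpowers u) × ↥(zpowers u) →* SU 4 F q := (dg4 u).codRestrict _ hmem
  refine C.kill8 hu ((e.symm.toMonoidHom.comp (QuotientGroup.mk' _)).comp g) ?_
  intro a b c h
  have h1 : (QuotientGroup.mk' _ (g (a, b, c)) : PSU 4 F q) = 1 := by
    apply e.symm.injective
    rw [map_one]; exact h
  have h2 : g (a, b, c) ∈ Subgroup.center (SU 4 F q) := (QuotientGroup.eq_one_iff _).1 h1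
  obtain ⟨r, hr1, hr2, hr⟩ := (LieClassical.SUBasic.mem_center_SU_iff hF (by norm_num) _).1 h2
  refine dg4_scalar (r := r) ?_
  have h3 := congrArg (fun A : SU 4 F q => ((A : SL(4, F)) : Matrix (Fin 4) (Fin 4) F)) hr
  exact h3

end Cfsg.Agent.H314.Co3
end

-- part: H738/C3/Red
section
/-!
# S1920: the reduction to case B (helper738)

`BD N z s φ` : the data in `B = H / O(H)`; `BD.even` : not case A, then `C_B(N)` covers `A₆`; `exists_CB`.
-/

set_option autoImplicit false

open Subgroup Equiv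

universe u

namespace Cfsg.Agent.H738.C3

section bar

variable {B : Type*} [Group B]

/-- the data in `B = H / O(H)` -/
structure BD (N : Subgroup B) (z s : B) (φ : B →* Perm (Fin 6)) : Prop where
  two : IsPGroup 2 N
  card : Nat.card N = 64
  sN : s ∈ N
  ss : s * s = z
  zz : z * z = 1
  z1 : z ≠ 1
  scen : ∀ n ∈ N, n * s = s * n
  sq : ∀ n ∈ N, n * n = 1 ∨ n * n = z
  comm : ∀ n ∈ N, ∀ m ∈ N, n * m = m * n ∨ n * m = z * (m * n)
  cen : ∀ n ∈ N, (∀ m ∈ N, n * m = m * n) → n ∈ zpowers s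
  zc : ∀ b, b * z = z * b
  surj : Function.Surjective φ
  ker : ∀ b, φ b = 1 ↔ b ∈ N
  center : ∀ b, (∀ x, x * b = b * x) → b = 1 ∨ b = z

theorem mem_zp' {x z : B} (hz : z * z = 1) (h : x ∈ zpowers z) : x = 1 ∨ x = z := by
  obtain ⟨i, rfl⟩ := mem_zpowers_iff.1 h
  have h2 : z ^ (2 : ℤ) = 1 := by rw [zpow_ofNat, pow_two, hz]
  rcases Int.even_or_odd i with ⟨j, rfl⟩ | ⟨j, rfl⟩
  · left
    rw [← two_mul, zpow_mul, h2, one_zpow]
  · right
    rw [zpow_add_one, zpow_mul, h2, one_zpow, one_mul]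

theorem exists_BD [Finite B] (N : Subgroup B) [hN : N.Normal] (hN64 : Nat.card N = 64)
    (hNs : Cfsg.IsOfSymplecticType N) (hZN : IsCyclic (Subgroup.center N) ∧ Nat.card (Subgroup.center N) = 4)
    (e : B ⧸ N ≃* Perm (Fin 6)) (hZ : Nat.card (Subgroup.center B) = 2) :
    ∃ z s, BD N z s (e.toMonoidHom.comp (QuotientGroup.mk' N)) := by
  classical
  obtain ⟨z, hzc, hzo, hcomm, hsq⟩ := Sym.sym hNs hZN.2
  have hzz : z * z = 1 := by
    have := pow_orderOf_eq_one z
    rwa [hzo, pow_two] at this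
  have hz1 : z ≠ 1 := by
    rintro rfl
    rw [orderOf_one] at hzo
    omega
  -- the generator of the centre
  obtain ⟨s', hs'⟩ := hZN.1.exists_generator
  have hso' : orderOf s' = 4 := by
    rw [orderOf_eq_card_of_forall_mem_zpowers hs', hZN.2]
  set s : N := (s' : N) with hs
  have hso : orderOf s = 4 := by rw [hs, Subgroup.orderOf_coe, hso']
  have hsgen : ∀ x ∈ Subgroup.center N, x ∈ zpowers s := by
    intro x hx
    obtain ⟨i, hi⟩ := mem_zpowers_iff.1 (hs' ⟨x, hx⟩)
    refine mem_zpowers_iff.2 ⟨i, ?_⟩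
    have := congrArg Subtype.val hi
    simpa [hs] using this
  have hs4 : s * s * (s * s) = 1 := by
    have := pow_orderOf_eq_one s
    rwa [hso, Sym.pow4] at this
  have hss1 : s * s ≠ 1 := by
    intro h
    have h1 : orderOf s ∣ 2 := orderOf_dvd_of_pow_eq_one (by rw [pow_two]; exact h)
    rw [hso] at h1
    omega
  have hss : s * s = z := by
    rcases mem_zp' hzz (hsq s) with h | h
    · exact absurd h hss1
    · exact h
  have hsc : ∀ n : N, n * s = s * n := fun n => mem_center_iff.1 s'.2 n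
  -- `z` is central in `B`
  have hcharz : ∀ b : B, b * z = z * b := by
    intro b
    have h1 : ∀ n : N, (z : B) * n = n * z := fun n => congrArg Subtype.val (mem_center_iff.1 hzc n).symm
    have hm : b * z * b⁻¹ ∈ N := hN.conj_mem _ z.2 b
    have hc : (⟨b * z * b⁻¹, hm⟩ : N) ∈ Subgroup.center N := by
      rw [mem_center_iff]
      intro n
      apply Subtype.ext
      have h2 : b⁻¹ * (n : B) * b ∈ N := by
        have := hN.conj_mem _ n.2 b⁻¹
        rwa [inv_inv] at this
      have h3 := h1 ⟨_, h2⟩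
      change (n : B) * (b * z * b⁻¹) = (b * z * b⁻¹) * n
      have h4 : (z : B) * (b⁻¹ * (n : B) * b) = (b⁻¹ * (n : B) * b) * z := h3
      calc (n : B) * (b * z * b⁻¹) = b * ((b⁻¹ * (n : B) * b) * z) * b⁻¹ := by group
        _ = b * (z * (b⁻¹ * (n : B) * b)) * b⁻¹ := by rw [h4]
        _ = (b * z * b⁻¹) * n := by group
    have ho : (⟨b * z * b⁻¹, hm⟩ : N) * ⟨b * z * b⁻¹, hm⟩ = 1 := by
      apply Subtype.ext
      change b * z * b⁻¹ * (b * z * b⁻¹) = 1
      have h5 : (z : B) * z = 1 := congrArg Subtype.val hzz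
      calc b * z * b⁻¹ * (b * z * b⁻¹) = b * (z * z) * b⁻¹ := by group
        _ = 1 := by rw [h5]; group
    have h1' : (⟨b * z * b⁻¹, hm⟩ : N) ≠ 1 := by
      intro h
      have h2 : b * z * b⁻¹ = 1 := congrArg Subtype.val h
      rw [mul_inv_eq_one] at h2
      have h3 : (z : B) = 1 := by simpa using h2
      exact hz1 (Subtype.ext h3)
    -- it is a power of `s`
    obtain ⟨i, hi⟩ := mem_zpowers_iff.1 (hsgen _ hc)
    have h6 : (⟨b * z * b⁻¹, hm⟩ : N) = z := by
      rcases Int.even_or_odd i with ⟨j, rfl⟩ | ⟨j, rfl⟩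
      · rw [← two_mul, zpow_mul] at hi
        have h7 : s ^ (2 : ℤ) = z := by rw [zpow_ofNat, pow_two, hss]
        rw [h7] at hi
        rcases mem_zp' hzz (mem_zpowers_iff.2 ⟨j, hi⟩) with h8 | h8
        · exact absurd h8 h1'
        · exact h8
      · exfalso
        rw [← hi] at ho
        have h9 : s ^ (2 * j + 1) * s ^ (2 * j + 1) = s ^ (4 * j) * (s * s) := by
          rw [← zpow_add, ← pow_two, ← zpow_natCast s 2, ← zpow_add]
          congr 1
          push_cast
          ring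
        rw [h9] at ho
        have h10 : s ^ (4 * j) = 1 := by
          rw [zpow_mul]
          have : s ^ (4 : ℤ) = 1 := by rw [zpow_ofNat, Sym.pow4, hs4]
          rw [this, one_zpow]
        rw [h10, one_mul] at ho
        exact hss1 ho
    have h7 : b * z * b⁻¹ = z := congrArg Subtype.val h6
    rwa [mul_inv_eq_iff_eq_mul] at h7
  have hzB : (z : B) * z = 1 := congrArg Subtype.val hzz
  have hzB1 : (z : B) ≠ 1 := fun h => hz1 (Subtype.ext h)
  refine ⟨z, s, ?_⟩
  constructor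
  · exact hNs.1
  · exact hN64
  · exact s.2
  · exact congrArg Subtype.val hss
  · exact hzB
  · exact hzB1
  · intro n hn
    exact congrArg Subtype.val (hsc ⟨n, hn⟩)
  · intro n hn
    rcases mem_zp' hzz (hsq ⟨n, hn⟩) with h | h
    · left; exact congrArg Subtype.val h
    · right; exact congrArg Subtype.val h
  · intro n hn m hm
    rcases mem_zp' hzz (hcomm ⟨n, hn⟩ ⟨m, hm⟩) with h | h
    · left
      rw [mul_inv_eq_one, mul_inv_eq_iff_eq_mul] at h
      exact congrArg Subtype.val h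
    · right
      rw [mul_inv_eq_iff_eq_mul, mul_inv_eq_iff_eq_mul, mul_assoc] at h
      exact congrArg Subtype.val h
  · intro n hn h
    have h1 : (⟨n, hn⟩ : N) ∈ Subgroup.center N := by
      rw [mem_center_iff]
      intro m
      exact Subtype.ext (h m m.2).symm
    obtain ⟨i, hi⟩ := mem_zpowers_iff.1 (hsgen _ h1)
    refine mem_zpowers_iff.2 ⟨i, ?_⟩
    have := congrArg Subtype.val hi
    simpa using this
  · exact hcharz
  · exact e.surjective.comp (QuotientGroup.mk'_surjective N)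
  · intro b
    rw [MonoidHom.comp_apply, MulEquiv.coe_toMonoidHom, map_eq_one_iff e e.injective]
    exact QuotientGroup.eq_one_iff b
  · intro b hb
    have h1 : b ∈ Subgroup.center B := mem_center_iff.2 hb
    have h2 : (z : B) ∈ Subgroup.center B := mem_center_iff.2 hcharz
    by_contra hcon
    push Not at hcon
    -- three elements in a group of order two
    have h3 : (⟨b, h1⟩ : Subgroup.center B) ^ 2 = 1 := by rw [← hZ]; exact pow_card_eq_one'
    have h4 : orderOf (⟨z, h2⟩ : Subgroup.center B) = 2 := by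
      apply orderOf_eq_prime
      · apply Subtype.ext
        change (z : B) ^ 2 = 1
        rw [pow_two, hzB]
      · intro h
        exact hzB1 (congrArg Subtype.val h)
    have h5 : zpowers (⟨z, h2⟩ : Subgroup.center B) = ⊤ := by
      rw [← card_eq_iff_eq_top, Nat.card_zpowers, h4, hZ]
    have h6 : (⟨b, h1⟩ : Subgroup.center B) ∈ zpowers (⟨z, h2⟩ : Subgroup.center B) := by rw [h5]; exact mem_top _
    rcases mem_zp' (Subtype.ext hzB) h6 with h7 | h7
    · exact hcon.1 (congrArg Subtype.val h7)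
    · exact hcon.2 (congrArg Subtype.val h7)

namespace BD

variable {N : Subgroup B} {z s : B} {φ : B →* Perm (Fin 6)}

/-- a normal subgroup of `B` whose image contains an element `≠ 1` contains `A₆` -/
theorem image_ge (D : BD N z s φ) {K : Subgroup B} (hK : K.Normal) {k : B} (hk : k ∈ K) (hk1 : φ k ≠ 1) :
    alternatingGroup (Fin 6) ≤ K.map φ := by
  have hn : (K.map φ).Normal := hK.map φ D.surj
  apply Perm.alternatingGroup_le_of_normal (by simp)
  refine ⟨⟨φ k, mem_map_of_mem φ hk⟩, 1, ?_⟩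
  intro h
  exact hk1 (congrArg Subtype.val h)

/-- **Not case A: `C_B(N)` covers `A₆`** -/
theorem even [hN : N.Normal] (D : BD N z s φ) (hA : ∃ b, b ∉ N ∧ ∀ n ∈ N, b * n * b⁻¹ * n⁻¹ ∈ zpowers z) (π : Perm (Fin 6))
    (hπ : π ∈ alternatingGroup (Fin 6)) : ∃ b, (∀ n ∈ N, b * n = n * b) ∧ φ b = π := by
  classical
  -- `Kb`
  have hmem : ∀ b n : B, b * n * b⁻¹ * n⁻¹ ∈ zpowers z ↔ (b * n = n * b ∨ b * n = z * (n * b)) := by
    intro b n
    constructor
    · intro h
      rcases mem_zp' D.zz h with h1 | h1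
      · left
        rw [mul_inv_eq_one, mul_inv_eq_iff_eq_mul] at h1
        exact h1
      · right
        rw [mul_inv_eq_iff_eq_mul, mul_inv_eq_iff_eq_mul] at h1
        rw [h1, mul_assoc]
    · rintro (h | h)
      · rw [h, mul_inv_cancel_right, mul_inv_cancel]
        exact one_mem _
      · rw [h]
        have e : z * (n * b) * b⁻¹ * n⁻¹ = z := by group
        rw [e]
        exact mem_zpowers z
  let Kb : Subgroup B :=
    { carrier := {b | ∀ n ∈ N, b * n = n * b ∨ b * n = z * (n * b)}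
      one_mem' := fun n _ => Or.inl (by rw [one_mul, mul_one])
      mul_mem' := by
        intro a b ha hb n hn
        rcases hb n hn with h | h
        · rcases ha n hn with h' | h'
          · left
            rw [mul_assoc, h, ← mul_assoc, h', mul_assoc]
          · right
            rw [mul_assoc, h, ← mul_assoc, h', mul_assoc, mul_assoc]
        · rcases ha n hn with h' | h'
          · right
            calc a * b * n = a * (b * n) := mul_assoc _ _ _
              _ = a * (z * (n * b)) := by rw [h]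
              _ = (a * z) * (n * b) := by group
              _ = (z * a) * (n * b) := by rw [D.zc]
              _ = z * (a * n) * b := by group
              _ = z * (n * a) * b := by rw [h']
              _ = z * (n * (a * b)) := by group
          · left
            calc a * b * n = a * (b * n) := mul_assoc _ _ _
              _ = a * (z * (n * b)) := by rw [h]
              _ = (a * z) * (n * b) := by group
              _ = (z * a) * (n * b) := by rw [D.zc]
              _ = z * (a * n) * b := by group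
              _ = z * (z * (n * a)) * b := by rw [h']
              _ = (z * z) * (n * (a * b)) := by group
              _ = n * (a * b) := by rw [D.zz, one_mul]
      inv_mem' := by
        intro a ha n hn
        rcases ha n hn with h | h
        · left
          rw [inv_mul_eq_iff_eq_mul, ← mul_assoc, h, mul_inv_cancel_right]
        · right
          rw [inv_mul_eq_iff_eq_mul]
          calc n = n * a * a⁻¹ := by group
            _ = (z * z) * (n * a) * a⁻¹ := by rw [D.zz, one_mul]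
            _ = z * (z * (n * a)) * a⁻¹ := by group
            _ = z * (a * n) * a⁻¹ := by rw [h]
            _ = (z * a) * (n * a⁻¹) := by group
            _ = (a * z) * (n * a⁻¹) := by rw [D.zc]
            _ = a * (z * (n * a⁻¹)) := by group }
  have hKb : Kb.Normal := by
    constructor
    intro b hb x n hn
    have hm : x⁻¹ * n * x ∈ N := by
      have := hN.conj_mem _ hn x⁻¹
      rwa [inv_inv] at this
    rcases hb _ hm with h | h
    · left
      calc x * b * x⁻¹ * n = x * (b * (x⁻¹ * n * x)) * x⁻¹ := by group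
        _ = x * ((x⁻¹ * n * x) * b) * x⁻¹ := by rw [h]
        _ = n * (x * b * x⁻¹) := by group
    · right
      calc x * b * x⁻¹ * n = x * (b * (x⁻¹ * n * x)) * x⁻¹ := by group
        _ = x * (z * ((x⁻¹ * n * x) * b)) * x⁻¹ := by rw [h]
        _ = (x * z) * ((x⁻¹ * n * x) * b) * x⁻¹ := by group
        _ = (z * x) * ((x⁻¹ * n * x) * b) * x⁻¹ := by rw [D.zc]
        _ = z * (n * (x * b * x⁻¹)) := by group
  let Cb : Subgroup B := centralizer (N : Set B)
  have hCb : Cb.Normal := inferInstance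
  have hsqC : ∀ k ∈ Kb, k * k ∈ Cb := by
    intro k hk
    rw [mem_centralizer_iff]
    intro n hn
    rcases hk n hn with h | h
    · calc n * (k * k) = (n * k) * k := by group
        _ = (k * n) * k := by rw [h]
        _ = k * (n * k) := by group
        _ = k * (k * n) := by rw [h]
        _ = k * k * n := by group
    · have h' : n * k = z * (k * n) := by
        rw [h, ← mul_assoc, D.zz, one_mul]
      calc n * (k * k) = (n * k) * k := by group
        _ = z * (k * n) * k := by rw [h']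
        _ = z * k * (n * k) := by group
        _ = z * k * (z * (k * n)) := by rw [h']
        _ = z * (k * z) * (k * n) := by group
        _ = z * (z * k) * (k * n) := by rw [D.zc]
        _ = (z * z) * (k * k * n) := by group
        _ = k * k * n := by rw [D.zz, one_mul]
  obtain ⟨b, hbN, hb⟩ := hA
  have hbK : b ∈ Kb := fun n hn => (hmem b n).1 (hb n hn)
  have h1 := D.image_ge hKb hbK (fun h => hbN ((D.ker b).1 h))
  -- a 3-cycle
  have h2 : (c[0, 1, 2] : Perm (Fin 6)) ∈ alternatingGroup (Fin 6) := by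
    rw [Perm.mem_alternatingGroup]
    decide +kernel
  obtain ⟨k, hk, hkφ⟩ := h1 h2
  have h3 : φ (k * k) ≠ 1 := by
    rw [map_mul, hkφ]
    decide +kernel
  have h4 := D.image_ge hCb (hsqC k hk) h3
  obtain ⟨c, hc, hcφ⟩ := h4 hπ
  refine ⟨c, ?_, hcφ⟩
  intro n hn
  exact (mem_centralizer_iff.1 hc n hn).symm

theorem s_ne (D : BD N z s φ) : s ≠ 1 ∧ s ≠ z := by
  constructor
  · rintro rfl
    exact D.z1 (by rw [← D.ss, one_mul])
  · intro h
    apply D.z1
    have h1 : s * s = 1 := by rw [h]; exact D.zz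
    rw [← D.ss, h1]

/-- **Parity** -/
theorem parity [hN : N.Normal] (D : BD N z s φ) (hA : ∃ b, b ∉ N ∧ ∀ n ∈ N, b * n * b⁻¹ * n⁻¹ ∈ zpowers z) (b : B) :
    φ b ∈ alternatingGroup (Fin 6) ↔ b * s = s * b := by
  -- elements with an even image
  have h1 : ∀ b : B, φ b ∈ alternatingGroup (Fin 6) → b * s = s * b := by
    intro b hb
    obtain ⟨c, hc, hcφ⟩ := D.even hA _ hb
    have h2 : b * c⁻¹ ∈ N := by
      rw [← D.ker, map_mul, map_inv, hcφ, mul_inv_cancel]
    have h3 := D.scen _ h2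
    have h4 := hc s D.sN
    calc b * s = (b * c⁻¹) * (c * s) := by group
      _ = (b * c⁻¹) * (s * c) := by rw [h4]
      _ = ((b * c⁻¹) * s) * c := by group
      _ = (s * (b * c⁻¹)) * c := by rw [h3]
      _ = s * b := by group
  refine ⟨h1 b, ?_⟩
  intro hb
  by_contra hodd
  -- `s` is central in `B`
  have h2 : ∀ x : B, x * s = s * x := by
    intro x
    by_cases hx : φ x ∈ alternatingGroup (Fin 6)
    · exact h1 x hx
    · have h3 : φ (x * b) ∈ alternatingGroup (Fin 6) := by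
        rw [map_mul, Perm.mem_alternatingGroup, map_mul]
        rw [Perm.mem_alternatingGroup] at hodd hx
        rcases Int.units_eq_one_or (Perm.sign (φ x)) with h | h
        · exact absurd h hx
        · rcases Int.units_eq_one_or (Perm.sign (φ b)) with h' | h'
          · exact absurd h' hodd
          · rw [h, h']; decide
      have h4 := h1 _ h3
      calc x * s = (x * (b * s)) * b⁻¹ := by rw [hb]; group
        _ = (x * b * s) * b⁻¹ := by group
        _ = (s * (x * b)) * b⁻¹ := by rw [h4]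
        _ = s * x := by group
  rcases D.center s h2 with h3 | h3
  · exact D.s_ne.1 h3
  · exact D.s_ne.2 h3

end BD

end bar

end Cfsg.Agent.H738.C3
end
end

-- part: H375/C3/PSUFalse_mg
section
prune_inst 0x200000004b00000000010000400000101000000000000000008000040109a00000000000000000060000000000040008110000000200000000000000000001000000040080080008020000000000000000000000000000000000000000000000000000000
set_option linter.all false
open scoped Cfsg.Agent.FastGrp

-- part: H601/C3/DecDefs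
section
/-!
# S1920, case B, `PSU_n(q)`: the commutant of `Nh` with the adjoint involution (helper601, interface)

* `Star σ ad` : `ad` is a `σ`-semilinear involution of `End V` (adjoint with respect to a hermitian form);
* `hc σ X` : conjugate transpose;
* `Dec σ ad N u φ` : the commutant of `N` is the product of the `φ i (M_{m i}(K))` (and of the `ad (φ i (M_{m i}(K)))` if
  `u i = false`), `ad (φ i X) = φ i (hc σ X)` if `u i = true`.
-/

set_option autoImplicit false

open Subgroup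

namespace Cfsg.Agent.H601.C3

variable {K : Type*} [Field K] {V : Type*} [AddCommGroup V] [Module K V]

/-- an involution of the second kind -/
structure Star (σ : K ≃+* K) (ad : Module.End K V → Module.End K V) : Prop where
  add : ∀ X Y, ad (X + Y) = ad X + ad Y
  smul : ∀ (c : K) X, ad (c • X) = σ c • ad X
  mul : ∀ X Y, ad (X * Y) = ad Y * ad X
  inv : ∀ X, ad (ad X) = X

/-- conjugate transpose -/
def hc (σ : K ≃+* K) {m : ℕ} (X : Matrix (Fin m) (Fin m) K) : Matrix (Fin m) (Fin m) K := (X.map σ).transpose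

/-- **the decomposition of the commutant of `N`** -/
structure Dec (σ : K ≃+* K) (ad : Module.End K V → Module.End K V) (N : Subgroup (V ≃ₗ[K] V)) {ι : Type} [Fintype ι]
    {m : ι → ℕ} (u : ι → Bool) (φ : ∀ i, Matrix (Fin (m i)) (Fin (m i)) K →ₗ[K] Module.End K V) : Prop where
  pos : ∀ i, 0 < m i
  mul : ∀ i X Y, φ i (X * Y) = φ i X * φ i Y
  inj : ∀ i, Function.Injective (φ i)
  comm : ∀ i X, ∀ g ∈ N, φ i X * (g : V →ₗ[K] V) = (g : V →ₗ[K] V) * φ i X
  orth : ∀ i j, i ≠ j → ∀ X Y, φ i X * φ j Y = 0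
  orth' : ∀ i j, i ≠ j → ∀ X Y, φ i X * ad (φ j Y) = 0 ∧ ad (φ i X) * φ j Y = 0
  /-- unitary components -/
  star : ∀ i, u i = true → ∀ X, ad (φ i X) = φ i (hc σ X)
  /-- pairs -/
  pair : ∀ i, u i = false → ∀ X Y, φ i X * ad (φ i Y) = 0 ∧ ad (φ i X) * φ i Y = 0
  surj : ∀ T : Module.End K V, (∀ g ∈ N, T * (g : V →ₗ[K] V) = (g : V →ₗ[K] V) * T) →
    ∃ X Y : ∀ i, Matrix (Fin (m i)) (Fin (m i)) K, T = ∑ i, (φ i (X i) + if u i then 0 else ad (φ i (Y i)))

end Cfsg.Agent.H601.C3
end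

-- part: H375/C3/Wed
section
/-!
# The commutant of a semisimple linear group (helper375, S1920)

`exists_wed` : `N ≤ GL(V)` finite, `|N|` prime to the characteristic, `K` finite: there is an injective algebra
homomorphism `J : ∏ M_{m_i}(D_i) → End(V)` (finite fields `D_i ≥ K`) with image the commutant of `N`.
-/

set_option autoImplicit false

open Module

namespace Cfsg.Agent.H375.C3

universe u v

section Alg

variable {K : Type u} [Field K] {V : Type v} [AddCommGroup V] [Module K V]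

/-- **Wedderburn for the commutant.** -/
theorem exists_wed [Finite K] [FiniteDimensional K V] (N : Subgroup (V ≃ₗ[K] V)) [Finite N] (hN : (Nat.card N : K) ≠ 0) :
    ∃ (k : ℕ) (D : Fin k → Type v) (m : Fin k → ℕ) (_ : ∀ i, Field (D i)) (_ : ∀ i, Algebra K (D i))
      (_ : ∀ i, Finite (D i)) (_ : ∀ i, NeZero (m i)) (J : (∀ i, Matrix (Fin (m i)) (Fin (m i)) (D i)) →ₐ[K] Module.End K V),
      Function.Injective J ∧ ∀ T : Module.End K V, (∀ g ∈ N, T * (g : V →ₗ[K] V) = (g : V →ₗ[K] V) * T) ↔ ∃ X, J X = T := by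
  classical
  -- the algebra generated by `N`
  let ρ : ↥N →* Module.End K V :=
    { toFun := fun g => ((g : V ≃ₗ[K] V) : V →ₗ[K] V)
      map_one' := rfl
      map_mul' := fun _ _ => rfl }
  let L : MonoidAlgebra K ↥N →ₐ[K] Module.End K V := MonoidAlgebra.lift K (Module.End K V) ↥N ρ
  let R : Subalgebra K (Module.End K V) := L.range
  have hss : IsSemisimpleRing (MonoidAlgebra K ↥N) := by
    have : NeZero (Nat.card ↥N : K) := ⟨hN⟩
    infer_instance
  have hR : IsSemisimpleRing R :=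
    RingHom.isSemisimpleRing_of_surjective (L.rangeRestrict : MonoidAlgebra K ↥N →+* R) L.rangeRestrict_surjective
  have hTow : IsScalarTower K R V := inferInstance
  have hfin : Module.Finite R V := (Module.Finite.of_restrictScalars_finite K R V :)
  obtain ⟨k, D, m, hD, hA, hm, ⟨Φ⟩⟩ := IsSemisimpleModule.exists_end_algEquiv_pi_matrix_divisionRing K R V
  have hV : Finite V := Module.finite_of_finite K
  have hE : Finite (Module.End R V) := Finite.of_injective (fun f : Module.End R V => (f : V → V)) DFunLike.coe_injective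
  have hP : Finite (∀ i, Matrix (Fin (m i)) (Fin (m i)) (D i)) := Finite.of_equiv _ (Φ.toEquiv :)
  have hDf : ∀ i, Finite (D i) := fun i =>
    Finite.of_surjective (fun X : (∀ i, Matrix (Fin (m i)) (Fin (m i)) (D i)) => X i 0 0)
      fun d => ⟨fun j => if h : j = i then h ▸ (Matrix.of fun _ _ => d) else 0, by simp⟩
  -- the endomorphisms commuting with `R`
  let res : Module.End R V →ₐ[K] Module.End K V :=
    { toFun := fun f => (f.restrictScalars K :)
      map_one' := rfl
      map_mul' := fun _ _ => rfl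
      map_zero' := rfl
      map_add' := fun _ _ => rfl
      commutes' := fun _ => rfl }
  have hres : Function.Injective res := fun f g h => LinearMap.ext fun v => congrArg (fun t : Module.End K V => t v) h
  refine ⟨k, D, m, fun i => littleWedderburn (D i), hA, hDf, hm, res.comp (Φ.symm.toAlgHom :), ?_, ?_⟩
  · exact hres.comp Φ.symm.injective
  · intro T
    constructor
    · intro hT
      -- `T` commutes with `R`
      have hc : ∀ a : MonoidAlgebra K ↥N, T * L a = L a * T := by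
        intro a
        induction a using MonoidAlgebra.induction_on with
        | of g =>
          rw [MonoidAlgebra.lift_of]
          exact hT g g.2
        | add a b ha hb => rw [map_add, mul_add, add_mul, ha, hb]
        | smul c a ha => rw [map_smul, mul_smul_comm, smul_mul_assoc, ha]
      let f : Module.End R V :=
        { toFun := T
          map_add' := T.map_add
          map_smul' := by
            rintro ⟨r, a, ha⟩ v
            have h1 := congrArg (fun t : Module.End K V => t v) (hc a)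
            have h2 : L a = r := ha
            subst h2
            exact h1 }
      refine ⟨Φ f, ?_⟩
      change res ((Φ.symm (Φ f) :)) = T
      rw [AlgEquiv.symm_apply_apply]
      rfl
    · rintro ⟨X, rfl⟩ g hg
      have h1 : ρ ⟨g, hg⟩ ∈ R := ⟨MonoidAlgebra.of K ↥N ⟨g, hg⟩, MonoidAlgebra.lift_of _ _⟩
      refine LinearMap.ext fun v => ?_
      exact (Φ.symm X).map_smul (⟨ρ ⟨g, hg⟩, h1⟩ : R) v

end Alg

end Cfsg.Agent.H375.C3
end

-- part: H375/C3/Perf
section
/-!
# S1920, PSL: perfect groups and lifts (helper375)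

* `perf_hom` : a homomorphism from a perfect subgroup to a commutative monoid is trivial;
* `T3L` : T3 for the lifts;
* `card_ne` : the order of `Nh` is prime to the characteristic.
-/

set_option autoImplicit false

open Subgroup Module
open scoped commutatorElement

namespace Cfsg.Agent.H375.C3

open Cfsg.Agent.H415.C3

/-- a homomorphism from a perfect subgroup to a commutative monoid is trivial -/
theorem perf_hom {X M : Type*} [Group X] [CommMonoid M] {E : Subgroup X} (hE : ⁅E, E⁆ = E) (f : ↥E →* M) (e : ↥E) :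
    f e = 1 := by
  have h1 : commutator ↥E = ⊤ := by
    refine Subgroup.map_injective E.subtype_injective ?_
    rw [commutator_def, Subgroup.map_commutator, ← MonoidHom.range_eq_map, Subgroup.range_subtype]
    exact hE
  have h2 : commutator ↥E ≤ f.toHomUnits.ker := Abelianization.commutator_subset_ker f.toHomUnits
  have h3 : e ∈ f.toHomUnits.ker := h2 (by rw [h1]; exact mem_top e)
  have h4 := congrArg Units.val (MonoidHom.mem_ker.1 h3)
  exact h4

/-- the image of a perfect subgroup is perfect -/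
theorem perf_range {X Y : Type*} [Group X] [Group Y] {E : Subgroup X} (hE : ⁅E, E⁆ = E) (f : ↥E →* Y) :
    ⁅f.range, f.range⁆ = f.range := by
  have h1 : ⁅(⊤ : Subgroup ↥E), (⊤ : Subgroup ↥E)⁆ = ⊤ := by
    refine Subgroup.map_injective E.subtype_injective ?_
    rw [Subgroup.map_commutator, ← MonoidHom.range_eq_map, Subgroup.range_subtype]
    exact hE
  rw [MonoidHom.range_eq_map, ← Subgroup.map_commutator, h1]

section L

variable {G : Type*} [Group G] {K : Type*} [Field K] {V : Type*} [AddCommGroup V] [Module K V]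
variable {Gh : Subgroup (V ≃ₗ[K] V)} {π : ↥Gh →* G} {N0 A E : Subgroup G} {z s x r : G}
  {ψ : ↥A →* Equiv.Perm (Fin 6)} {Nh Eh : Subgroup (V ≃ₗ[K] V)} {zh sh xh rh : V ≃ₗ[K] V}

theorem Nh_le (L : LKit Gh π N0 A E z s x r Nh Eh zh sh xh rh) : Nh ≤ Gh := fun g hg => by
  obtain ⟨h, -⟩ := (L.mem_Nh g).1 hg
  exact h

theorem pi_Nh (L : LKit Gh π N0 A E z s x r Nh Eh zh sh xh rh) {g : V ≃ₗ[K] V} (hg : g ∈ Nh) :
    π ⟨g, Nh_le L hg⟩ ∈ N0 := by
  obtain ⟨h, h1⟩ := (L.mem_Nh g).1 hg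
  exact h1

theorem exists_Nh (hL : Lin Gh π) (L : LKit Gh π N0 A E z s x r Nh Eh zh sh xh rh) {n : G} (hn : n ∈ N0) :
    ∃ g, ∃ h : g ∈ Nh, π ⟨g, Nh_le L h⟩ = n := by
  obtain ⟨g, hg⟩ := hL.surj n
  have h1 : (g : V ≃ₗ[K] V) ∈ Nh := (L.mem_Nh _).2 ⟨g.2, by rw [← hg] at hn; exact hn⟩
  exact ⟨g, h1, hg⟩

/-- an element of `Gh` commuting with `Nh` is mapped to an element commuting with `N0` -/
theorem comm_pi (hL : Lin Gh π) (L : LKit Gh π N0 A E z s x r Nh Eh zh sh xh rh) {g : V ≃ₗ[K] V} (hg : g ∈ Gh)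
    (h : ∀ n ∈ Nh, g * n = n * g) : ∀ n ∈ N0, π ⟨g, hg⟩ * n = n * π ⟨g, hg⟩ := by
  intro n hn
  obtain ⟨m, hm, rfl⟩ := exists_Nh hL L hn
  rw [← map_mul, ← map_mul]
  exact congrArg π (Subtype.ext (h m hm))

/-- **T3 for the lifts** -/
theorem T3L (Kt : Kit N0 A E z s x r ψ) (hL : Lin Gh π) (L : LKit Gh π N0 A E z s x r Nh Eh zh sh xh rh)
    (ρ₁ ρ₂ : ↥Eh →* ↥Gh) (h₁ : ∀ e, ∀ n ∈ Nh, (ρ₁ e : V ≃ₗ[K] V) * n = n * ρ₁ e)
    (h₂ : ∀ e, ∀ n ∈ Nh, (ρ₂ e : V ≃ₗ[K] V) * n = n * ρ₂ e) (hc : ∀ e f, ρ₁ e * ρ₂ f = ρ₂ f * ρ₁ e)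
    (h : ∀ e : ↥Eh, (e : V ≃ₗ[K] V) = (ρ₁ e * ρ₂ e : ↥Gh)) : (∀ e, π (ρ₁ e) = 1) ∨ (∀ e, π (ρ₂ e) = 1) := by
  have hA : ∀ g : ↥Gh, (∀ n ∈ Nh, (g : V ≃ₗ[K] V) * n = n * g) → π g ∈ A := fun g hg =>
    Kt.comm_mem (comm_pi hL L g.2 hg)
  rcases Kt.T3 (π.comp ρ₁).range (π.comp ρ₂).range (perf_range L.Eh_perf _) (perf_range L.Eh_perf _)
    (by rintro _ ⟨e, rfl⟩; exact hA _ (h₁ e)) (by rintro _ ⟨e, rfl⟩; exact hA _ (h₂ e))
    (by
      rintro _ ⟨e, rfl⟩ _ ⟨f, rfl⟩
      change π (ρ₁ e) * π (ρ₂ f) = π (ρ₂ f) * π (ρ₁ e)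
      rw [← map_mul, hc, map_mul])
    (by
      intro e he
      obtain ⟨g, hg, hge⟩ := L.Eh_surj e he
      refine ⟨π (ρ₁ ⟨g, hg⟩), ⟨_, rfl⟩, π (ρ₂ ⟨g, hg⟩), ⟨_, rfl⟩, ?_⟩
      rw [← map_mul, ← hge (L.Eh_le hg)]
      exact congrArg π (Subtype.ext (h ⟨g, hg⟩))) with h3 | h3
  · left
    intro e
    have : π (ρ₁ e) ∈ (π.comp ρ₁).range := ⟨e, rfl⟩
    rw [h3] at this
    exact this
  · right
    intro e
    have : π (ρ₂ e) ∈ (π.comp ρ₂).range := ⟨e, rfl⟩
    rw [h3] at this
    exact this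

/-- some element of `Eh` is not a scalar -/
theorem exists_nsc (Kt : Kit N0 A E z s x r ψ) (hL : Lin Gh π) (L : LKit Gh π N0 A E z s x r Nh Eh zh sh xh rh) :
    ∃ e ∈ Eh, ¬ IsSc e := by
  obtain ⟨g, hg, hgx⟩ := L.Eh_surj x Kt.xE
  refine ⟨g, hg, fun h => ?_⟩
  have h1 := (hL.ker ⟨g, L.Eh_le hg⟩).2 h
  rw [hgx (L.Eh_le hg)] at h1
  have h2 := Kt.psi_x (Kt.E_A Kt.xE)
  have h3 : (⟨x, Kt.E_A Kt.xE⟩ : ↥A) = 1 := Subtype.ext h1
  rw [h3, map_one] at h2
  exact c5_ne h2.symm

/-- the order of `Nh` is prime to the characteristic -/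
theorem card_ne [Finite K] [FiniteDimensional K V] (h2 : (2 : K) ≠ 0) (Kt : Kit N0 A E z s x r ψ) (hL : Lin Gh π)
    (L : LKit Gh π N0 A E z s x r Nh Eh zh sh xh rh) : (Nat.card Nh : K) ≠ 0 := by
  have hV : Finite V := Module.finite_of_finite K
  have hVV : Finite (V ≃ₗ[K] V) := Finite.of_injective (fun f : V ≃ₗ[K] V => (f : V → V)) DFunLike.coe_injective
  obtain ⟨p, hp⟩ := CharP.exists K
  have hpp : p.Prime := (CharP.char_is_prime_or_zero K p).resolve_right (by
    rintro rfl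
    have : CharZero K := CharP.charP_to_charZero K
    exact not_finite K)
  have hpf := Fact.mk hpp
  intro h0
  have hdvd : p ∣ Nat.card Nh := (CharP.cast_eq_zero_iff K p _).1 h0
  obtain ⟨g, hg⟩ := exists_prime_orderOf_dvd_card' p hdvd
  have hp2 : p ≠ 2 := by
    rintro rfl
    exact h2 (by exact_mod_cast (CharP.cast_eq_zero_iff K 2 2).2 dvd_rfl)
  have hg1 : π ⟨g, Nh_le L g.2⟩ = 1 := by
    obtain ⟨k, hk⟩ := Kt.N_two ⟨_, pi_Nh L g.2⟩
    have h3 : π ⟨g, Nh_le L g.2⟩ ^ 2 ^ k = 1 := congrArg Subtype.val hk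
    have h4 : π ⟨g, Nh_le L g.2⟩ ^ p = 1 := by
      rw [← map_pow]
      have h6 : g ^ p = 1 := by rw [← hg]; exact pow_orderOf_eq_one g
      have : (⟨g, Nh_le L g.2⟩ : ↥Gh) ^ p = 1 := Subtype.ext (congrArg (Subtype.val : ↥Nh → V ≃ₗ[K] V) h6)
      rw [this, map_one]
    have h5 : Nat.Coprime p (2 ^ k) := (Nat.Coprime.pow_right k ((Nat.coprime_primes hpp Nat.prime_two).2 hp2))
    exact (pow_eq_one_iff_of_coprime h5).1 ⟨h4, h3⟩
  obtain ⟨c, hc⟩ := (hL.ker _).1 hg1
  have hgp : (g : V ≃ₗ[K] V) ^ p = 1 := congrArg Subtype.val (by rw [← hg]; exact pow_orderOf_eq_one g : g ^ p = 1)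
  have hne : g ≠ 1 := by
    rintro rfl
    rw [orderOf_one] at hg
    exact hpp.one_lt.ne hg
  apply hne
  refine Subtype.ext (LinearEquiv.ext fun v => ?_)
  change (g : V ≃ₗ[K] V) v = v
  have hc' : ∀ v, (g : V ≃ₗ[K] V) v = c • v := hc
  have hpow : ∀ k : ℕ, ∀ v, ((g : V ≃ₗ[K] V) ^ k) v = c ^ k • v := by
    intro k
    induction k with
    | zero => intro v; simp
    | succ k ih =>
      intro v
      rw [pow_succ, LinearEquiv.mul_apply, hc', map_smul, ih, smul_smul, pow_succ, mul_comm]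
  by_cases hv : v = 0
  · rw [hv, map_zero]
  · have h3 := hpow p v
    rw [hgp] at h3
    have h4 : c ^ p = 1 := by
      have h5 : (c ^ p - 1) • v = 0 := by
        rw [sub_smul, one_smul, ← h3]
        exact sub_self v
      rcases smul_eq_zero.1 h5 with h6 | h6
      · exact sub_eq_zero.1 h6
      · exact absurd h6 hv
    have h5 : c = 1 := by
      have h6 : (c - 1) ^ p = 0 := by rw [sub_pow_char, h4, one_pow, sub_self]
      exact sub_eq_zero.1 (pow_eq_zero_iff hpp.ne_zero |>.1 h6)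
    rw [hc', h5, one_smul]

end L

end Cfsg.Agent.H375.C3
end

-- part: H375/C3/Comp
section
/-!
# S1920, PSL: the component of `Eh` (helper375)

`exists_comp` : `Gh ≥ SL(V)`: there is an injective homomorphism `j : M_n(D) → End_K(V)` of algebras without `1`, with
image commuting with `Nh`, `j 1 ≠ 1`, and `Eh ≤ 1 + j(SL_n(D) - 1)`.
-/

set_option autoImplicit false

open Subgroup Module
open scoped commutatorElement

namespace Cfsg.Agent.H375.C3

open Cfsg.Agent.H415.C3

universe u v w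

/-- a component of the commutant containing `E` -/
structure Comp {K : Type u} [Field K] {V : Type v} [AddCommGroup V] [Module K V] (N E : Subgroup (V ≃ₗ[K] V)) (n : ℕ)
    (D : Type w) [Field D] [Algebra K D] (j : Matrix (Fin n) (Fin n) D →ₙₐ[K] Module.End K V) : Prop where
  inj : Function.Injective j
  comm : ∀ X, ∀ g ∈ N, j X * ((g : V ≃ₗ[K] V) : V →ₗ[K] V) = ((g : V ≃ₗ[K] V) : V →ₗ[K] V) * j X
  ne : j 1 ≠ 1
  E : ∀ e ∈ E, ∃ U : Matrix.SpecialLinearGroup (Fin n) D,
    ((e : V ≃ₗ[K] V) : V →ₗ[K] V) = 1 + j ((U : Matrix (Fin n) (Fin n) D) - 1)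

/-- an index with its algebra, as an algebra homomorphism without `1` -/
def single {K : Type u} [Field K] {k : ℕ} (B : Fin k → Type v) [∀ i, Ring (B i)] [∀ i, Algebra K (B i)] (i : Fin k) :
    B i →ₙₐ[K] (∀ i, B i) where
  toFun := Pi.single i
  map_smul' c x := Pi.single_smul i c x
  map_zero' := Pi.single_zero i
  map_add' x y := Pi.single_add i x y
  map_mul' x y := Pi.single_mul i x y

variable {G : Type*} [Group G] {K : Type u} [Field K] {V : Type v} [AddCommGroup V] [Module K V]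
variable {Gh : Subgroup (V ≃ₗ[K] V)} {π : ↥Gh →* G} {N0 A E : Subgroup G} {z s x r : G}
  {ψ : ↥A →* Equiv.Perm (Fin 6)} {Nh Eh : Subgroup (V ≃ₗ[K] V)} {zh sh xh rh : V ≃ₗ[K] V}

theorem isSc_iff (g : V ≃ₗ[K] V) : IsSc g ↔ ∃ c : K, ((g : V ≃ₗ[K] V) : V →ₗ[K] V) = c • (1 : Module.End K V) := by
  constructor
  · rintro ⟨c, hc⟩
    exact ⟨c, LinearMap.ext hc⟩
  · rintro ⟨c, hc⟩
    exact ⟨c, fun v => congrArg (fun t : Module.End K V => t v) hc⟩

/-- **The component of `Eh`.** -/
theorem exists_comp [Finite K] [FiniteDimensional K V] (h2 : (2 : K) ≠ 0) (Kt : Kit N0 A E z s x r ψ) (hL : Lin Gh π)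
    (L : LKit Gh π N0 A E z s x r Nh Eh zh sh xh rh)
    (hGh : ∀ g : V ≃ₗ[K] V, LinearMap.det (g : V →ₗ[K] V) = 1 → g ∈ Gh) :
    ∃ (n : ℕ) (D : Type v) (_ : Field D) (_ : Finite D) (_ : Algebra K D)
      (j : Matrix (Fin n) (Fin n) D →ₙₐ[K] Module.End K V), Comp Nh Eh n D j := by
  classical
  have hV : Finite V := Module.finite_of_finite K
  have hVV : Finite (V ≃ₗ[K] V) := Finite.of_injective (fun f : V ≃ₗ[K] V => (f : V → V)) DFunLike.coe_injective
  obtain ⟨k, D, m, hD, hAl, hDf, hm, J, hJ, hcen⟩ := exists_wed Nh (card_ne h2 Kt hL L)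
  let B : Fin k → Type v := fun i => Matrix (Fin (m i)) (Fin (m i)) (D i)
  -- scalars
  have hone : ∀ i, ∀ c : K, c • (1 : B i) = 1 → c = 1 := by
    intro i c hc
    have h3 : (c - 1) • (1 : B i) = 0 := by rw [sub_smul, one_smul, hc, sub_self]
    rcases smul_eq_zero.1 h3 with h4 | h4
    · exact sub_eq_zero.1 h4
    · exact absurd h4 one_ne_zero
  have hJs : ∀ (c : K) (X : ∀ i, B i), J X = c • 1 → X = c • 1 := by
    intro c X h
    refine hJ ?_
    rw [h, map_smul, map_one]
  -- there are two components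
  have htwo : ∀ i : Fin k, ∃ i' : Fin k, i' ≠ i := by
    intro i
    by_contra hcon
    push Not at hcon
    obtain ⟨ζ, hζ⟩ := (hcen (zh : V →ₗ[K] V)).1 (fun g hg => LinearMap.ext fun v =>
      congrArg (fun t : V ≃ₗ[K] V => t v) (L.z_comm g hg))
    have hcomm : ∀ X, ζ * X = X * ζ := by
      intro X
      refine hJ ?_
      rw [map_mul, map_mul, hζ]
      exact ((hcen (J X)).2 ⟨X, rfl⟩ zh L.zN).symm
    have hsq : ζ * ζ = 1 := by
      refine hJ ?_
      rw [map_mul, hζ, map_one]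
      exact LinearMap.ext fun v => congrArg (fun t : V ≃ₗ[K] V => t v) L.z_sq
    have hci : ζ i ∈ Set.range (Matrix.scalar (Fin (m i)) : D i → Matrix (Fin (m i)) (Fin (m i)) (D i)) := by
      rw [Matrix.mem_range_scalar_iff_commute_single']
      intro a b
      have h3 := congrFun (hcomm (Pi.single i (Matrix.single a b 1))) i
      rw [Pi.mul_apply, Pi.mul_apply, Pi.single_eq_same] at h3
      exact h3.symm
    obtain ⟨d, hd⟩ := hci
    have hdd : d * d = 1 := by
      have h3 := congrFun hsq i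
      rw [Pi.mul_apply, ← hd, ← map_mul] at h3
      have h4 := congrFun (congrFun h3 0) 0
      simpa only [_root_.Matrix.scalar_apply, _root_.Matrix.diagonal_apply_eq, _root_.Pi.one_apply, _root_.Matrix.one_apply_eq] using h4
    have hζ1 : ζ = 1 ∨ ζ = -1 := by
      rcases mul_self_eq_one_iff.1 hdd with h3 | h3
      · left
        funext i'
        rw [hcon i', ← hd, h3, map_one]
        rfl
      · right
        funext i'
        rw [hcon i', ← hd, h3, map_neg, map_one]
        rfl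
    apply L.z_ne
    rw [isSc_iff]
    rcases hζ1 with h3 | h3
    · exact ⟨1, by rw [← hζ, h3, map_one, one_smul]⟩
    · exact ⟨-1, by rw [← hζ, h3, map_neg, map_one, neg_smul, one_smul]⟩
  -- the coordinates of `Eh`
  have hc0 : ∀ e : ↥Eh, ∃ X, J X = ((e : V ≃ₗ[K] V) : V →ₗ[K] V) := fun e =>
    (hcen _).1 fun g hg => LinearMap.ext fun v => congrArg (fun t : V ≃ₗ[K] V => t v) (L.Eh_comm e e.2 g hg)
  choose c0 hc0 using hc0
  let c : ↥Eh →* (∀ i, B i) :=
    { toFun := c0
      map_one' := hJ (by rw [hc0, map_one]; rfl)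
      map_mul' := fun e f => hJ (by rw [map_mul, hc0, hc0, hc0]; rfl) }
  have hc : ∀ e : ↥Eh, J (c e) = ((e : V ≃ₗ[K] V) : V →ₗ[K] V) := hc0
  have hdet : ∀ (e : ↥Eh) (i : Fin k), Matrix.det (c e i) = 1 := fun e i =>
    perf_hom L.Eh_perf ((Matrix.detMonoidHom : B i →* D i).comp ((Pi.evalMonoidHom B i).comp c)) e
  -- a nontrivial coordinate
  obtain ⟨e₀, i, hi⟩ : ∃ (e : ↥Eh) (i : Fin k), c e i ≠ 1 := by
    by_contra hcon
    push Not at hcon
    obtain ⟨e, he, hne⟩ := exists_nsc Kt hL L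
    apply hne
    rw [isSc_iff]
    refine ⟨1, ?_⟩
    rw [← hc ⟨e, he⟩, one_smul]
    have : c ⟨e, he⟩ = 1 := funext fun i => hcon _ i
    rw [this, map_one]
  let c₁ : ↥Eh →* (∀ i, B i) := (MonoidHom.mulSingle B i).comp ((Pi.evalMonoidHom B i).comp c)
  have hc₁ : ∀ e, c₁ e = Pi.mulSingle i (c e i) := fun e => rfl
  let c₂ : ↥Eh →* (∀ i, B i) :=
    { toFun := fun e => Function.update (c e) i 1
      map_one' := by
        rw [map_one]
        exact Function.update_eq_self i (1 : ∀ i, B i)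
      map_mul' := by
        intro e f
        funext i'
        rw [Pi.mul_apply]
        by_cases h : i' = i
        · subst h
          rw [Function.update_self, Function.update_self, Function.update_self, one_mul]
        · rw [Function.update_of_ne h, Function.update_of_ne h, Function.update_of_ne h, map_mul, Pi.mul_apply] }
  have hc₂ : ∀ e, c₂ e = Function.update (c e) i 1 := fun e => rfl
  let θ : (∀ i, B i)ˣ →* (V ≃ₗ[K] V) :=
    (LinearMap.GeneralLinearGroup.generalLinearEquiv K V).toMonoidHom.comp (Units.map (J : (∀ i, B i) →* Module.End K V))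
  have hθ : ∀ u : (∀ i, B i)ˣ, ((θ u : V ≃ₗ[K] V) : V →ₗ[K] V) = J (u : ∀ i, B i) := fun u => LinearMap.ext fun v => rfl
  have key : ∀ f : ↥Eh →* (∀ i, B i), ∀ e, θ (f.toHomUnits e) ∈ Gh := by
    intro f e
    apply hGh
    rw [hθ]
    exact perf_hom L.Eh_perf ((LinearMap.det : Module.End K V →* K).comp ((J : (∀ i, B i) →* Module.End K V).comp f)) e
  let ρ₁ : ↥Eh →* ↥Gh := (θ.comp c₁.toHomUnits).codRestrict Gh (key c₁)
  let ρ₂ : ↥Eh →* ↥Gh := (θ.comp c₂.toHomUnits).codRestrict Gh (key c₂)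
  have hρ₁ : ∀ e, (((ρ₁ e : ↥Gh) : V ≃ₗ[K] V) : V →ₗ[K] V) = J (c₁ e) := fun e => hθ _
  have hρ₂ : ∀ e, (((ρ₂ e : ↥Gh) : V ≃ₗ[K] V) : V →ₗ[K] V) = J (c₂ e) := fun e => hθ _
  have hcom : ∀ (X : ∀ i, B i) (g : V ≃ₗ[K] V), (g : V →ₗ[K] V) = J X → ∀ n ∈ Nh, g * n = n * g := by
    intro X g hg n hn
    refine LinearEquiv.toLinearMap_injective ?_
    have h3 := (hcen (g : V →ₗ[K] V)).2 ⟨X, hg.symm⟩ n hn
    exact h3
  have hc12 : ∀ e f, c₁ e * c₂ f = c₂ f * c₁ e := by
    intro e f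
    funext i'
    rw [Pi.mul_apply, Pi.mul_apply, hc₁, hc₂]
    by_cases h : i' = i
    · subst h
      rw [Pi.mulSingle_eq_same, Function.update_self, one_mul, mul_one]
    · rw [Pi.mulSingle_eq_of_ne h, one_mul, mul_one]
  have hprod : ∀ e, c₁ e * c₂ e = c e := by
    intro e
    funext i'
    rw [Pi.mul_apply, hc₁, hc₂]
    by_cases h : i' = i
    · subst h
      rw [Pi.mulSingle_eq_same, Function.update_self, mul_one]
    · rw [Pi.mulSingle_eq_of_ne h, one_mul, Function.update_of_ne h]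
  have hT := T3L Kt hL L ρ₁ ρ₂ (fun e n hn => hcom _ _ (hρ₁ e) n hn) (fun e n hn => hcom _ _ (hρ₂ e) n hn)
    (fun e f => Subtype.ext (LinearEquiv.toLinearMap_injective (by
      have h3 : J (c₁ e) * J (c₂ f) = J (c₂ f) * J (c₁ e) := by rw [← map_mul, hc12, map_mul]
      exact h3)))
    (fun e => LinearEquiv.toLinearMap_injective (by
      have h3 : J (c e) = J (c₁ e) * J (c₂ e) := by rw [← map_mul, hprod]
      rw [hc] at h3
      exact h3))
  have hall : ∀ e, c e = Pi.mulSingle i (c e i) := by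
    rcases hT with h3 | h3
    · exfalso
      obtain ⟨a, ha⟩ := (isSc_iff _).1 ((hL.ker _).1 (h3 e₀))
      rw [hρ₁] at ha
      have h4 := hJs a _ ha
      obtain ⟨i', hi'⟩ := htwo i
      have h5 := congrFun h4 i'
      rw [hc₁, Pi.mulSingle_eq_of_ne hi', Pi.smul_apply, Pi.one_apply] at h5
      have h6 : a = 1 := hone i' a h5.symm
      have h7 := congrFun h4 i
      rw [hc₁, Pi.mulSingle_eq_same, h6, one_smul] at h7
      exact hi h7
    · intro e
      obtain ⟨a, ha⟩ := (isSc_iff _).1 ((hL.ker _).1 (h3 e))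
      rw [hρ₂] at ha
      have h4 := hJs a _ ha
      have h5 := congrFun h4 i
      rw [hc₂, Function.update_self, Pi.smul_apply, Pi.one_apply] at h5
      have h6 : a = 1 := hone i a h5.symm
      rw [h6, one_smul] at h4
      have h7 : c e = c₁ e := by rw [← hprod e, h4, mul_one]
      rw [← hc₁]
      exact h7
  refine ⟨m i, D i, hD i, hDf i, hAl i, (J.toNonUnitalAlgHom : (∀ i, B i) →ₙₐ[K] Module.End K V).comp (single B i), ?_, ?_, ?_, ?_⟩
  · intro X Y h
    exact Pi.single_injective (M := B) i (hJ h)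
  · intro X g hg
    exact (hcen _).2 ⟨_, rfl⟩ g hg
  · intro h
    obtain ⟨i', hi'⟩ := htwo i
    have h3 : (Pi.single i 1 : ∀ i, B i) = 1 := hJ (by rw [map_one]; exact h)
    have h4 := congrFun h3 i'
    rw [Pi.single_eq_of_ne hi'] at h4
    exact zero_ne_one h4
  · intro e he
    refine ⟨⟨c ⟨e, he⟩ i, hdet _ _⟩, ?_⟩
    change ((e : V ≃ₗ[K] V) : V →ₗ[K] V) = 1 + J (Pi.single i (c ⟨e, he⟩ i - 1))
    rw [← map_one J, ← map_add]
    refine ((hc ⟨e, he⟩).symm.trans (congrArg J (hall ⟨e, he⟩))).trans (congrArg J ?_)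
    funext i'
    rw [Pi.add_apply, Pi.one_apply]
    by_cases h : i' = i
    · subst h
      rw [Pi.mulSingle_eq_same, Pi.single_eq_same, add_sub_cancel]
    · rw [Pi.mulSingle_eq_of_ne h, Pi.single_eq_of_ne h, add_zero]

end Cfsg.Agent.H375.C3
end

-- part: H375/C3/DecComp
section
/-!
# S1920, PSU: the component of `Eh` in a decomposition `Dec` (helper375)

* `T3F` : a symmetric idempotent `F` commuting with `Nh` and `Eh`: `Eh` is trivial on `F V` or on `(1 - F) V`;
* `exists_dec_comp` : the component of `Eh`.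
-/

set_option autoImplicit false

open Subgroup Module
open scoped commutatorElement

namespace Cfsg.Agent.H375.C3

open Cfsg.Agent.H415.C3
open Cfsg.Agent.H601.C3 (Star hc Dec)

universe u v

variable {G : Type*} [Group G] {K : Type u} [Field K] {V : Type v} [AddCommGroup V] [Module K V]
variable {Gh : Subgroup (V ≃ₗ[K] V)} {π : ↥Gh →* G} {N0 A E : Subgroup G} {z s x r : G}
  {ψ : ↥A →* Equiv.Perm (Fin 6)} {Nh Eh : Subgroup (V ≃ₗ[K] V)} {zh sh xh rh : V ≃ₗ[K] V}
variable {σ : K ≃+* K} {ad : Module.End K V → Module.End K V}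

/-- the linear map of `g` -/
abbrev cl (g : V ≃ₗ[K] V) : Module.End K V := (g : V →ₗ[K] V)

theorem cl_mul (g h : V ≃ₗ[K] V) : cl (g * h) = cl g * cl h := rfl

theorem cl_one : cl (1 : V ≃ₗ[K] V) = 1 := rfl

theorem cl_mul_inv (g : V ≃ₗ[K] V) : cl g * cl g⁻¹ = 1 := LinearMap.ext fun v => g.apply_symm_apply v

theorem cl_inv_mul (g : V ≃ₗ[K] V) : cl g⁻¹ * cl g = 1 := LinearMap.ext fun v => g.symm_apply_apply v

theorem Star.zero (hS : _root_.Cfsg.Agent.H601.C3.Star σ ad) : ad 0 = 0 := by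
  have h := hS.add 0 0
  rw [add_zero] at h
  exact left_eq_add.1 h

theorem Star.one (hS : _root_.Cfsg.Agent.H601.C3.Star σ ad) : ad 1 = 1 := by
  have h1 := hS.mul (ad 1) 1
  rw [mul_one, hS.inv] at h1
  have h2 : ad 1 * 1 = 1 := by
    conv_lhs => rw [mul_one]
    have h3 := hS.mul 1 (ad 1)
    rw [one_mul, hS.inv] at h3
    -- `1 = 1 * ad 1`
    rw [one_mul] at h3
    exact h3.symm
  rw [mul_one] at h2
  exact h2

theorem Star.sub (hS : _root_.Cfsg.Agent.H601.C3.Star σ ad) (X Y : Module.End K V) : ad (X - Y) = ad X - ad Y := by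
  have h := hS.add (X - Y) Y
  rw [sub_add_cancel] at h
  rw [h, add_sub_cancel_right]

/-- in a finite unitary group `ad g = g⁻¹` -/
theorem ad_eq (g : V ≃ₗ[K] V) (h : cl g * ad (cl g) = 1) : ad (cl g) = cl g⁻¹ := by
  calc ad (cl g) = cl g⁻¹ * cl g * ad (cl g) := by rw [cl_inv_mul, one_mul]
    _ = cl g⁻¹ := by rw [mul_assoc, h, mul_one]

/-- **T3 for a symmetric idempotent.** -/
theorem T3F (Kt : Kit N0 A E z s x r ψ) (hL : Lin Gh π) (L : LKit Gh π N0 A E z s x r Nh Eh zh sh xh rh)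
    (hS : _root_.Cfsg.Agent.H601.C3.Star σ ad) (hGh : ∀ g : V ≃ₗ[K] V, g ∈ Gh ↔ (cl g * ad (cl g) = 1 ∧ LinearMap.det (cl g) = 1))
    {F : Module.End K V} (hF : F * F = F) (hFa : ad F = F) (hFN : ∀ g ∈ Nh, F * cl g = cl g * F)
    (hFE : ∀ e ∈ Eh, F * cl e = cl e * F) :
    (∀ e ∈ Eh, (cl e - 1) * F = 0) ∨ (∀ e ∈ Eh, (cl e - 1) * F = cl e - 1) := by
  classical
  -- trivial cases
  by_cases hF0 : F = 0
  · left
    intro e _
    rw [hF0, mul_zero]
  by_cases hF1 : F = 1
  · right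
    intro e _
    rw [hF1, mul_one]
  have hmk : ∀ P : Module.End K V, P * P = P → (∀ e ∈ Eh, P * cl e = cl e * P) →
      ∀ e f : ↥Eh, 1 + (cl ((e * f : ↥Eh) : V ≃ₗ[K] V) - 1) * P = (1 + (cl (e : V ≃ₗ[K] V) - 1) * P) * (1 + (cl (f : V ≃ₗ[K] V) - 1) * P) := by
    intro P hP hPE e f
    have h1 : cl ((e * f : ↥Eh) : V ≃ₗ[K] V) = cl (e : V ≃ₗ[K] V) * cl (f : V ≃ₗ[K] V) := rfl
    rw [h1]
    have h2 := hPE f f.2
    set a := cl (e : V ≃ₗ[K] V)
    set b := cl (f : V ≃ₗ[K] V)
    have h3 : (a - 1) * P * ((b - 1) * P) = (a - 1) * (b - 1) * P := by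
      calc (a - 1) * P * ((b - 1) * P) = (a - 1) * (P * b - P) * P := by noncomm_ring
        _ = (a - 1) * (b * P - P) * P := by rw [h2]
        _ = (a - 1) * (b - 1) * (P * P) := by noncomm_ring
        _ = _ := by rw [hP]
    calc 1 + (a * b - 1) * P = 1 + (a - 1) * P + (b - 1) * P + (a - 1) * (b - 1) * P := by noncomm_ring
      _ = 1 + (a - 1) * P + (b - 1) * P + (a - 1) * P * ((b - 1) * P) := by rw [h3]
      _ = _ := by noncomm_ring
  let Q : Module.End K V := 1 - F
  have hQ : Q * Q = Q := by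
    change (1 - F) * (1 - F) = 1 - F
    calc (1 - F) * (1 - F) = 1 - F - F + F * F := by noncomm_ring
      _ = 1 - F := by rw [hF]; noncomm_ring
  have hQa : ad Q = Q := by
    change ad (1 - F) = 1 - F
    rw [Star.sub hS, Star.one hS, hFa]
  have hQN : ∀ g ∈ Nh, Q * cl g = cl g * Q := by
    intro g hg
    change (1 - F) * cl g = cl g * (1 - F)
    rw [sub_mul, mul_sub, one_mul, mul_one, hFN g hg]
  have hQE : ∀ e ∈ Eh, Q * cl e = cl e * Q := by
    intro g hg
    change (1 - F) * cl g = cl g * (1 - F)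
    rw [sub_mul, mul_sub, one_mul, mul_one, hFE g hg]
  have hcomN : ∀ e ∈ Eh, ∀ g ∈ Nh, cl e * cl g = cl g * cl e := fun e he g hg => by
    rw [← cl_mul, ← cl_mul, L.Eh_comm e he g hg]
  -- the homomorphism of an idempotent
  let cP : ∀ P : Module.End K V, P * P = P → (∀ e ∈ Eh, P * cl e = cl e * P) → (↥Eh →* Module.End K V) :=
    fun P hP hPE =>
      { toFun := fun e => 1 + (cl (e : V ≃ₗ[K] V) - 1) * P
        map_one' := by
          change 1 + (1 - 1) * P = 1
          rw [sub_self, zero_mul, add_zero]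
        map_mul' := hmk P hP hPE }
  let θ : (Module.End K V)ˣ →* (V ≃ₗ[K] V) := (LinearMap.GeneralLinearGroup.generalLinearEquiv K V).toMonoidHom
  have hθ : ∀ w : (Module.End K V)ˣ, cl (θ w) = (w : Module.End K V) := fun w => LinearMap.ext fun v => rfl
  have key : ∀ (P : Module.End K V) (hP : P * P = P) (hPa : ad P = P) (hPE : ∀ e ∈ Eh, P * cl e = cl e * P),
      ∀ e : ↥Eh, θ ((cP P hP hPE).toHomUnits e) ∈ Gh := by
    intro P hP hPa hPE e
    rw [hGh, hθ]
    refine ⟨?_, perf_hom L.Eh_perf ((LinearMap.det : Module.End K V →* K).comp (cP P hP hPE)) e⟩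
    change (1 + (cl (e : V ≃ₗ[K] V) - 1) * P) * ad (1 + (cl (e : V ≃ₗ[K] V) - 1) * P) = 1
    have h1 := ((hGh (e : V ≃ₗ[K] V)).1 (L.Eh_le e.2)).1
    have h2 := hPE e e.2
    rw [hS.add, Star.one hS, hS.mul, Star.sub hS, Star.one hS, hPa]
    set a := cl (e : V ≃ₗ[K] V)
    calc (1 + (a - 1) * P) * (1 + P * (ad a - 1)) = 1 + (a - 1) * P + P * (ad a - 1) + (a - 1) * (P * P) * (ad a - 1) := by
          noncomm_ring
      _ = 1 + (a * P - P) + (P * ad a - P) + (a * P - P) * (ad a - 1) := by rw [hP]; noncomm_ring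
      _ = 1 + (P * a - P) + (P * ad a - P) + (P * a - P) * (ad a - 1) := by rw [h2]
      _ = 1 + P * (a * ad a - 1) := by noncomm_ring
      _ = 1 := by rw [h1, sub_self, mul_zero, add_zero]
  let ρ₁ : ↥Eh →* ↥Gh := (θ.comp (cP F hF hFE).toHomUnits).codRestrict Gh (key F hF hFa hFE)
  let ρ₂ : ↥Eh →* ↥Gh := (θ.comp (cP Q hQ hQE).toHomUnits).codRestrict Gh (key Q hQ hQa hQE)
  have hρ₁ : ∀ e : ↥Eh, cl ((ρ₁ e : ↥Gh) : V ≃ₗ[K] V) = 1 + (cl (e : V ≃ₗ[K] V) - 1) * F := fun e => hθ _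
  have hρ₂ : ∀ e : ↥Eh, cl ((ρ₂ e : ↥Gh) : V ≃ₗ[K] V) = 1 + (cl (e : V ≃ₗ[K] V) - 1) * Q := fun e => hθ _
  have hFQ : F * Q = 0 := by
    change F * (1 - F) = 0
    rw [mul_sub, mul_one, hF, sub_self]
  have hQF : Q * F = 0 := by
    change (1 - F) * F = 0
    rw [sub_mul, one_mul, hF, sub_self]
  have hcomm : ∀ (P : Module.End K V), (∀ g ∈ Nh, P * cl g = cl g * P) → ∀ e ∈ Eh, ∀ g ∈ Nh,
      (1 + (cl e - 1) * P) * cl g = cl g * (1 + (cl e - 1) * P) := by
    intro P hP e he g hg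
    have h1 := hP g hg
    have h2 := hcomN e he g hg
    calc (1 + (cl e - 1) * P) * cl g = cl g + (cl e - 1) * (P * cl g) := by noncomm_ring
      _ = cl g + (cl e * cl g - cl g) * P := by rw [h1]; noncomm_ring
      _ = cl g * (1 + (cl e - 1) * P) := by rw [h2]; noncomm_ring
  have hT := T3L Kt hL L ρ₁ ρ₂
    (fun e n hn => LinearEquiv.toLinearMap_injective (by
      have h3 := hcomm F hFN e e.2 n hn
      rw [← hρ₁] at h3
      exact h3))
    (fun e n hn => LinearEquiv.toLinearMap_injective (by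
      have h3 := hcomm Q hQN e e.2 n hn
      rw [← hρ₂] at h3
      exact h3))
    (fun e f => Subtype.ext (LinearEquiv.toLinearMap_injective (by
      have h3 : (1 + (cl (e : V ≃ₗ[K] V) - 1) * F) * (1 + (cl (f : V ≃ₗ[K] V) - 1) * Q) =
          (1 + (cl (f : V ≃ₗ[K] V) - 1) * Q) * (1 + (cl (e : V ≃ₗ[K] V) - 1) * F) := by
        have h4 := hQE e e.2
        have h5 := hFE f f.2
        set a := cl (e : V ≃ₗ[K] V)
        set b := cl (f : V ≃ₗ[K] V)
        have e1 : (a - 1) * F * ((b - 1) * Q) = 0 := by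
          calc (a - 1) * F * ((b - 1) * Q) = (a - 1) * (F * b - F) * Q := by noncomm_ring
            _ = (a - 1) * (b - 1) * (F * Q) := by rw [h5]; noncomm_ring
            _ = 0 := by rw [hFQ, mul_zero]
        have e2 : (b - 1) * Q * ((a - 1) * F) = 0 := by
          calc (b - 1) * Q * ((a - 1) * F) = (b - 1) * (Q * a - Q) * F := by noncomm_ring
            _ = (b - 1) * (a - 1) * (Q * F) := by rw [h4]; noncomm_ring
            _ = 0 := by rw [hQF, mul_zero]
        calc _ = 1 + (a - 1) * F + (b - 1) * Q + (a - 1) * F * ((b - 1) * Q) := by noncomm_ring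
          _ = 1 + (a - 1) * F + (b - 1) * Q + (b - 1) * Q * ((a - 1) * F) := by rw [e1, e2]
          _ = _ := by noncomm_ring
      rw [← hρ₁, ← hρ₂] at h3
      exact h3)))
    (fun e => LinearEquiv.toLinearMap_injective (by
      have h3 : cl (e : V ≃ₗ[K] V) = (1 + (cl (e : V ≃ₗ[K] V) - 1) * F) * (1 + (cl (e : V ≃ₗ[K] V) - 1) * Q) := by
        have h5 := hFE e e.2
        set a := cl (e : V ≃ₗ[K] V)
        have e1 : (a - 1) * F * ((a - 1) * Q) = 0 := by
          calc (a - 1) * F * ((a - 1) * Q) = (a - 1) * (F * a - F) * Q := by noncomm_ring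
            _ = (a - 1) * (a - 1) * (F * Q) := by rw [h5]; noncomm_ring
            _ = 0 := by rw [hFQ, mul_zero]
        calc a = 1 + (a - 1) * F + (a - 1) * (1 - F) := by noncomm_ring
          _ = 1 + (a - 1) * F + (a - 1) * Q + (a - 1) * F * ((a - 1) * Q) := by rw [e1, add_zero]
          _ = _ := by noncomm_ring
      rw [← hρ₁, ← hρ₂] at h3
      exact h3))
  have hsc : ∀ (P R : Module.End K V), P * R = 0 → R ≠ 0 → ∀ (a : Module.End K V) (c : K), 1 + a * P = c • 1 → a * P = 0 := by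
    intro P R hPR hR a c h
    have h1 : (c - 1) • R = 0 := by
      have h2 : (1 + a * P) * R = c • R := by rw [h, smul_mul_assoc, one_mul]
      rw [add_mul, one_mul, mul_assoc, hPR, mul_zero, add_zero] at h2
      rw [sub_smul, one_smul, ← h2, sub_self]
    rcases smul_eq_zero.1 h1 with h2 | h2
    · rw [sub_eq_zero.1 h2, one_smul] at h
      exact add_eq_left.1 h
    · exact absurd h2 hR
  rcases hT with h3 | h3
  · left
    intro e he
    obtain ⟨c, hc'⟩ := (isSc_iff _).1 ((hL.ker _).1 (h3 ⟨e, he⟩))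
    have h4 : 1 + (cl e - 1) * F = c • (1 : Module.End K V) := by
      rw [← hρ₁ ⟨e, he⟩]
      exact hc'
    exact hsc F Q hFQ (fun h => hF1 (sub_eq_zero.1 h).symm) _ c h4
  · right
    intro e he
    obtain ⟨c, hc'⟩ := (isSc_iff _).1 ((hL.ker _).1 (h3 ⟨e, he⟩))
    have h4 : 1 + (cl e - 1) * Q = c • (1 : Module.End K V) := by
      rw [← hρ₂ ⟨e, he⟩]
      exact hc'
    have h5 := hsc Q F hQF hF0 _ c h4
    have h6 : (cl e - 1) * (1 - F) = 0 := h5
    rw [mul_sub, mul_one, sub_eq_zero] at h6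
    exact h6.symm

section D

variable {N : Subgroup (V ≃ₗ[K] V)} {ι : Type} [Fintype ι] {m : ι → ℕ} {u : ι → Bool}
  {φ : ∀ i, Matrix (Fin (m i)) (Fin (m i)) K →ₗ[K] Module.End K V}

/-- the idempotent of a component -/
def FF (ad : Module.End K V → Module.End K V) (u : ι → Bool)
    (φ : ∀ i, Matrix (Fin (m i)) (Fin (m i)) K →ₗ[K] Module.End K V) (i : ι) : Module.End K V :=
  φ i 1 + if u i then 0 else ad (φ i 1)

theorem dec_phi (hD : Dec σ ad N u φ) (hS : _root_.Cfsg.Agent.H601.C3.Star σ ad) {T : Module.End K V} (hT : ∀ g ∈ N, T * cl g = cl g * T) (i : ι) :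
    ∃ X, T * φ i 1 = φ i X ∧ φ i 1 * T = φ i X := by
  classical
  obtain ⟨X, Y, hXY⟩ := hD.surj T hT
  refine ⟨X i, ?_, ?_⟩
  · rw [hXY, Finset.sum_mul, Finset.sum_eq_single i]
    · by_cases hu : u i = true
      · rw [if_pos hu, add_zero, ← hD.mul, mul_one]
      · rw [if_neg hu, add_mul, ← hD.mul, mul_one, (hD.pair i (by simpa using hu) _ _).2, add_zero]
    · intro k _ hk
      by_cases hu : u k = true
      · rw [if_pos hu, add_zero, hD.orth k i hk]
      · rw [if_neg hu, add_mul, hD.orth k i hk, (hD.orth' k i hk _ _).2, add_zero]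
    · intro h
      exact absurd (Finset.mem_univ i) h
  · rw [hXY, Finset.mul_sum, Finset.sum_eq_single i]
    · by_cases hu : u i = true
      · rw [if_pos hu, add_zero, ← hD.mul, one_mul]
      · rw [if_neg hu, mul_add, ← hD.mul, one_mul, (hD.pair i (by simpa using hu) _ _).1, add_zero]
    · intro k _ hk
      by_cases hu : u k = true
      · rw [if_pos hu, add_zero, hD.orth i k hk.symm]
      · rw [if_neg hu, mul_add, hD.orth i k hk.symm, (hD.orth' i k hk.symm _ _).1, add_zero]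
    · intro h
      exact absurd (Finset.mem_univ i) h

theorem dec_sum (hD : Dec σ ad N u φ) (hS : _root_.Cfsg.Agent.H601.C3.Star σ ad) : ∑ i, FF ad u φ i = 1 := by
  classical
  obtain ⟨X, Y, hXY⟩ := hD.surj 1 (fun g _ => by rw [one_mul, mul_one])
  have hX : ∀ i, X i = 1 := by
    intro i
    have h1 : (1 : Module.End K V) * φ i 1 = φ i (X i) := by
      rw [hXY, Finset.sum_mul, Finset.sum_eq_single i]
      · by_cases hu : u i = true
        · rw [if_pos hu, add_zero, ← hD.mul, mul_one]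
        · rw [if_neg hu, add_mul, ← hD.mul, mul_one, (hD.pair i (by simpa using hu) _ _).2, add_zero]
      · intro k _ hk
        by_cases hu : u k = true
        · rw [if_pos hu, add_zero, hD.orth k i hk]
        · rw [if_neg hu, add_mul, hD.orth k i hk, (hD.orth' k i hk _ _).2, add_zero]
      · intro h
        exact absurd (Finset.mem_univ i) h
    rw [one_mul] at h1
    exact (hD.inj i h1).symm
  have hY : ∀ i, u i ≠ true → Y i = 1 := by
    intro i hui
    have h1 : (1 : Module.End K V) * ad (φ i 1) = ad (φ i (Y i)) := by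
      rw [hXY, Finset.sum_mul, Finset.sum_eq_single i]
      · rw [if_neg hui, add_mul, (hD.pair i (by simpa using hui) _ _).1, zero_add, ← hS.mul, ← hD.mul, one_mul]
      · intro k _ hk
        by_cases hu : u k = true
        · rw [if_pos hu, add_zero, (hD.orth' k i hk _ _).1]
        · rw [if_neg hu, add_mul, (hD.orth' k i hk _ _).1, zero_add, ← hS.mul, hD.orth i k hk.symm, Star.zero hS]
      · intro h
        exact absurd (Finset.mem_univ i) h
    rw [one_mul] at h1
    have h2 : φ i 1 = φ i (Y i) := by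
      rw [← hS.inv (φ i 1), h1, hS.inv]
    exact (hD.inj i h2).symm
  rw [hXY]
  refine Finset.sum_congr rfl fun i _ => ?_
  unfold FF
  by_cases hu : u i = true
  · rw [if_pos hu, if_pos hu, hX]
  · rw [if_neg hu, if_neg hu, hX, hY i hu]

theorem dec_sq (hD : Dec σ ad N u φ) (hS : _root_.Cfsg.Agent.H601.C3.Star σ ad) (i : ι) : FF ad u φ i * FF ad u φ i = FF ad u φ i := by
  unfold FF
  have h1 : φ i 1 * φ i 1 = φ i 1 := by rw [← hD.mul, mul_one]
  by_cases hu : u i = true
  · rw [if_pos hu, add_zero, h1]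
  · rw [if_neg hu]
    have h2 := (hD.pair i (by simpa using hu) 1 1).1
    have h3 := (hD.pair i (by simpa using hu) 1 1).2
    have h4 : ad (φ i 1) * ad (φ i 1) = ad (φ i 1) := by rw [← hS.mul, h1]
    rw [add_mul, mul_add, mul_add, h1, h2, h3, h4, add_zero, zero_add]

theorem hc_one (σ : K ≃+* K) {n : ℕ} : hc σ (1 : Matrix (Fin n) (Fin n) K) = 1 := by
  unfold hc
  rw [Matrix.map_one σ (map_zero σ) (map_one σ), Matrix.transpose_one]

theorem dec_ad (hD : Dec σ ad N u φ) (hS : _root_.Cfsg.Agent.H601.C3.Star σ ad) (i : ι) : ad (FF ad u φ i) = FF ad u φ i := by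
  unfold FF
  by_cases hu : u i = true
  · rw [if_pos hu, add_zero, hD.star i hu, hc_one]
  · rw [if_neg hu, hS.add, hS.inv, add_comm]

theorem dec_comm (hD : Dec σ ad N u φ) (hS : _root_.Cfsg.Agent.H601.C3.Star σ ad) (i : ι) (g : V ≃ₗ[K] V) (hg : cl g * ad (cl g) = 1)
    (h : φ i 1 * cl g = cl g * φ i 1) : FF ad u φ i * cl g = cl g * FF ad u φ i := by
  unfold FF
  have h1 := ad_eq g hg
  have h2 : ad (φ i 1) * cl g = cl g * ad (φ i 1) := by
    have h3 : φ i 1 * cl g⁻¹ = cl g⁻¹ * φ i 1 := by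
      calc φ i 1 * cl g⁻¹ = cl g⁻¹ * (cl g * φ i 1) * cl g⁻¹ := by rw [← mul_assoc, cl_inv_mul, one_mul]
        _ = cl g⁻¹ * φ i 1 * (cl g * cl g⁻¹) := by rw [← h]; noncomm_ring
        _ = _ := by rw [cl_mul_inv, mul_one]
    have h4 := congrArg ad h3
    rw [hS.mul, hS.mul, ← h1, hS.inv] at h4
    exact h4.symm
  by_cases hu : u i = true
  · rw [if_pos hu, add_zero, h]
  · rw [if_neg hu, add_mul, mul_add, h, h2]

end D

/-- **The component of `Eh`.** -/
theorem exists_dec_comp {ι : Type} [Fintype ι] {m : ι → ℕ} {u : ι → Bool}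
    {φ : ∀ i, Matrix (Fin (m i)) (Fin (m i)) K →ₗ[K] Module.End K V} (h2 : (2 : K) ≠ 0)
    (Kt : Kit N0 A E z s x r ψ) (hL : Lin Gh π) (L : LKit Gh π N0 A E z s x r Nh Eh zh sh xh rh)
    (hS : _root_.Cfsg.Agent.H601.C3.Star σ ad) (hD : Dec σ ad Nh u φ)
    (hGh : ∀ g : V ≃ₗ[K] V, g ∈ Gh ↔ (cl g * ad (cl g) = 1 ∧ LinearMap.det (cl g) = 1)) :
    ∃ i : ι, FF ad u φ i ≠ 1 ∧ (∀ e ∈ Eh, (cl e - 1) * FF ad u φ i = cl e - 1) ∧
      ∀ e ∈ Eh, ∃ X : Matrix.SpecialLinearGroup (Fin (m i)) K,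
        (u i = true ∧ hc σ (X : Matrix (Fin (m i)) (Fin (m i)) K) * X = 1 ∧
          cl e = 1 + φ i ((X : Matrix (Fin (m i)) (Fin (m i)) K) - 1)) ∨
        (u i = false ∧ cl e = 1 + φ i ((X : Matrix (Fin (m i)) (Fin (m i)) K) - 1) +
          ad (φ i (((X⁻¹ : Matrix.SpecialLinearGroup (Fin (m i)) K) : Matrix (Fin (m i)) (Fin (m i)) K) - 1))) := by
  classical
  have hNG : ∀ g ∈ Nh, cl g * ad (cl g) = 1 := fun g hg => ((hGh g).1 (Nh_le L hg)).1
  have hEG : ∀ g ∈ Eh, cl g * ad (cl g) = 1 := fun g hg => ((hGh g).1 (L.Eh_le hg)).1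
  have hEN : ∀ e ∈ Eh, ∀ g ∈ Nh, cl e * cl g = cl g * cl e := fun e he g hg => by
    rw [← cl_mul, ← cl_mul, L.Eh_comm e he g hg]
  have hFN : ∀ i, ∀ g ∈ Nh, FF ad u φ i * cl g = cl g * FF ad u φ i := fun i g hg =>
    dec_comm hD hS i g (hNG g hg) (hD.comm i 1 g hg)
  have hphi : ∀ e ∈ Eh, ∀ i, φ i 1 * cl e = cl e * φ i 1 := by
    intro e he i
    obtain ⟨X, h3, h4⟩ := dec_phi hD hS (hEN e he) i
    rw [h3, h4]
  have hFE : ∀ i, ∀ g ∈ Eh, FF ad u φ i * cl g = cl g * FF ad u φ i := fun i g hg =>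
    dec_comm hD hS i g (hEG g hg) (hphi g hg i)
  -- the index
  obtain ⟨i, hi⟩ : ∃ i, ∀ e ∈ Eh, (cl e - 1) * FF ad u φ i = cl e - 1 := by
    by_contra hcon
    push Not at hcon
    obtain ⟨e, he, hne⟩ := exists_nsc Kt hL L
    apply hne
    have h3 : ∀ i, (cl e - 1) * FF ad u φ i = 0 := by
      intro i
      rcases T3F Kt hL L hS hGh (dec_sq hD hS i) (dec_ad hD hS i) (hFN i) (hFE i) with h4 | h4
      · exact h4 e he
      · obtain ⟨e', he', hne'⟩ := hcon i
        exact absurd (h4 e' he') hne'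
    have h4 : cl e - 1 = 0 := by
      calc cl e - 1 = (cl e - 1) * ∑ i, FF ad u φ i := by rw [dec_sum hD hS, mul_one]
        _ = 0 := by
          rw [Finset.mul_sum]
          exact Finset.sum_eq_zero fun i _ => h3 i
    rw [isSc_iff]
    exact ⟨1, by rw [one_smul]; exact sub_eq_zero.1 h4⟩
  refine ⟨i, ?_, hi, ?_⟩
  · -- `F ≠ 1`
    intro hF1
    apply L.z_ne
    have hzc : ∀ g ∈ Nh, cl zh * cl g = cl g * cl zh := fun g hg => by rw [← cl_mul, ← cl_mul, L.z_comm g hg]
    obtain ⟨Z, h3, h4⟩ := dec_phi hD hS hzc i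
    have hZcen : ∀ Y, Z * Y = Y * Z := by
      intro Y
      refine hD.inj i ?_
      rw [hD.mul, hD.mul, ← h3]
      have h5 := hD.comm i Y zh L.zN
      calc cl zh * φ i 1 * φ i Y = cl zh * φ i Y := by rw [mul_assoc, ← hD.mul, one_mul]
        _ = φ i Y * cl zh := h5.symm
        _ = φ i Y * (φ i 1 * cl zh) := by rw [← mul_assoc, ← hD.mul, mul_one]
        _ = φ i Y * (cl zh * φ i 1) := by rw [h3, h4]
    have hZsq : Z * Z = 1 := by
      refine hD.inj i ?_
      rw [hD.mul, ← h3]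
      calc cl zh * φ i 1 * (cl zh * φ i 1) = cl zh * (φ i 1 * cl zh) * φ i 1 := by noncomm_ring
        _ = cl zh * (cl zh * φ i 1) * φ i 1 := by rw [h3, h4]
        _ = (cl zh * cl zh) * (φ i 1 * φ i 1) := by noncomm_ring
        _ = _ := by
          rw [← cl_mul, L.z_sq, cl_one, one_mul, ← hD.mul, mul_one]
    have hpos := hD.pos i
    have hci : Z ∈ Set.range (Matrix.scalar (Fin (m i)) : K → Matrix (Fin (m i)) (Fin (m i)) K) := by
      rw [Matrix.mem_range_scalar_iff_commute_single']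
      intro a b
      exact (hZcen _).symm
    obtain ⟨d, hd⟩ := hci
    have hdd : d * d = 1 := by
      have h5 := hZsq
      rw [← hd, ← map_mul] at h5
      have h6 := congrFun (congrFun h5 ⟨0, hpos⟩) ⟨0, hpos⟩
      simpa only [_root_.Matrix.scalar_apply, _root_.Matrix.diagonal_apply_eq, _root_.Matrix.one_apply_eq] using h6
    have hd1 : d = 1 ∨ d = -1 := mul_self_eq_one_iff.1 hdd
    have hZd : φ i Z = d • φ i 1 := by
      rw [← map_smul, ← hd]
      congr 1
      rw [Matrix.scalar_apply, ← Matrix.smul_one_eq_diagonal]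
    have hσd : σ d = d := by
      rcases hd1 with h | h
      · rw [h, map_one]
      · rw [h, map_neg, map_one]
    have hinv : zh⁻¹ = zh := by rw [inv_eq_iff_mul_eq_one]; exact L.z_sq
    have h5 : cl zh * ad (φ i 1) = d • ad (φ i 1) := by
      have h6 := ad_eq zh (hNG zh L.zN)
      rw [hinv] at h6
      calc cl zh * ad (φ i 1) = ad (cl zh) * ad (φ i 1) := by rw [h6]
        _ = ad (φ i 1 * cl zh) := (hS.mul _ _).symm
        _ = d • ad (φ i 1) := by rw [h4, hZd, hS.smul, hσd]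
    rw [isSc_iff]
    refine ⟨d, ?_⟩
    change cl zh = d • 1
    calc cl zh = cl zh * FF ad u φ i := by rw [hF1, mul_one]
      _ = d • FF ad u φ i := by
        unfold FF
        rw [mul_add, h3, hZd, smul_add]
        by_cases hu : u i = true
        · rw [if_pos hu, mul_zero, smul_zero]
        · rw [if_neg hu, h5]
      _ = d • 1 := by rw [hF1]
  · -- the coordinates
    have hex : ∀ e : ↥Eh, ∃ X, cl (e : V ≃ₗ[K] V) * φ i 1 = φ i X := fun e => by
      obtain ⟨X, h3, -⟩ := dec_phi hD hS (hEN e e.2) i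
      exact ⟨X, h3⟩
    choose c0 hc0 using hex
    let c : ↥Eh →* Matrix (Fin (m i)) (Fin (m i)) K :=
      { toFun := c0
        map_one' := hD.inj i (by
          rw [← hc0]
          change (1 : Module.End K V) * φ i 1 = φ i 1
          rw [one_mul])
        map_mul' := fun e f => hD.inj i (by
          rw [hD.mul, ← hc0, ← hc0, ← hc0]
          have h3 := hphi f f.2 i
          change cl (e : V ≃ₗ[K] V) * cl (f : V ≃ₗ[K] V) * φ i 1 = cl (e : V ≃ₗ[K] V) * φ i 1 * (cl (f : V ≃ₗ[K] V) * φ i 1)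
          calc cl (e : V ≃ₗ[K] V) * cl (f : V ≃ₗ[K] V) * φ i 1 = cl (e : V ≃ₗ[K] V) * (cl (f : V ≃ₗ[K] V) * (φ i 1 * φ i 1)) := by
                rw [← hD.mul, mul_one, mul_assoc]
            _ = cl (e : V ≃ₗ[K] V) * ((cl (f : V ≃ₗ[K] V) * φ i 1) * φ i 1) := by noncomm_ring
            _ = cl (e : V ≃ₗ[K] V) * ((φ i 1 * cl (f : V ≃ₗ[K] V)) * φ i 1) := by rw [h3]
            _ = _ := by noncomm_ring) }
    have hcc : ∀ e : ↥Eh, cl (e : V ≃ₗ[K] V) * φ i 1 = φ i (c e) := hc0
    have hdet : ∀ e : ↥Eh, Matrix.det (c e) = 1 := fun e => perf_hom L.Eh_perf (Matrix.detMonoidHom.comp c) e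
    intro e he
    let e' : ↥Eh := ⟨e, he⟩
    let X : Matrix.SpecialLinearGroup (Fin (m i)) K := ⟨c e', hdet e'⟩
    refine ⟨X, ?_⟩
    have hXi : (((X⁻¹ : Matrix.SpecialLinearGroup (Fin (m i)) K)) : Matrix (Fin (m i)) (Fin (m i)) K) = c e'⁻¹ := by
      have h3 : c e' * c e'⁻¹ = 1 := by rw [← map_mul, mul_inv_cancel, map_one]
      have h4 : (((X⁻¹ : Matrix.SpecialLinearGroup (Fin (m i)) K)) : Matrix (Fin (m i)) (Fin (m i)) K) * c e' = 1 :=
        congrArg Subtype.val (inv_mul_cancel X)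
      calc _ = (((X⁻¹ : Matrix.SpecialLinearGroup (Fin (m i)) K)) : Matrix (Fin (m i)) (Fin (m i)) K) * (c e' * c e'⁻¹) := by
            rw [h3, mul_one]
        _ = _ := by rw [← mul_assoc, h4, one_mul]
    have had := ad_eq e (hEG e he)
    -- the action on the adjoint part
    have hadX : cl e * ad (φ i 1) = ad (φ i (c e'⁻¹)) := by
      rw [← hcc]
      change cl e * ad (φ i 1) = ad (cl e⁻¹ * φ i 1)
      rw [hS.mul, ← had, hS.inv]
      have h3 := dec_comm hD hS i e (hEG e he) (hphi e he i)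
      have h4 := hphi e he i
      -- `ad (φ i 1)` commutes with `e`
      have h5 : φ i 1 * cl e⁻¹ = cl e⁻¹ * φ i 1 := hphi e⁻¹ (inv_mem he) i
      have h6 := congrArg ad h5
      rw [hS.mul, hS.mul, ← had, hS.inv] at h6
      exact h6
    have hmain : cl e = 1 + (cl e * FF ad u φ i - FF ad u φ i) := by
      have h3 := hi e he
      rw [sub_mul, one_mul] at h3
      rw [h3]
      abel
    by_cases hu : u i = true
    · left
      refine ⟨hu, ?_, ?_⟩
      · have h3 : φ i (hc σ (c e')) = φ i (c e'⁻¹) := by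
          rw [← hD.star i hu, ← hcc, ← hcc, hS.mul, had, hD.star i hu, hc_one]
          exact hphi e⁻¹ (inv_mem he) i
        have h4 := hD.inj i h3
        change hc σ (c e') * c e' = 1
        rw [h4, ← map_mul, inv_mul_cancel, map_one]
      · rw [map_sub]
        change cl e = 1 + (φ i (c e') - φ i 1)
        rw [← hcc]
        have h3 : FF ad u φ i = φ i 1 := by
          unfold FF
          rw [if_pos hu, add_zero]
        rw [h3] at hmain
        exact hmain
    · right
      refine ⟨by simpa using hu, ?_⟩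
      rw [map_sub, map_sub, Star.sub hS, hXi]
      change cl e = 1 + (φ i (c e') - φ i 1) + (ad (φ i (c e'⁻¹)) - ad (φ i 1))
      rw [← hcc, ← hadX]
      have h3 : FF ad u φ i = φ i 1 + ad (φ i 1) := by
        unfold FF
        rw [if_neg hu]
      rw [h3] at hmain
      have h4 : 1 + (cl (e' : V ≃ₗ[K] V) * φ i 1 - φ i 1) + (cl e * ad (φ i 1) - ad (φ i 1)) =
          1 + (cl e * (φ i 1 + ad (φ i 1)) - (φ i 1 + ad (φ i 1))) := by
        change 1 + (cl e * φ i 1 - φ i 1) + (cl e * ad (φ i 1) - ad (φ i 1)) = _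
        noncomm_ring
      rw [h4]
      exact hmain

end Cfsg.Agent.H375.C3
end

-- part: H375/C3/Nine
section
/-!
# S1920, PSL: `SL_n(D)` maps onto `A₆` only for `n = 2`, `|D| = 9` (helper375)
-/

set_option autoImplicit false

open Matrix

namespace Cfsg.Agent.H375.C3

/-- `SL_n(D)`, `|D|` odd, of order at least 360 is perfect -/
theorem perf_SL {D : Type*} [Field D] [Finite D] (hodd : Odd (Nat.card D)) (n : ℕ)
    (hge : 360 ≤ Nat.card (_root_.Matrix.SpecialLinearGroup (Fin n) D)) : commutator (_root_.Matrix.SpecialLinearGroup (Fin n) D) = ⊤ := by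
  classical
  have hft := Fintype.ofFinite D
  rw [Nat.card_eq_fintype_card] at hodd
  have hq1 : 1 < Fintype.card D := Fintype.one_lt_card
  have hn : 2 ≤ n := by
    by_contra hcon
    have hsub : Subsingleton (Fin n) := by
      rw [Fin.subsingleton_iff_le_one]
      omega
    have h1 : Subsingleton (_root_.Matrix.SpecialLinearGroup (Fin n) D) := inferInstance
    have h2 : Nat.card (_root_.Matrix.SpecialLinearGroup (Fin n) D) ≤ 1 := Finite.card_le_one_iff_subsingleton.2 h1
    omega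
  by_cases h3 : 3 ≤ n
  · exact Cfsg.Agent.LieClassical.SLGen.commutator_eq_top (by rw [Fintype.card_fin]; exact h3)
  · obtain rfl : n = 2 := by omega
    refine Cfsg.Agent.H259.NatMod.commutator_eq_top ?_
    by_contra hcon
    have hq3 : Fintype.card D = 3 := by
      obtain ⟨k, hk⟩ := hodd
      omega
    have h4 := Cfsg.Agent.S0242.result (F := D) hq3 2 (by norm_num)
    rw [Fin.prod_univ_two] at h4
    have h5 : (3 ^ 2 - 3 ^ ((0 : Fin 2) : ℕ)) * (3 ^ 2 - 3 ^ ((1 : Fin 2) : ℕ)) = 48 := rfl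
    rw [h5] at h4
    omega

/-- **`SL_n(D)`, `|D|` odd, maps onto `A₆` only for `n = 2`, `|D| = 9`.** -/
theorem nine {D : Type*} [Field D] [Finite D] (hodd : Odd (Nat.card D)) (n : ℕ)
    (f : _root_.Matrix.SpecialLinearGroup (Fin n) D →* alternatingGroup (Fin 6)) (hf : Function.Surjective f) :
    n = 2 ∧ Nat.card D = 9 := by
  classical
  have hft := Fintype.ofFinite D
  rw [Nat.card_eq_fintype_card] at hodd ⊢
  have hA : Nat.card (alternatingGroup (Fin 6)) = 360 := by
    rw [nat_card_alternatingGroup]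
    simp [Nat.factorial]
  have hfin : Finite (_root_.Matrix.SpecialLinearGroup (Fin n) D) := inferInstance
  have hge : 360 ≤ Nat.card (_root_.Matrix.SpecialLinearGroup (Fin n) D) := by
    rw [← hA]
    exact Nat.card_le_card_of_surjective f hf
  have hn : 2 ≤ n := by
    by_contra hcon
    have hsub : Subsingleton (Fin n) := by
      rw [Fin.subsingleton_iff_le_one]
      omega
    have h1 : Subsingleton (_root_.Matrix.SpecialLinearGroup (Fin n) D) := inferInstance
    have h2 : Nat.card (_root_.Matrix.SpecialLinearGroup (Fin n) D) ≤ 1 := Finite.card_le_one_iff_subsingleton.2 h1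
    omega
  have hq1 : 1 < Fintype.card D := Fintype.one_lt_card
  -- the group is perfect
  have hperf : commutator (_root_.Matrix.SpecialLinearGroup (Fin n) D) = ⊤ := by
    by_cases h3 : 3 ≤ n
    · exact Cfsg.Agent.LieClassical.SLGen.commutator_eq_top (by rw [Fintype.card_fin]; exact h3)
    · obtain rfl : n = 2 := by omega
      refine Cfsg.Agent.H259.NatMod.commutator_eq_top ?_
      by_contra hcon
      have hq3 : Fintype.card D = 3 := by
        obtain ⟨k, hk⟩ := hodd
        omega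
      have h4 := Cfsg.Agent.S0242.result (F := D) hq3 2 (by norm_num)
      rw [Fin.prod_univ_two] at h4
      have h5 : (3 ^ 2 - 3 ^ ((0 : Fin 2) : ℕ)) * (3 ^ 2 - 3 ^ ((1 : Fin 2) : ℕ)) = 48 := rfl
      rw [h5] at h4
      omega
  have hnt : Nontrivial (Fin n) := Fin.nontrivial_iff_two_le.2 hn
  have hsimple : IsSimpleGroup (ProjectiveSpecialLinearGroup (Fin n) D) :=
    Cfsg.Agent.LieClassical.SLGen.psl_isSimpleGroup_of_perfect hperf
  -- the kernel is the centre
  have hker : f.ker = Subgroup.center (_root_.Matrix.SpecialLinearGroup (Fin n) D) := by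
    apply le_antisymm
    · rcases Cfsg.Agent.S2540.normal_dichotomy hperf hsimple f.ker with h | h
      · exact h
      · exfalso
        have h1 : Subsingleton (alternatingGroup (Fin 6)) := by
          refine ⟨fun a b => ?_⟩
          obtain ⟨x, rfl⟩ := hf a
          obtain ⟨y, rfl⟩ := hf b
          have hx : x ∈ f.ker := by rw [h]; trivial
          have hy : y ∈ f.ker := by rw [h]; trivial
          rw [MonoidHom.mem_ker.1 hx, MonoidHom.mem_ker.1 hy]
        have h2 : Nat.card (alternatingGroup (Fin 6)) ≤ 1 := Finite.card_le_one_iff_subsingleton.2 h1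
        omega
    · intro u hu
      have hs : IsSimpleGroup (alternatingGroup (Fin 6)) := alternatingGroup.isSimpleGroup (by simp)
      have h1 : f u ∈ Subgroup.center (alternatingGroup (Fin 6)) := by
        rw [Subgroup.mem_center_iff]
        intro a
        obtain ⟨x, rfl⟩ := hf a
        rw [← map_mul, ← map_mul, Subgroup.mem_center_iff.1 hu x]
      have h2 : Subgroup.center (alternatingGroup (Fin 6)) = ⊥ := by
        rcases hs.eq_bot_or_eq_top_of_normal (Subgroup.center (alternatingGroup (Fin 6))) inferInstance with h | h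
        · exact h
        · exfalso
          have h3 : ∀ a b : alternatingGroup (Fin 6), a * b = b * a := by
            intro a b
            have h4 : b ∈ Subgroup.center (alternatingGroup (Fin 6)) := by rw [h]; trivial
            exact Subgroup.mem_center_iff.1 h4 a
          have h5 := h3 ⟨Equiv.swap 0 1 * Equiv.swap 1 2, Equiv.Perm.mem_alternatingGroup.2 (by decide)⟩
            ⟨Equiv.swap 0 1 * Equiv.swap 1 3, Equiv.Perm.mem_alternatingGroup.2 (by decide)⟩
          exact absurd (congrArg Subtype.val h5) (by decide)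
      rw [h2, Subgroup.mem_bot] at h1
      exact MonoidHom.mem_ker.2 h1
  have hcard : Nat.card (ProjectiveSpecialLinearGroup (Fin n) D) = 360 := by
    rw [← hA]
    have h1 : Nat.card (_root_.Matrix.SpecialLinearGroup (Fin n) D ⧸ f.ker) = Nat.card (alternatingGroup (Fin 6)) :=
      Nat.card_congr (QuotientGroup.quotientKerEquivOfSurjective f hf).toEquiv
    rw [hker] at h1
    exact h1
  have hmain := Cfsg.Agent.S0243.result (F := D) rfl n hn
  rw [hcard] at hmain
  set q := Fintype.card D with hq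
  by_cases h3 : 3 ≤ n
  · exfalso
    have h4 : q ^ 3 ∣ ∏ i : Fin n, (q ^ n - q ^ (i : ℕ)) := by
      have h5 : ∏ i ∈ ({⟨1, by omega⟩, ⟨2, by omega⟩} : Finset (Fin n)), (q ^ n - q ^ (i : ℕ)) ∣
          ∏ i : Fin n, (q ^ n - q ^ (i : ℕ)) := Finset.prod_dvd_prod_of_subset _ _ _ (Finset.subset_univ _)
      refine dvd_trans ?_ h5
      rw [Finset.prod_pair (by simp)]
      have h6 : q ∣ q ^ n - q ^ ((⟨1, by omega⟩ : Fin n) : ℕ) := by
        refine Nat.dvd_sub (dvd_pow_self _ (by omega)) ?_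
        change q ∣ q ^ 1
        rw [pow_one]
      have h7 : q ^ 2 ∣ q ^ n - q ^ ((⟨2, by omega⟩ : Fin n) : ℕ) := by
        refine Nat.dvd_sub (pow_dvd_pow _ (by omega)) ?_
        exact dvd_rfl
      calc q ^ 3 = q * q ^ 2 := by ring
        _ ∣ _ := mul_dvd_mul h6 h7
    rw [← hmain] at h4
    have hcop : Nat.Coprime q (q - 1) := by
      have h5 : q = (q - 1) + 1 := by omega
      conv_lhs => rw [h5]
      simp only [_root_.Nat.coprime_self_add_left, _root_.Nat.coprime_one_left_eq_true]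
    have hc1 : Nat.Coprime (q ^ 3) (Nat.gcd n (q - 1)) :=
      Nat.Coprime.pow_left 3 (Nat.Coprime.coprime_dvd_right (Nat.gcd_dvd_right _ _) hcop)
    have hc2 : Nat.Coprime (q ^ 3) (q - 1) := Nat.Coprime.pow_left 3 hcop
    have h5 : q ^ 3 ∣ 360 := hc2.dvd_of_dvd_mul_left (hc1.dvd_of_dvd_mul_left h4)
    have h6 : Nat.Coprime (q ^ 3) 8 := by
      have h7 : Nat.Coprime q 2 := Nat.coprime_two_right.2 hodd
      exact Nat.Coprime.pow 3 3 h7
    have h7 : q ^ 3 ∣ 45 := by
      refine h6.dvd_of_dvd_mul_left ?_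
      norm_num
      exact h5
    have h8 : q ^ 3 ≤ 45 := Nat.le_of_dvd (by norm_num) h7
    have h9 : q < 4 := by
      by_contra hcon
      have : 4 ^ 3 ≤ q ^ 3 := Nat.pow_le_pow_left (by omega) 3
      omega
    obtain ⟨k, hk⟩ := hodd
    have h10 : q = 3 := by omega
    rw [h10] at h7
    norm_num at h7
  · obtain rfl : n = 2 := by omega
    refine ⟨rfl, ?_⟩
    rw [Fin.prod_univ_two] at hmain
    obtain ⟨k, hk⟩ := hodd
    have hg : Nat.gcd 2 (q - 1) = 2 := by
      rw [hk]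
      simp
    rw [hg, hk] at hmain
    have h4 : 2 * k + 1 - 1 = 2 * k := by omega
    have h5 : (2 * k + 1) ^ 2 - (2 * k + 1) ^ ((0 : Fin 2) : ℕ) = 2 * k * (2 * k + 2) := by
      simp only [_root_.Fin.isValue, _root_.Fin.coe_ofNat_eq_mod, _root_.Nat.zero_mod, _root_.pow_zero]
      have : (2 * k + 1) ^ 2 = 2 * k * (2 * k + 2) + 1 := by ring
      omega
    have h6 : (2 * k + 1) ^ 2 - (2 * k + 1) ^ ((1 : Fin 2) : ℕ) = (2 * k + 1) * (2 * k) := by
      simp only [_root_.Fin.isValue, _root_.Fin.coe_ofNat_eq_mod, _root_.Nat.mod_succ, _root_.pow_one]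
      have : (2 * k + 1) ^ 2 = (2 * k + 1) * (2 * k) + (2 * k + 1) := by ring
      omega
    rw [h4, h5, h6] at hmain
    have hk0 : 0 < k := by omega
    have h7 : 720 = (2 * k + 2) * ((2 * k + 1) * (2 * k)) := by
      have h8 : (2 * k) * 720 = (2 * k) * ((2 * k + 2) * ((2 * k + 1) * (2 * k))) := by
        calc (2 * k) * 720 = 2 * (2 * k * 360) := by ring
          _ = _ := by rw [hmain]; ring
      exact Nat.eq_of_mul_eq_mul_left (by omega) h8
    have h8 : k < 5 := by
      by_contra hcon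
      push Not at hcon
      have : (2 * 5 + 2) * ((2 * 5 + 1) * (2 * 5)) ≤ (2 * k + 2) * ((2 * k + 1) * (2 * k)) := by gcongr
      omega
    rw [hk]
    interval_cases k <;> omega

end Cfsg.Agent.H375.C3
end

-- part: H375/C3/Kill
section
/-!
# S1920, PSL: the contradiction (helper375)
-/

set_option autoImplicit false

open Subgroup Module
open scoped commutatorElement

namespace Cfsg.Agent.H375.C3

open Cfsg.Agent.H415.C3

universe u v w

section J

variable {K : Type u} [Field K] {V : Type v} [AddCommGroup V] [Module K V] {n : ℕ} {D : Type w} [Field D] [Algebra K D]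

/-- `U ↦ 1 + j (U - 1)` -/
def lam (j : Matrix (Fin n) (Fin n) D →ₙₐ[K] Module.End K V) : Matrix (Fin n) (Fin n) D →* Module.End K V where
  toFun U := 1 + j (U - 1)
  map_one' := by rw [sub_self, map_zero, add_zero]
  map_mul' U W := by
    have h1 : U * W - 1 = (U - 1) + (W - 1) + (U - 1) * (W - 1) := by noncomm_ring
    rw [h1, map_add, map_add, map_mul]
    noncomm_ring

theorem lam_apply (j : Matrix (Fin n) (Fin n) D →ₙₐ[K] Module.End K V) (U : Matrix (Fin n) (Fin n) D) :
    lam j U = 1 + j (U - 1) := rfl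

/-- the corresponding element of `GL(V)` -/
noncomputable def Lam (j : Matrix (Fin n) (Fin n) D →ₙₐ[K] Module.End K V) : (Matrix (Fin n) (Fin n) D)ˣ →* (V ≃ₗ[K] V) :=
  (LinearMap.GeneralLinearGroup.generalLinearEquiv K V).toMonoidHom.comp (Units.map (lam j))

theorem coe_Lam (j : Matrix (Fin n) (Fin n) D →ₙₐ[K] Module.End K V) (U : (Matrix (Fin n) (Fin n) D)ˣ) :
    ((Lam j U : V ≃ₗ[K] V) : V →ₗ[K] V) = lam j (U : Matrix (Fin n) (Fin n) D) := LinearMap.ext fun _ => rfl

variable {N E : Subgroup (V ≃ₗ[K] V)} {j : Matrix (Fin n) (Fin n) D →ₙₐ[K] Module.End K V}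

theorem Comp.Lam_comm (C : Comp N E n D j) (U : (Matrix (Fin n) (Fin n) D)ˣ) {g : V ≃ₗ[K] V} (hg : g ∈ N) :
    Lam j U * g = g * Lam j U := by
  refine LinearEquiv.toLinearMap_injective ?_
  have h1 := C.comm ((U : Matrix (Fin n) (Fin n) D) - 1) g hg
  have h2 : lam j (U : Matrix (Fin n) (Fin n) D) * (g : V →ₗ[K] V) = (g : V →ₗ[K] V) * lam j (U : Matrix (Fin n) (Fin n) D) := by
    rw [lam_apply, add_mul, mul_add, one_mul, mul_one, h1]
  rw [← coe_Lam] at h2
  exact h2

theorem Comp.eq_one (C : Comp N E n D j) {U : (Matrix (Fin n) (Fin n) D)ˣ} (h : IsSc (Lam j U)) : U = 1 := by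
  obtain ⟨c, hc⟩ := (isSc_iff _).1 h
  rw [coe_Lam, lam_apply] at hc
  have h1 : j ((U : Matrix (Fin n) (Fin n) D) - 1) * (1 - j 1) = 0 := by
    rw [mul_sub, mul_one, ← map_mul, mul_one, sub_self]
  have h2 : (c - 1) • (1 - j 1) = 0 := by
    have h3 := congrArg (fun t => t * (1 - j 1)) hc
    simp only [add_mul, one_mul, h1, add_zero, smul_mul_assoc] at h3
    rw [sub_smul, one_smul, ← h3, sub_self]
  have h3 : c = 1 := by
    rcases smul_eq_zero.1 h2 with h4 | h4
    · exact sub_eq_zero.1 h4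
    · exact absurd (sub_eq_zero.1 h4).symm C.ne
  rw [h3, one_smul] at hc
  have h4 : j ((U : Matrix (Fin n) (Fin n) D) - 1) = j 0 := by
    rw [map_zero]
    exact add_eq_left.1 hc
  exact Units.ext (sub_eq_zero.1 (C.inj h4))

theorem Comp.mem_E (C : Comp N E n D j) {e : V ≃ₗ[K] V} (he : e ∈ E) :
    ∃ U : Matrix.SpecialLinearGroup (Fin n) D, Lam j (Matrix.SpecialLinearGroup.toGL U) = e := by
  obtain ⟨U, hU⟩ := C.E e he
  refine ⟨U, LinearEquiv.toLinearMap_injective ?_⟩
  rw [coe_Lam, hU]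
  rfl

end J

variable {G : Type*} [Group G] {K : Type u} [Field K] {V : Type v} [AddCommGroup V] [Module K V]
variable {Gh : Subgroup (V ≃ₗ[K] V)} {π : ↥Gh →* G} {N0 A E : Subgroup G} {z s x r : G}
  {ψ : ↥A →* Equiv.Perm (Fin 6)} {Nh Eh : Subgroup (V ≃ₗ[K] V)} {zh sh xh rh : V ≃ₗ[K] V}

/-- `n = 2`, `|D| = 9` -/
theorem two_nine [Finite K] (h2 : (2 : K) ≠ 0) (Kt : Kit N0 A E z s x r ψ) (hL : Lin Gh π)
    (L : LKit Gh π N0 A E z s x r Nh Eh zh sh xh rh)
    (hGh : ∀ g : V ≃ₗ[K] V, LinearMap.det (g : V →ₗ[K] V) = 1 → g ∈ Gh)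
    {n : ℕ} {D : Type v} [Field D] [Finite D] [Algebra K D] {j : Matrix (Fin n) (Fin n) D →ₙₐ[K] Module.End K V}
    (C : Comp Nh Eh n D j) :
    n = 2 ∧ Nat.card D = 9 ∧ ∀ U : Matrix.SpecialLinearGroup (Fin n) D, Lam j (Matrix.SpecialLinearGroup.toGL U) ∈ Gh := by
  classical
  have hft := Fintype.ofFinite D
  have hodd : Odd (Nat.card D) := by
    rw [Nat.card_eq_fintype_card]
    have h3 : ringChar D ≠ 2 := by
      intro h
      have h4 : ((2 : ℕ) : D) = 0 := by rw [← h]; exact ringChar.Nat.cast_ringChar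
      have h5 : algebraMap K D 2 = 0 := by rw [map_ofNat]; exact_mod_cast h4
      exact h2 ((map_eq_zero _).1 h5)
    exact (FiniteField.odd_card_of_char_ne_two h3 |> fun h => by
      rw [Nat.odd_iff]; exact h)
  let Λ : Matrix.SpecialLinearGroup (Fin n) D →* (V ≃ₗ[K] V) := (Lam j).comp Matrix.SpecialLinearGroup.toGL
  have hΛA : ∀ U, ∀ h : Λ U ∈ Gh, π ⟨Λ U, h⟩ ∈ A := fun U h =>
    Kt.comm_mem (comm_pi hL L h fun g hg => C.Lam_comm _ hg)
  -- the order
  have hex : ∀ τ : alternatingGroup (Fin 6), ∃ U : Matrix.SpecialLinearGroup (Fin n) D, ∃ h : Λ U ∈ Gh,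
      ψ ⟨π ⟨Λ U, h⟩, hΛA U h⟩ = τ := by
    intro τ
    obtain ⟨e, he, hτ⟩ := Kt.E_img τ (Equiv.Perm.mem_alternatingGroup.1 τ.2)
    obtain ⟨g, hg, hge⟩ := L.Eh_surj e he
    obtain ⟨U, hU⟩ := C.mem_E hg
    have hU' : Λ U = g := hU
    subst hU'
    refine ⟨U, L.Eh_le hg, ?_⟩
    have h3 := hge (L.Eh_le hg)
    subst h3
    exact hτ _
  choose u hu huτ using hex
  have hui : Function.Injective u := by
    intro τ τ' h
    refine Subtype.ext ?_
    rw [← huτ τ, ← huτ τ']
    congr 3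
    exact Subtype.ext (congrArg Λ h)
  have hcard : 360 ≤ Nat.card (Matrix.SpecialLinearGroup (Fin n) D) := by
    have h3 := Nat.card_le_card_of_injective u hui
    have hA : Nat.card (alternatingGroup (Fin 6)) = 360 := by
      rw [nat_card_alternatingGroup]
      simp [Nat.factorial]
    rwa [hA] at h3
  have hperf := perf_SL hodd n hcard
  have hmem : ∀ U, Λ U ∈ Gh := by
    intro U
    apply hGh
    let f : Matrix.SpecialLinearGroup (Fin n) D →* K :=
      (LinearMap.det : Module.End K V →* K).comp ((lam j).comp (Units.coeHom _ |>.comp Matrix.SpecialLinearGroup.toGL))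
    have h3 : f.toHomUnits U = 1 := by
      have h4 : _root_.commutator (Matrix.SpecialLinearGroup (Fin n) D) ≤ f.toHomUnits.ker :=
        Abelianization.commutator_subset_ker f.toHomUnits
      rw [hperf] at h4
      exact h4 (mem_top U)
    have h5 := congrArg Units.val h3
    have h6 : ((Λ U : V ≃ₗ[K] V) : V →ₗ[K] V) = lam j (U : Matrix (Fin n) (Fin n) D) := coe_Lam _ _
    rw [h6]
    exact h5
  have hs : ∀ U, Equiv.Perm.sign (ψ ⟨π ⟨Λ U, hmem U⟩, hΛA U (hmem U)⟩) = 1 := fun U =>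
    Kt.even_of_comm (comm_pi hL L (hmem U) fun g hg => C.Lam_comm _ hg) _
  let f1 : Matrix.SpecialLinearGroup (Fin n) D →* ↥Gh := Λ.codRestrict Gh hmem
  let f2 : Matrix.SpecialLinearGroup (Fin n) D →* ↥A := (π.comp f1).codRestrict A fun U => hΛA U (hmem U)
  let f : Matrix.SpecialLinearGroup (Fin n) D →* alternatingGroup (Fin 6) :=
    (ψ.comp f2).codRestrict (alternatingGroup (Fin 6)) fun U => Equiv.Perm.mem_alternatingGroup.2 (hs U)
  have hf : Function.Surjective f := fun τ => ⟨u τ, Subtype.ext (huτ τ)⟩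
  obtain ⟨hn, hD9⟩ := nine hodd n f hf
  exact ⟨hn, hD9, hmem⟩

/-- the case `|K| = 3` : an element of order 8 -/
theorem case_three [Finite G] [Finite K] [FiniteDimensional K V] (Kt : Kit N0 A E z s x r ψ) (hL : Lin Gh π)
    (L : LKit Gh π N0 A E z s x r Nh Eh zh sh xh rh)
    (hGh : ∀ g : V ≃ₗ[K] V, LinearMap.det (g : V →ₗ[K] V) = 1 → g ∈ Gh)
    {D : Type v} [Field D] [Finite D] [Algebra K D] {j : Matrix (Fin 2) (Fin 2) D →ₙₐ[K] Module.End K V}
    (C : Comp Nh Eh 2 D j) (hD : Nat.card D = 9) (hK : Nat.card K = 3) : False := by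
  classical
  obtain ⟨ω, hω⟩ : ∃ ω : Dˣ, orderOf ω = 8 := by
    obtain ⟨ω, hω⟩ := IsCyclic.exists_generator (α := Dˣ)
    refine ⟨ω, ?_⟩
    rw [orderOf_eq_card_of_forall_mem_zpowers hω, Nat.card_units, hD]
  let u : (Matrix (Fin 2) (Fin 2) D)ˣ := Units.map (Matrix.scalar (Fin 2) : D →+* Matrix (Fin 2) (Fin 2) D).toMonoidHom ω
  have hu : (u : Matrix (Fin 2) (Fin 2) D) = Matrix.scalar (Fin 2) (ω : D) := rfl
  -- the determinant
  have hdet : LinearMap.det (lam j (Matrix.scalar (Fin 2) (ω : D))) = 1 := by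
    have h1 : Matrix.scalar (Fin 2) (ω : D) = !![0, 1; -1, 0] * !![(ω : D), 0; 0, 1] * !![0, -1; 1, 0] * !![(ω : D), 0; 0, 1] := by
      ext a b
      (revert a b; simp only [Matrix.mul_apply, Fin.sum_univ_two, _root_.Fin.forall_fin_succ, _root_.Matrix.scalar_apply, _root_.Matrix.cons_mul, _root_.Nat.succ_eq_add_one, Nat.reduceAdd, _root_.Matrix.vecMul_cons, _root_.Matrix.head_cons, _root_.zero_smul, _root_.Matrix.tail_cons, _root_.one_smul, _root_.Matrix.empty_vecMul, _root_.add_zero, _root_.zero_add, _root_.neg_smul, _root_.Matrix.neg_cons, _root_.neg_zero, _root_.Matrix.neg_empty, _root_.Matrix.empty_mul, _root_.Equiv.symm_apply_apply, _root_.Matrix.smul_cons, _root_.smul_eq_mul, _root_.MulZeroClass.mul_zero, _root_.mul_neg, _root_.mul_one, _root_.Matrix.smul_empty, _root_.neg_neg, _root_.Matrix.of_apply, _root_.Matrix.cons_val', _root_.Matrix.cons_val_fin_one, Fin.isValue, _root_.Matrix.cons_val_zero, _root_.Matrix.cons_val_one, _root_.Matrix.cons_val_succ,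 _root_.Fin.succ_zero_eq_one, _root_.IsEmpty.forall_iff, _root_.and_true, _root_.Matrix.diagonal_apply_eq, _root_.one_mul, _root_.ne_eq, _root_.zero_ne_one, _root_.not_false_eq_true, _root_.Matrix.diagonal_apply_ne, _root_.and_self, _root_.Fin.succ_ne_zero, _root_.MulZeroClass.zero_mul, _root_.true_and])
    have h2 : LinearMap.det (lam j !![0, 1; -1, 0]) * LinearMap.det (lam j !![0, -1; 1, 0]) = 1 := by
      rw [← map_mul, ← map_mul]
      have : (!![0, 1; -1, 0] : Matrix (Fin 2) (Fin 2) D) * !![0, -1; 1, 0] = 1 := by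
        ext a b
        (revert a b; simp only [Matrix.mul_apply, Fin.sum_univ_two, _root_.Fin.forall_fin_succ, _root_.Matrix.of_apply, _root_.Matrix.cons_val', _root_.Matrix.cons_val_fin_one, Fin.isValue, _root_.Matrix.cons_val_zero, _root_.Matrix.cons_val_one, _root_.MulZeroClass.mul_zero, _root_.mul_one, _root_.zero_add, _root_.Matrix.cons_val_succ, _root_.mul_neg, _root_.add_zero, _root_.IsEmpty.forall_iff, _root_.and_true, _root_.Matrix.one_apply_eq, _root_.neg_zero, Nat.reduceAdd, _root_.Fin.succ_zero_eq_one, _root_.ne_eq, _root_.zero_ne_one, _root_.not_false_eq_true, _root_.Matrix.one_apply_ne, _root_.and_self, _root_.Fin.succ_ne_zero, _root_.neg_neg, _root_.true_and])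
      rw [this, map_one, map_one]
    have h3 : LinearMap.det (lam j !![(ω : D), 0; 0, 1]) * LinearMap.det (lam j !![(ω : D), 0; 0, 1]) = 1 := by
      have h4 : LinearMap.det (lam j !![(ω : D), 0; 0, 1]) ≠ 0 := by
        have h5 : LinearMap.det (lam j !![(ω : D), 0; 0, 1]) * LinearMap.det (lam j !![((ω⁻¹ : Dˣ) : D), 0; 0, 1]) = 1 := by
          rw [← map_mul, ← map_mul]
          have : (!![(ω : D), 0; 0, 1] : Matrix (Fin 2) (Fin 2) D) * !![((ω⁻¹ : Dˣ) : D), 0; 0, 1] = 1 := by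
            ext a b
            (revert a b; simp only [Matrix.mul_apply, Fin.sum_univ_two, _root_.Fin.forall_fin_succ, _root_.Units.val_inv_eq_inv_val, _root_.Matrix.of_apply, _root_.Matrix.cons_val', _root_.Matrix.cons_val_fin_one, Fin.isValue, _root_.Matrix.cons_val_zero, _root_.Matrix.cons_val_one, _root_.MulZeroClass.mul_zero, _root_.add_zero, _root_.Matrix.cons_val_succ, _root_.mul_one, _root_.zero_add, _root_.IsEmpty.forall_iff, _root_.and_true, _root_.ne_eq, _root_.Units.ne_zero, _root_.not_false_eq_true, _root_.mul_inv_cancel₀, _root_.Matrix.one_apply_eq, Nat.reduceAdd, _root_.Fin.succ_zero_eq_one, _root_.zero_ne_one, _root_.Matrix.one_apply_ne, _root_.and_self, _root_.MulZeroClass.zero_mul, _root_.Fin.succ_ne_zero, _root_.true_and])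
          rw [this, map_one, map_one]
        intro h0
        rw [h0, zero_mul] at h5
        exact zero_ne_one h5
      have hft := Fintype.ofFinite K
      have h5 := FiniteField.pow_card_sub_one_eq_one _ h4
      rw [← Nat.card_eq_fintype_card, hK] at h5
      rw [← pow_two]
      exact h5
    rw [h1, map_mul, map_mul, map_mul, map_mul, map_mul, map_mul]
    calc _ = (LinearMap.det (lam j !![0, 1; -1, 0]) * LinearMap.det (lam j !![0, -1; 1, 0])) *
        (LinearMap.det (lam j !![(ω : D), 0; 0, 1]) * LinearMap.det (lam j !![(ω : D), 0; 0, 1])) := by ring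
      _ = 1 := by rw [h2, h3, one_mul]
  have hmem : Lam j u ∈ Gh := by
    apply hGh
    rw [coe_Lam, hu]
    exact hdet
  have hcN := comm_pi hL L hmem fun g hg => C.Lam_comm _ hg
  have hcE : ∀ e ∈ E, π ⟨Lam j u, hmem⟩ * e = e * π ⟨Lam j u, hmem⟩ := by
    intro e he
    obtain ⟨g, hg, hge⟩ := L.Eh_surj e he
    obtain ⟨U, hU⟩ := C.mem_E hg
    rw [← hge (L.Eh_le hg), ← map_mul, ← map_mul]
    refine congrArg π (Subtype.ext ?_)
    change Lam j u * g = g * Lam j u
    rw [← hU, ← map_mul, ← map_mul]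
    congr 1
    refine Units.ext ?_
    change (u : Matrix (Fin 2) (Fin 2) D) * (U : Matrix (Fin 2) (Fin 2) D) = (U : Matrix (Fin 2) (Fin 2) D) * (u : Matrix (Fin 2) (Fin 2) D)
    rw [hu]
    exact (Matrix.scalar_commute (ω : D) (fun _ => mul_comm _ _) _).eq
  have hpow : (π ⟨Lam j u, hmem⟩) ^ 2 ^ 3 = 1 := by
    have h1 : u ^ 8 = 1 := by
      rw [← map_pow, ← hω, pow_orderOf_eq_one, map_one]
    have h2 : (⟨Lam j u, hmem⟩ : ↥Gh) ^ 2 ^ 3 = 1 := Subtype.ext (by
      change (Lam j u) ^ 8 = 1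
      rw [← map_pow, h1, map_one])
    rw [← map_pow, h2, map_one]
  have h4 := Kt.T4E hcN hpow hcE
  have h5 : (π ⟨Lam j u, hmem⟩) ^ 4 = 1 := by
    obtain ⟨i, hi⟩ := mem_zpowers_iff.1 h4
    rw [← hi, ← zpow_natCast, ← zpow_mul, mul_comm, zpow_mul]
    have h6 := Kt.s_four
    rw [zpow_natCast, h6, one_zpow]
  rw [← map_pow] at h5
  have h6 := (hL.ker _).1 h5
  have h7 : IsSc (Lam j (u ^ 4)) := by
    rw [map_pow]
    exact h6
  have h8 : u ^ 4 = 1 := C.eq_one h7
  have h9 : ω ^ 4 = 1 := by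
    have h10 := congrArg (fun t : (Matrix (Fin 2) (Fin 2) D)ˣ => (t : Matrix (Fin 2) (Fin 2) D) 0 0) h8
    refine Units.ext ?_
    have h11 : (u ^ 4 : (Matrix (Fin 2) (Fin 2) D)ˣ) = Units.map (Matrix.scalar (Fin 2) : D →+* Matrix (Fin 2) (Fin 2) D).toMonoidHom (ω ^ 4) := by
      rw [map_pow]
    rw [h11] at h10
    have h12 : (Matrix.scalar (Fin 2) ((ω ^ 4 : Dˣ) : D)) 0 0 = (1 : Matrix (Fin 2) (Fin 2) D) 0 0 := h10
    rw [Matrix.scalar_apply, Matrix.diagonal_apply_eq, Matrix.one_apply_eq] at h12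
    exact h12
  have h10 := orderOf_dvd_of_pow_eq_one h9
  rw [hω] at h10
  norm_num at h10

section Tr

variable {D : Type v} [Field D]

open Cfsg.Agent.H402.PSL2Cls (tr)

theorem ch (X : Matrix.SpecialLinearGroup (Fin 2) D) :
    (X : Matrix (Fin 2) (Fin 2) D) * X = tr X • (X : Matrix (Fin 2) (Fin 2) D) - 1 := by
  have ht : (X : Matrix (Fin 2) (Fin 2) D).trace = tr X := Matrix.trace_fin_two _
  rw [← ht]
  exact Cfsg.Agent.ClassicalGeometry.PSL2Basic.sl2_mul_self X

theorem pow_six (h3 : (3 : D) = 0) (X : Matrix.SpecialLinearGroup (Fin 2) D) (h : tr X ^ 2 = 4) : X ^ 6 = 1 := by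
  have h4 : (tr X + 1) * (tr X - 1) = 0 := by linear_combination h + h3
  have ht : (X : Matrix (Fin 2) (Fin 2) D).trace = tr X := Matrix.trace_fin_two _
  rcases mul_eq_zero.1 h4 with h5 | h5
  · have h6 : X ^ 3 = 1 := Cfsg.Agent.ClassicalGeometry.PSL2Basic.sl2_cube_of_trace_neg_one
      (by rw [ht]; exact eq_neg_of_add_eq_zero_left h5)
    rw [show 6 = 3 * 2 by norm_num, pow_mul, h6, one_pow]
  · have h6 : X ^ 3 = -1 := Cfsg.Agent.ClassicalGeometry.PSL2Basic.sl2_cube_of_trace_one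
      (by rw [ht]; exact sub_eq_zero.1 h5)
    rw [show 6 = 3 * 2 by norm_num, pow_mul, h6]
    exact neg_one_sq

end Tr

/-- the case `|K| = 9` -/
theorem case_nine [Finite G] [Finite K] (Kt : Kit N0 A E z s x r ψ) (hL : Lin Gh π)
    (L : LKit Gh π N0 A E z s x r Nh Eh zh sh xh rh)
    {D : Type v} [Field D] [Finite D] [Algebra K D] {j : Matrix (Fin 2) (Fin 2) D →ₙₐ[K] Module.End K V}
    (C : Comp Nh Eh 2 D j) (hmem : ∀ U : Matrix.SpecialLinearGroup (Fin 2) D, Lam j (Matrix.SpecialLinearGroup.toGL U) ∈ Gh)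
    (hD : Nat.card D = 9) (hK : Nat.card K = 9) : False := by
  classical
  have hft := Fintype.ofFinite D
  have hfk := Fintype.ofFinite K
  have h3 : (3 : D) = 0 := by
    have h1 : ((9 : ℕ) : D) = 0 := by
      rw [← hD, Nat.card_eq_fintype_card]
      exact FiniteField.cast_card_eq_zero D
    have h2 : (3 : D) * 3 = 0 := by
      rw [← h1]
      norm_num
    exact mul_self_eq_zero.1 h2
  have hbij : Function.Bijective (algebraMap K D) := by
    rw [Fintype.bijective_iff_injective_and_card]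
    refine ⟨(algebraMap K D).injective, ?_⟩
    rw [← Nat.card_eq_fintype_card, ← Nat.card_eq_fintype_card, hD, hK]
  let Λ : Matrix.SpecialLinearGroup (Fin 2) D →* (V ≃ₗ[K] V) := (Lam j).comp Matrix.SpecialLinearGroup.toGL
  have hΛ : ∀ U, ((Λ U : V ≃ₗ[K] V) : V →ₗ[K] V) = 1 + j ((U : Matrix (Fin 2) (Fin 2) D) - 1) := fun U => coe_Lam _ _
  have hΛinj : ∀ U, Λ U = 1 → U = 1 := by
    intro U h
    have h4 : IsSc (Lam j (Matrix.SpecialLinearGroup.toGL U)) := ⟨1, fun v => by
      have h5 : Lam j (Matrix.SpecialLinearGroup.toGL U) = 1 := h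
      rw [h5, one_smul]
      rfl⟩
    have h5 := C.eq_one h4
    exact Subtype.ext (congrArg Units.val h5)
  obtain ⟨X, hX⟩ := C.mem_E L.xE
  have hyE : rh * xh * rh⁻¹ ∈ Eh := (mem_normalizer_iff.1 L.rE xh).1 L.xE
  obtain ⟨Y, hY⟩ := C.mem_E hyE
  have hX' : Λ X = xh := hX
  have hY' : Λ Y = rh * xh * rh⁻¹ := hY
  obtain ⟨k, hk⟩ := L.x_five
  have hXk : X ^ 5 ^ k = 1 := hΛinj _ (by rw [map_pow, hX', hk])
  have hYk : Y ^ 5 ^ k = 1 := hΛinj _ (by
    rw [map_pow, hY', conj_pow, hk, mul_one, mul_inv_cancel])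
  have hx1 : xh ≠ 1 := by
    rintro rfl
    have h4 := L.pi_x (L.Eh_le L.xE)
    have h5 : (⟨1, L.Eh_le L.xE⟩ : ↥Gh) = 1 := rfl
    rw [h5, map_one] at h4
    have h6 := Kt.psi_x (Kt.E_A Kt.xE)
    have h7 : (⟨x, Kt.E_A Kt.xE⟩ : ↥A) = 1 := Subtype.ext h4.symm
    rw [h7, map_one] at h6
    exact c5_ne h6.symm
  have hX1 : X ≠ 1 := by
    rintro rfl
    exact hx1 (by rw [← hX', map_one])
  have hY1 : Y ≠ 1 := by
    rintro rfl
    rw [map_one] at hY'
    apply hx1
    have h4 : rh * xh = rh := by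
      have := congrArg (fun t => t * rh) hY'
      simpa only [_root_.mul_eq_left, _root_.inv_mul_cancel_right, _root_.one_mul] using this.symm
    exact mul_eq_left.1 h4
  have hcop : Nat.Coprime 6 (5 ^ k) := Nat.Coprime.pow_right k (by norm_num)
  have h6 : ∀ U : Matrix.SpecialLinearGroup (Fin 2) D, U ≠ 1 → U ^ 5 ^ k = 1 → Cfsg.Agent.H402.PSL2Cls.tr U ^ 2 ≠ 4 := by
    intro U hU hUk h4
    exact hU ((pow_eq_one_iff_of_coprime hcop).1 ⟨pow_six h3 U h4, hUk⟩)
  set t := Cfsg.Agent.H402.PSL2Cls.tr X with ht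
  obtain ⟨t0, ht0⟩ := hbij.2 t
  have hsm : ∀ M : Matrix (Fin 2) (Fin 2) D, t0 • M = t • M := by
    intro M
    rw [← ht0]
    exact (algebraMap_smul D t0 M).symm
  -- the polynomial relation
  have hrel : ∀ U : Matrix.SpecialLinearGroup (Fin 2) D,
      (((Λ U : V ≃ₗ[K] V) : V →ₗ[K] V) - 1 : Module.End K V) *
        ((((Λ U : V ≃ₗ[K] V) : V →ₗ[K] V) : Module.End K V) * ((Λ U : V ≃ₗ[K] V) : V →ₗ[K] V) -
          t0 • (((Λ U : V ≃ₗ[K] V) : V →ₗ[K] V) : Module.End K V) + 1) =
      j (((U : Matrix (Fin 2) (Fin 2) D) - 1) * ((U : Matrix (Fin 2) (Fin 2) D) * U - t • (U : Matrix (Fin 2) (Fin 2) D) + 1)) := by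
    intro U
    set M := (U : Matrix (Fin 2) (Fin 2) D) with hM
    have h7 : (((Λ U : V ≃ₗ[K] V) : V →ₗ[K] V) : Module.End K V) = 1 + j (M - 1) := hΛ U
    rw [h7]
    have h8 : (M - 1) * (M * M - t • M + 1) = (M - 1) + (M - 1) + ((M - 1) * (M - 1) + (M - 1) * (M - 1))
        + (M - 1) * ((M - 1) * (M - 1)) - t0 • (M - 1) - t0 • ((M - 1) * (M - 1)) := by
      rw [hsm, hsm]
      simp only [mul_sub, sub_mul, mul_add, add_mul, mul_one, one_mul, Matrix.mul_smul, smul_sub, Matrix.smul_mul]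
      abel
    rw [h8]
    simp only [map_add, map_sub, map_mul, map_smul]
    simp only [mul_sub, sub_mul, mul_add, add_mul, mul_one, one_mul, smul_add, mul_smul_comm]
    abel
  have hPX : (X : Matrix (Fin 2) (Fin 2) D) * X - t • (X : Matrix (Fin 2) (Fin 2) D) + 1 = 0 := by
    rw [ch X, ← ht]
    abel
  have hzX := hrel X
  rw [hPX, mul_zero, map_zero, hX'] at hzX
  have hzY : (((Λ Y : V ≃ₗ[K] V) : V →ₗ[K] V) - 1 : Module.End K V) *
        ((((Λ Y : V ≃ₗ[K] V) : V →ₗ[K] V) : Module.End K V) * ((Λ Y : V ≃ₗ[K] V) : V →ₗ[K] V) -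
          t0 • (((Λ Y : V ≃ₗ[K] V) : V →ₗ[K] V) : Module.End K V) + 1) = 0 := by
    rw [hY']
    have h7 : (((rh * xh * rh⁻¹ : V ≃ₗ[K] V) : V →ₗ[K] V) : Module.End K V) =
        (((rh : V ≃ₗ[K] V) : V →ₗ[K] V) : Module.End K V) * ((xh : V ≃ₗ[K] V) : V →ₗ[K] V) *
          ((rh⁻¹ : V ≃ₗ[K] V) : V →ₗ[K] V) := rfl
    have h8 : (((rh : V ≃ₗ[K] V) : V →ₗ[K] V) : Module.End K V) * ((rh⁻¹ : V ≃ₗ[K] V) : V →ₗ[K] V) = 1 :=
      LinearMap.ext fun v => rh.apply_symm_apply v
    have h9 : (((rh⁻¹ : V ≃ₗ[K] V) : V →ₗ[K] V) : Module.End K V) * ((rh : V ≃ₗ[K] V) : V →ₗ[K] V) = 1 :=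
      LinearMap.ext fun v => rh.symm_apply_apply v
    rw [h7]
    set R : Module.End K V := ((rh : V ≃ₗ[K] V) : V →ₗ[K] V) with hR
    set R' : Module.End K V := ((rh⁻¹ : V ≃ₗ[K] V) : V →ₗ[K] V) with hR'
    set Z : Module.End K V := ((xh : V ≃ₗ[K] V) : V →ₗ[K] V) with hZ
    have h10 : (R * Z * R' - 1) * (R * Z * R' * (R * Z * R') - t0 • (R * Z * R') + 1) =
        R * ((Z - 1) * (Z * Z - t0 • Z + 1)) * R' := by
      have e1 : R * Z * R' - 1 = R * (Z - 1) * R' := by
        rw [mul_sub, sub_mul, mul_one, h8]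
      have e2 : R * Z * R' * (R * Z * R') = R * (Z * Z) * R' := by
        calc R * Z * R' * (R * Z * R') = R * Z * (R' * R) * Z * R' := by simp only [mul_assoc]
          _ = _ := by rw [h9, mul_one]; simp only [mul_assoc]
      have e3 : R * Z * R' * (R * Z * R') - t0 • (R * Z * R') + 1 = R * (Z * Z - t0 • Z + 1) * R' := by
        rw [e2, mul_add, mul_sub, add_mul, sub_mul, mul_one, h8, mul_smul_comm, smul_mul_assoc]
      rw [e1, e3]
      calc R * (Z - 1) * R' * (R * (Z * Z - t0 • Z + 1) * R') = R * (Z - 1) * (R' * R) * (Z * Z - t0 • Z + 1) * R' := by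
            simp only [mul_assoc]
        _ = _ := by rw [h9, mul_one]; simp only [mul_assoc]
    rw [h10, hzX, mul_zero, zero_mul]
  rw [hrel Y] at hzY
  have hz2 := C.inj (hzY.trans (map_zero j).symm)
  -- `Y - 1` is invertible
  have hdet : IsUnit ((Y : Matrix (Fin 2) (Fin 2) D) - 1) := by
    rw [Matrix.isUnit_iff_isUnit_det, isUnit_iff_ne_zero]
    intro h0
    have h7 : Cfsg.Agent.H402.PSL2Cls.tr Y = 2 := by
      have hd := Cfsg.Agent.H402.PSL2Cls.det_eq Y
      rw [Matrix.det_fin_two] at h0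
      simp only [Matrix.sub_apply, Matrix.one_apply, if_true, one_ne_zero, zero_ne_one, if_false, sub_zero] at h0
      unfold Cfsg.Agent.H402.PSL2Cls.tr
      linear_combination hd - h0
    exact h6 Y hY1 hYk (by rw [h7]; norm_num)
  have hPY : (Y : Matrix (Fin 2) (Fin 2) D) * Y - t • (Y : Matrix (Fin 2) (Fin 2) D) + 1 = 0 :=
    (hdet.mul_right_eq_zero).1 hz2
  have htt : Cfsg.Agent.H402.PSL2Cls.tr Y = t := by
    rw [ch Y] at hPY
    have h7 : (Cfsg.Agent.H402.PSL2Cls.tr Y - t) • (Y : Matrix (Fin 2) (Fin 2) D) = 0 := by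
      rw [sub_smul, ← hPY]
      abel
    rcases smul_eq_zero.1 h7 with h8 | h8
    · exact sub_eq_zero.1 h8
    · exfalso
      have h9 := Y.2
      rw [h8, Matrix.det_zero] at h9
      exact zero_ne_one h9
  obtain ⟨g, hg⟩ := Cfsg.Agent.H402.PSL2Cls.exists_conj_of_tr_eq (M := X) (N := Y) (by rw [htt, ht]) (h6 X hX1 hXk)
  have hgm : Λ g ∈ Gh := hmem g
  have hcN := comm_pi hL L hgm fun n hn => C.Lam_comm _ hn
  refine Kt.T7 (g := π ⟨Λ g, hgm⟩) (Kt.comm_mem hcN) (hcN s Kt.sN) ?_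
  have h7 : π ⟨xh, L.Eh_le L.xE⟩ = x := L.pi_x _
  have h8 : π ⟨rh, L.rG⟩ = r := L.pi_r _
  have h9 : π ⟨Λ g, hgm⟩ * π ⟨xh, L.Eh_le L.xE⟩ * (π ⟨Λ g, hgm⟩)⁻¹ =
      π ⟨rh, L.rG⟩ * π ⟨xh, L.Eh_le L.xE⟩ * (π ⟨rh, L.rG⟩)⁻¹ := by
    rw [← map_mul, ← map_inv, ← map_mul, ← map_mul, ← map_inv, ← map_mul]
    refine congrArg π (Subtype.ext ?_)
    change Λ g * xh * (Λ g)⁻¹ = rh * xh * rh⁻¹
    rw [← hY', ← hX', hg, map_mul, map_mul, map_inv]
  rwa [h7, h8] at h9

/-- **The contradiction for `SL(V)`.** -/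
theorem psl_false [Finite G] [Finite K] [FiniteDimensional K V] (h2 : (2 : K) ≠ 0) (Kt : Kit N0 A E z s x r ψ)
    (hL : Lin Gh π) (L : LKit Gh π N0 A E z s x r Nh Eh zh sh xh rh)
    (hGh : ∀ g : V ≃ₗ[K] V, LinearMap.det (g : V →ₗ[K] V) = 1 → g ∈ Gh) : False := by
  classical
  obtain ⟨n, D, hDf, hDfin, hDa, j, C⟩ := exists_comp h2 Kt hL L hGh
  obtain ⟨hn, hD, hmem⟩ := two_nine h2 Kt hL L hGh C
  subst hn
  have hft := Fintype.ofFinite D
  have hfk := Fintype.ofFinite K
  have hpow : Nat.card D = Nat.card K ^ finrank K D := Module.natCard_eq_pow_finrank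
  rw [hD] at hpow
  have hq1 : 1 < Nat.card K := Finite.one_lt_card
  have hfr : finrank K D ≠ 0 := by
    intro h0
    rw [h0, pow_zero] at hpow
    norm_num at hpow
  have hdvd : Nat.card K ∣ 9 := by
    rw [hpow]
    exact dvd_pow_self _ hfr
  have hle : Nat.card K ≤ 9 := Nat.le_of_dvd (by norm_num) hdvd
  have h39 : Nat.card K = 3 ∨ Nat.card K = 9 := by
    generalize Nat.card K = q at *
    interval_cases q <;> first | omega | (exfalso; revert hdvd; decide)
  rcases h39 with h | h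
  · exact case_three Kt hL L hGh C hD h
  · exact case_nine Kt hL L C hmem hD h

end Cfsg.Agent.H375.C3
end

-- part: H375/C3/Pair
section
/-!
# S1920, PSU: the pair component (helper375)
-/

set_option autoImplicit false

open Subgroup Module
open scoped commutatorElement

namespace Cfsg.Agent.H375.C3

open Cfsg.Agent.H415.C3
open Cfsg.Agent.H601.C3 (Star hc Dec)

universe u v w

variable {G : Type*} [Group G] {K : Type u} [Field K] {V : Type v} [AddCommGroup V] [Module K V]
variable {Gh : Subgroup (V ≃ₗ[K] V)} {π : ↥Gh →* G} {N0 A E : Subgroup G} {z s x r : G}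
  {ψ : ↥A →* Equiv.Perm (Fin 6)} {Nh Eh : Subgroup (V ≃ₗ[K] V)} {zh sh xh rh : V ≃ₗ[K] V}
variable {σ : K ≃+* K} {ad : Module.End K V → Module.End K V}

/-- `n = 2`, `|D| = 9` for a homomorphism of `SL_n(D)` into the commutant of `Nh` covering `Eh` -/
theorem two_nine' (Kt : Kit N0 A E z s x r ψ) (hL : Lin Gh π)
    (L : LKit Gh π N0 A E z s x r Nh Eh zh sh xh rh)
    {n : ℕ} {D : Type w} [Field D] [Finite D] (hodd : Odd (Nat.card D))
    (Λ : Matrix.SpecialLinearGroup (Fin n) D →* (V ≃ₗ[K] V)) (hcomm : ∀ U, ∀ g ∈ Nh, Λ U * g = g * Λ U)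
    (hE : ∀ e ∈ Eh, ∃ U, Λ U = e)
    (hG : commutator (Matrix.SpecialLinearGroup (Fin n) D) = ⊤ → ∀ U, Λ U ∈ Gh) :
    n = 2 ∧ Nat.card D = 9 ∧ ∀ U, Λ U ∈ Gh := by
  classical
  have hΛA : ∀ U, ∀ h : Λ U ∈ Gh, π ⟨Λ U, h⟩ ∈ A := fun U h =>
    Kt.comm_mem (comm_pi hL L h fun g hg => hcomm U g hg)
  have hex : ∀ τ : alternatingGroup (Fin 6), ∃ U : Matrix.SpecialLinearGroup (Fin n) D, ∃ h : Λ U ∈ Gh,
      ψ ⟨π ⟨Λ U, h⟩, hΛA U h⟩ = τ := by
    intro τ
    obtain ⟨e, he, hτ⟩ := Kt.E_img τ (Equiv.Perm.mem_alternatingGroup.1 τ.2)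
    obtain ⟨g, hg, hge⟩ := L.Eh_surj e he
    obtain ⟨U, hU⟩ := hE g hg
    subst hU
    refine ⟨U, L.Eh_le hg, ?_⟩
    have h3 := hge (L.Eh_le hg)
    subst h3
    exact hτ _
  choose u hu huτ using hex
  have hui : Function.Injective u := by
    intro τ τ' h
    refine Subtype.ext ?_
    rw [← huτ τ, ← huτ τ']
    congr 3
    exact Subtype.ext (congrArg Λ h)
  have hcard : 360 ≤ Nat.card (Matrix.SpecialLinearGroup (Fin n) D) := by
    have h3 := Nat.card_le_card_of_injective u hui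
    have hA : Nat.card (alternatingGroup (Fin 6)) = 360 := by
      rw [nat_card_alternatingGroup]
      simp [Nat.factorial]
    rwa [hA] at h3
  have hperf := perf_SL hodd n hcard
  have hmem : ∀ U, Λ U ∈ Gh := hG hperf
  have hs : ∀ U, Equiv.Perm.sign (ψ ⟨π ⟨Λ U, hmem U⟩, hΛA U (hmem U)⟩) = 1 := fun U =>
    Kt.even_of_comm (comm_pi hL L (hmem U) fun g hg => hcomm U g hg) _
  let f1 : Matrix.SpecialLinearGroup (Fin n) D →* ↥Gh := Λ.codRestrict Gh hmem
  let f2 : Matrix.SpecialLinearGroup (Fin n) D →* ↥A := (π.comp f1).codRestrict A fun U => hΛA U (hmem U)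
  let f : Matrix.SpecialLinearGroup (Fin n) D →* alternatingGroup (Fin 6) :=
    (ψ.comp f2).codRestrict (alternatingGroup (Fin 6)) fun U => Equiv.Perm.mem_alternatingGroup.2 (hs U)
  have hf : Function.Surjective f := fun τ => ⟨u τ, Subtype.ext (huτ τ)⟩
  obtain ⟨hn, hD9⟩ := nine hodd n f hf
  exact ⟨hn, hD9, hmem⟩

/-- the final contradiction: `τ = 1 + (i - 1) F` is inverted by `rh` modulo scalars, but `rh` normalises `Eh` -/
theorem tau_false [Finite G] (Kt : Kit N0 A E z s x r ψ) (hL : Lin Gh π)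
    (L : LKit Gh π N0 A E z s x r Nh Eh zh sh xh rh) (h2 : (2 : K) ≠ 0) {F : Module.End K V} (hF : F * F = F) (hF1 : F ≠ 1)
    (hFE : ∀ e ∈ Eh, (cl e - 1) * F = cl e - 1) {i : K} (hi : i * i = -1) {τ : V ≃ₗ[K] V}
    (hτ : cl τ = 1 + (i - 1) • F) (hτG : τ ∈ Gh) (hτN : ∀ g ∈ Nh, τ * g = g * τ) (hτE : ∀ e ∈ Eh, τ * e = e * τ) : False := by
  classical
  have hmul : ∀ a b : K, (1 + (a - 1) • F) * (1 + (b - 1) • F) = 1 + (a * b - 1) • F := by
    intro a b
    rw [add_mul, mul_add, mul_add, smul_mul_smul_comm, hF, one_mul, mul_one, one_mul]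
    module
  have hnsc : ∀ (a c : K), 1 + (a - 1) • F = c • (1 : Module.End K V) → a = 1 ∨ F = 0 := by
    intro a c h
    have h3 : (c - 1) • (1 - F) = 0 := by
      have h4 : (1 + (a - 1) • F) * (1 - F) = c • (1 - F) := by rw [h, smul_mul_assoc, one_mul]
      rw [add_mul, one_mul, smul_mul_assoc, mul_sub, mul_one, hF, sub_self, smul_zero, add_zero] at h4
      rw [sub_smul, one_smul, ← h4, sub_self]
    rcases smul_eq_zero.1 h3 with h4 | h4
    · rw [sub_eq_zero.1 h4, one_smul] at h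
      rcases smul_eq_zero.1 (add_eq_left.1 h) with h5 | h5
      · exact Or.inl (sub_eq_zero.1 h5)
      · exact Or.inr h5
    · exact absurd (sub_eq_zero.1 h4).symm hF1
  -- a nontrivial element of `Eh`
  obtain ⟨e, he, hne⟩ : ∃ e ∈ Eh, cl e - 1 ≠ 0 := by
    obtain ⟨e, he, hne⟩ := exists_nsc Kt hL L
    refine ⟨e, he, fun h => hne ?_⟩
    rw [isSc_iff]
    exact ⟨1, by rw [one_smul]; exact sub_eq_zero.1 h⟩
  have hF0 : F ≠ 0 := by
    rintro rfl
    have := hFE e he
    rw [mul_zero] at this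
    exact hne this.symm
  -- `π τ`
  have hcN := comm_pi hL L hτG hτN
  have hcE : ∀ e ∈ E, π ⟨τ, hτG⟩ * e = e * π ⟨τ, hτG⟩ := by
    intro e he
    obtain ⟨g, hg, hge⟩ := L.Eh_surj e he
    rw [← hge (L.Eh_le hg), ← map_mul, ← map_mul]
    exact congrArg π (Subtype.ext (hτE g hg))
  have hτ2 : cl (τ * τ) = 1 + (i * i - 1) • F := by rw [cl_mul, hτ, hmul]
  have hτ4 : τ ^ 4 = 1 := by
    refine LinearEquiv.toLinearMap_injective ?_
    have h3 : τ ^ 4 = (τ * τ) * (τ * τ) := by simp only [pow_succ, pow_zero, one_mul, mul_assoc]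
    have h4 : cl (τ ^ 4) = 1 := by
      rw [h3, cl_mul, hτ2, hmul, hi]
      norm_num
    exact h4
  have hpow : (π ⟨τ, hτG⟩) ^ 2 ^ 2 = 1 := by
    have h3 : (⟨τ, hτG⟩ : ↥Gh) ^ 2 ^ 2 = 1 := Subtype.ext hτ4
    rw [← map_pow, h3, map_one]
  have hT4 := Kt.T4E hcN hpow hcE
  have hsq : (π ⟨τ, hτG⟩) * (π ⟨τ, hτG⟩) ≠ 1 := by
    intro h3
    rw [← map_mul] at h3
    obtain ⟨c, hc'⟩ := (isSc_iff _).1 ((hL.ker _).1 h3)
    have h4 : 1 + (i * i - 1) • F = c • (1 : Module.End K V) := by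
      rw [← hτ2]
      exact hc'
    rcases hnsc _ _ h4 with h5 | h5
    · rw [hi] at h5
      apply h2
      linear_combination -h5
    · exact hF0 h5
  have hinv : r * π ⟨τ, hτG⟩ = (π ⟨τ, hτG⟩)⁻¹ * r := by
    obtain ⟨k, hk⟩ := mem_zpowers_iff.1 hT4
    rw [← hk]
    have h3 : ∀ k : ℤ, r * s ^ k = (s ^ k)⁻¹ * r := by
      intro k
      have h4 : r * s * r⁻¹ = s⁻¹ := by rw [Kt.r_s, mul_inv_cancel_right]
      have h5 : r * s ^ k * r⁻¹ = (s ^ k)⁻¹ := by rw [← conj_zpow, h4, inv_zpow]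
      rw [← h5, inv_mul_cancel_right]
    exact h3 k
  -- the lift
  have hlift : ∃ c : K, cl rh * cl τ * cl rh⁻¹ * cl τ = c • 1 := by
    have h3 : π (⟨rh, L.rG⟩ * ⟨τ, hτG⟩ * (⟨rh, L.rG⟩)⁻¹ * ⟨τ, hτG⟩) = 1 := by
      rw [map_mul, map_mul, map_mul, map_inv, L.pi_r]
      rw [hinv, mul_inv_cancel_right, inv_mul_cancel]
    obtain ⟨c, hc'⟩ := (isSc_iff _).1 ((hL.ker _).1 h3)
    exact ⟨c, hc'⟩
  obtain ⟨c, hc'⟩ := hlift
  set R := cl rh with hR
  set R' := cl rh⁻¹ with hR'
  have hRR : R * R' = 1 := cl_mul_inv rh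
  have hRR' : R' * R = 1 := cl_inv_mul rh
  let F' := R * F * R'
  have hF' : F' * F' = F' := by
    change R * F * R' * (R * F * R') = R * F * R'
    calc R * F * R' * (R * F * R') = R * F * (R' * R) * F * R' := by noncomm_ring
      _ = R * (F * F) * R' := by rw [hRR', mul_one]; noncomm_ring
      _ = _ := by rw [hF]
  have hτ' : R * cl τ * R' = 1 + (i - 1) • F' := by
    rw [hτ, mul_add, add_mul, mul_one, hRR, mul_smul_comm, smul_mul_assoc]
  have hF'E : ∀ e ∈ Eh, (cl e - 1) * F' = cl e - 1 := by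
    intro e he
    have he' : rh⁻¹ * e * rh ∈ Eh := by
      have h3 := (mem_normalizer_iff.1 (inv_mem L.rE) e).1 he
      rwa [inv_inv] at h3
    have h3 := hFE _ he'
    have h4 : cl (rh⁻¹ * e * rh) = R' * cl e * R := rfl
    rw [h4] at h3
    have h5 := congrArg (fun t => R * t * R') h3
    have h6 : R * ((R' * cl e * R - 1) * F) * R' = (cl e - 1) * F' := by
      change R * ((R' * cl e * R - 1) * F) * R' = (cl e - 1) * (R * F * R')
      calc R * ((R' * cl e * R - 1) * F) * R' = (R * R') * cl e * R * F * R' - R * F * R' := by noncomm_ring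
        _ = _ := by rw [hRR]; noncomm_ring
    have h7 : R * (R' * cl e * R - 1) * R' = cl e - 1 := by
      calc R * (R' * cl e * R - 1) * R' = (R * R') * cl e * (R * R') - R * R' := by noncomm_ring
        _ = _ := by rw [hRR]; noncomm_ring
    rw [h6, h7] at h5
    exact h5
  -- `c = -1`
  have hc1 : c = -1 := by
    have h3 := congrArg (fun t => (cl e - 1) * t) hc'
    rw [hτ', hτ] at h3
    have h4 : (cl e - 1) * ((1 + (i - 1) • F') * (1 + (i - 1) • F)) = -(cl e - 1) := by
      calc (cl e - 1) * ((1 + (i - 1) • F') * (1 + (i - 1) • F))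
          = ((cl e - 1) + (i - 1) • ((cl e - 1) * F')) * (1 + (i - 1) • F) := by
            rw [← mul_assoc, mul_add (cl e - 1) 1 ((i - 1) • F'), mul_one, mul_smul_comm]
        _ = (i • (cl e - 1)) * (1 + (i - 1) • F) := by
            rw [hF'E e he]
            congr 1
            rw [sub_smul, one_smul]
            abel
        _ = i • ((cl e - 1) + (i - 1) • ((cl e - 1) * F)) := by
            rw [smul_mul_assoc, mul_add, mul_one, mul_smul_comm]
        _ = (i * i) • (cl e - 1) := by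
            rw [hFE e he, mul_smul]
            congr 1
            rw [sub_smul, one_smul]
            abel
        _ = -(cl e - 1) := by rw [hi, neg_smul, one_smul]
    rw [h4, mul_smul_comm, mul_one] at h3
    have h5 : (c + 1) • (cl e - 1) = 0 := by rw [add_smul, one_smul, ← h3]; abel
    rcases smul_eq_zero.1 h5 with h6 | h6
    · exact eq_neg_of_add_eq_zero_left h6
    · exact absurd h6 hne
  -- the complement
  rw [hτ', hτ, hc1] at hc'
  have h3 := congrArg (fun t => t * (1 - F)) hc'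
  have hF1' : F * (1 - F) = 0 := by rw [mul_sub, mul_one, hF, sub_self]
  have h4 : (1 + (i - 1) • F') * (1 + (i - 1) • F) * (1 - F) = (1 - F) + (i - 1) • (F' * (1 - F)) := by
    rw [mul_assoc, add_mul 1 ((i - 1) • F) (1 - F), one_mul, smul_mul_assoc, hF1', smul_zero, add_zero, add_mul, one_mul,
      smul_mul_assoc]
  rw [h4, neg_smul, one_smul, neg_mul, one_mul] at h3
  have h5 : (i - 1) • (F' * (1 - F)) = (-2 : K) • (1 - F) := by
    have h6 : (i - 1) • (F' * (1 - F)) = -(1 - F) - (1 - F) := by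
      rw [← h3]
      abel
    rw [h6, neg_smul, two_smul]
    abel
  have h6 : (F' * (1 - F)) = (1 + i) • (1 - F) := by
    have hne' : i - 1 ≠ 0 := by
      intro h
      rw [sub_eq_zero.1 h, one_mul] at hi
      apply h2
      linear_combination hi
    have h7 : (i - 1) • (F' * (1 - F)) = (i - 1) • ((1 + i) • (1 - F)) := by
      rw [h5, smul_smul]
      congr 1
      linear_combination -hi
    exact smul_right_injective _ hne' h7
  have h7 : F' * (1 - F) = (1 + i) • (F' * (1 - F)) := by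
    calc F' * (1 - F) = F' * F' * (1 - F) := by rw [hF']
      _ = F' * ((1 + i) • (1 - F)) := by rw [mul_assoc, h6]
      _ = _ := by rw [mul_smul_comm]
  have hi0 : i ≠ 0 := by
    rintro rfl
    rw [mul_zero] at hi
    exact one_ne_zero (neg_eq_zero.1 hi.symm)
  have h8 : i • (F' * (1 - F)) = 0 := by
    rw [add_smul, one_smul] at h7
    exact left_eq_add.1 h7
  rcases smul_eq_zero.1 h8 with h9 | h9
  · exact hi0 h9
  · rw [h9] at h6
    rcases smul_eq_zero.1 h6.symm with h10 | h10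
    · have h11 : i = -1 := by linear_combination h10
      rw [h11] at hi
      apply h2
      linear_combination hi
    · exact hF1 (sub_eq_zero.1 h10).symm

section P

variable {n : ℕ} {φ : Matrix (Fin n) (Fin n) K →ₗ[K] Module.End K V}

/-- `X ↦ 1 + φ (X - 1) + ad (φ (X⁻¹ - 1))` on `GL_n(K)` -/
def omg (hS : _root_.Cfsg.Agent.H601.C3.Star σ ad) (hm : ∀ X Y, φ (X * Y) = φ X * φ Y) (hp : ∀ X Y, φ X * ad (φ Y) = 0 ∧ ad (φ X) * φ Y = 0) :
    (Matrix (Fin n) (Fin n) K)ˣ →* Module.End K V where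
  toFun X := 1 + φ ((X : Matrix (Fin n) (Fin n) K) - 1) + ad (φ (((X⁻¹ : (Matrix (Fin n) (Fin n) K)ˣ) : Matrix (Fin n) (Fin n) K) - 1))
  map_one' := by
    rw [inv_one, Units.val_one, sub_self, map_zero, Star.zero hS, add_zero, add_zero]
  map_mul' X Y := by
    have h1 : ((X * Y : (Matrix (Fin n) (Fin n) K)ˣ) : Matrix (Fin n) (Fin n) K) - 1 =
        ((X : Matrix (Fin n) (Fin n) K) - 1) + ((Y : Matrix (Fin n) (Fin n) K) - 1) +
          ((X : Matrix (Fin n) (Fin n) K) - 1) * ((Y : Matrix (Fin n) (Fin n) K) - 1) := by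
      rw [Units.val_mul]
      noncomm_ring
    have h2 : (((X * Y)⁻¹ : (Matrix (Fin n) (Fin n) K)ˣ) : Matrix (Fin n) (Fin n) K) - 1 =
        (((X⁻¹ : (Matrix (Fin n) (Fin n) K)ˣ) : Matrix (Fin n) (Fin n) K) - 1) +
        (((Y⁻¹ : (Matrix (Fin n) (Fin n) K)ˣ) : Matrix (Fin n) (Fin n) K) - 1) +
          (((Y⁻¹ : (Matrix (Fin n) (Fin n) K)ˣ) : Matrix (Fin n) (Fin n) K) - 1) *
            (((X⁻¹ : (Matrix (Fin n) (Fin n) K)ˣ) : Matrix (Fin n) (Fin n) K) - 1) := by
      rw [mul_inv_rev, Units.val_mul]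
      noncomm_ring
    rw [h1, h2]
    set x := (X : Matrix (Fin n) (Fin n) K) - 1
    set y := (Y : Matrix (Fin n) (Fin n) K) - 1
    set x' := ((X⁻¹ : (Matrix (Fin n) (Fin n) K)ˣ) : Matrix (Fin n) (Fin n) K) - 1
    set y' := ((Y⁻¹ : (Matrix (Fin n) (Fin n) K)ˣ) : Matrix (Fin n) (Fin n) K) - 1
    rw [map_add, map_add, map_add, map_add, hm, hm, hS.add, hS.add, hS.mul]
    have e1 := (hp x y').1
    have e2 := (hp x' y).2
    calc 1 + (φ x + φ y + φ x * φ y) + (ad (φ x') + ad (φ y') + ad (φ x') * ad (φ y'))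
        = 1 + (φ x + φ y + φ x * φ y) + (ad (φ x') + ad (φ y') + ad (φ x') * ad (φ y')) + φ x * ad (φ y') + ad (φ x') * φ y := by
          rw [e1, e2, add_zero, add_zero]
      _ = _ := by noncomm_ring

theorem omg_apply (hS : _root_.Cfsg.Agent.H601.C3.Star σ ad) (hm : ∀ X Y, φ (X * Y) = φ X * φ Y) (hp : ∀ X Y, φ X * ad (φ Y) = 0 ∧ ad (φ X) * φ Y = 0)
    (X : (Matrix (Fin n) (Fin n) K)ˣ) : omg hS hm hp X = 1 + φ ((X : Matrix (Fin n) (Fin n) K) - 1) +
      ad (φ (((X⁻¹ : (Matrix (Fin n) (Fin n) K)ˣ) : Matrix (Fin n) (Fin n) K) - 1)) := rfl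

/-- `X ↦ 1 + φ (X - 1)` -/
def lamL (hm : ∀ X Y, φ (X * Y) = φ X * φ Y) : Matrix (Fin n) (Fin n) K →* Module.End K V where
  toFun X := 1 + φ (X - 1)
  map_one' := by rw [sub_self, map_zero, add_zero]
  map_mul' U W := by
    have h1 : U * W - 1 = (U - 1) + (W - 1) + (U - 1) * (W - 1) := by noncomm_ring
    rw [h1, map_add, map_add, hm]
    noncomm_ring

end P

/-- **The pair component is impossible.** -/
theorem pair_false [Finite G] [Finite K] {ι : Type} [Fintype ι] {m : ι → ℕ} {u : ι → Bool}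
    {φ : ∀ i, Matrix (Fin (m i)) (Fin (m i)) K →ₗ[K] Module.End K V} (h2 : (2 : K) ≠ 0)
    (Kt : Kit N0 A E z s x r ψ) (hL : Lin Gh π) (L : LKit Gh π N0 A E z s x r Nh Eh zh sh xh rh)
    (hS : _root_.Cfsg.Agent.H601.C3.Star σ ad) (hD : Dec σ ad Nh u φ)
    (hGh : ∀ g : V ≃ₗ[K] V, g ∈ Gh ↔ (cl g * ad (cl g) = 1 ∧ LinearMap.det (cl g) = 1))
    {q : ℕ} (hq : Nat.card K = q ^ 2) (hσ : ∀ c, σ c = c ^ q) (hdet : ∀ T, LinearMap.det (ad T) = σ (LinearMap.det T))
    (i : ι) (hF1 : FF ad u φ i ≠ 1) (hFE : ∀ e ∈ Eh, (cl e - 1) * FF ad u φ i = cl e - 1) (hu : u i = false)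
    (hE : ∀ e ∈ Eh, ∃ X : Matrix.SpecialLinearGroup (Fin (m i)) K,
      cl e = 1 + φ i ((X : Matrix (Fin (m i)) (Fin (m i)) K) - 1) +
        ad (φ i (((X⁻¹ : Matrix.SpecialLinearGroup (Fin (m i)) K) : Matrix (Fin (m i)) (Fin (m i)) K) - 1))) : False := by
  classical
  have hft := Fintype.ofFinite K
  have hodd : Odd (Nat.card K) := by
    rw [Nat.card_eq_fintype_card]
    have h3 : ringChar K ≠ 2 := by
      intro h
      have h4 : ((2 : ℕ) : K) = 0 := by rw [← h]; exact ringChar.Nat.cast_ringChar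
      exact h2 (by exact_mod_cast h4)
    rw [Nat.odd_iff]
    exact FiniteField.odd_card_of_char_ne_two h3
  have hm := hD.mul i
  have hp := hD.pair i hu
  have hFF : FF ad u φ i = φ i 1 + ad (φ i 1) := by
    unfold FF
    rw [if_neg (by rw [hu]; decide)]
  let θ : (Module.End K V)ˣ →* (V ≃ₗ[K] V) := (LinearMap.GeneralLinearGroup.generalLinearEquiv K V).toMonoidHom
  have hθ : ∀ w : (Module.End K V)ˣ, cl (θ w) = (w : Module.End K V) := fun w => LinearMap.ext fun v => rfl
  let Ω : (Matrix (Fin (m i)) (Fin (m i)) K)ˣ →* (V ≃ₗ[K] V) := θ.comp (omg hS hm hp).toHomUnits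
  have hΩ : ∀ X, cl (Ω X) = omg hS hm hp X := fun X => hθ _
  have hNG : ∀ g ∈ Nh, cl g * ad (cl g) = 1 := fun g hg => ((hGh g).1 (Nh_le L hg)).1
  -- `ad (φ X)` commutes with `Nh`
  have hadN : ∀ X, ∀ g ∈ Nh, ad (φ i X) * cl g = cl g * ad (φ i X) := by
    intro X g hg
    have h3 := hD.comm i X g⁻¹ (inv_mem hg)
    have h4 := congrArg ad h3
    rw [hS.mul, hS.mul] at h4
    have h5 : ad (cl g⁻¹) = cl g := by
      rw [← ad_eq g (hNG g hg), hS.inv]
    change ad (cl g⁻¹) * ad (φ i X) = ad (φ i X) * ad (cl g⁻¹) at h4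
    rw [h5] at h4
    exact h4.symm
  have hΩN : ∀ X, ∀ g ∈ Nh, Ω X * g = g * Ω X := by
    intro X g hg
    refine LinearEquiv.toLinearMap_injective ?_
    change cl (Ω X) * cl g = cl g * cl (Ω X)
    rw [hΩ, omg_apply, add_mul, add_mul, mul_add, mul_add, one_mul, mul_one, hadN _ g hg]
    rw [show φ i ((X : Matrix (Fin (m i)) (Fin (m i)) K) - 1) * cl g = cl g * φ i ((X : Matrix (Fin (m i)) (Fin (m i)) K) - 1) from
      hD.comm i _ g hg]
  have hΩu : ∀ X, cl (Ω X) * ad (cl (Ω X)) = 1 := by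
    intro X
    have h3 : ad (cl (Ω X)) = cl (Ω X⁻¹) := by
      rw [hΩ, hΩ, omg_apply, omg_apply, hS.add, hS.add, Star.one hS, hS.inv, inv_inv]
      abel
    rw [h3, map_inv, cl_mul_inv]
  let Λ : Matrix.SpecialLinearGroup (Fin (m i)) K →* (V ≃ₗ[K] V) := Ω.comp Matrix.SpecialLinearGroup.toGL
  have hΛG : commutator (Matrix.SpecialLinearGroup (Fin (m i)) K) = ⊤ → ∀ U, Λ U ∈ Gh := by
    intro hperf U
    rw [hGh]
    refine ⟨hΩu _, ?_⟩
    let f : Matrix.SpecialLinearGroup (Fin (m i)) K →* K :=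
      (LinearMap.det : Module.End K V →* K).comp ((omg hS hm hp).comp Matrix.SpecialLinearGroup.toGL)
    have h3 : f.toHomUnits U = 1 := by
      have h4 : _root_.commutator (Matrix.SpecialLinearGroup (Fin (m i)) K) ≤ f.toHomUnits.ker :=
        Abelianization.commutator_subset_ker f.toHomUnits
      rw [hperf] at h4
      exact h4 (mem_top U)
    have h5 := congrArg Units.val h3
    have h6 : cl (Λ U) = omg hS hm hp (Matrix.SpecialLinearGroup.toGL U) := hΩ _
    rw [h6]
    exact h5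
  obtain ⟨hn, hK9, -⟩ := two_nine' Kt hL L hodd Λ (fun U g hg => hΩN _ g hg)
    (fun e he => by
      obtain ⟨X, hX⟩ := hE e he
      refine ⟨X, LinearEquiv.toLinearMap_injective ?_⟩
      change cl (Ω _) = cl e
      rw [hΩ, omg_apply, hX]
      rfl) hΛG
  -- `q = 3`
  have hq3 : q = 3 := by
    rw [hK9] at hq
    have : q < 4 := by
      by_contra hcon
      push Not at hcon
      have := Nat.pow_le_pow_left hcon 2
      omega
    interval_cases q <;> omega
  subst hq3
  have h3 : (3 : K) = 0 := by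
    have h1 : ((9 : ℕ) : K) = 0 := by
      rw [← hK9, Nat.card_eq_fintype_card]
      exact FiniteField.cast_card_eq_zero K
    have h2 : (3 : K) * 3 = 0 := by
      rw [← h1]
      norm_num
    exact mul_self_eq_zero.1 h2
  obtain ⟨a, ha⟩ : ∃ a : K, a * a = -1 := by
    obtain ⟨ω, hω⟩ := IsCyclic.exists_generator (α := Kˣ)
    have ho : orderOf ω = 8 := by
      rw [orderOf_eq_card_of_forall_mem_zpowers hω, Nat.card_units, hK9]
    refine ⟨((ω ^ 2 : Kˣ) : K), ?_⟩
    have h4 : ((ω ^ 4 : Kˣ) : K) * ((ω ^ 4 : Kˣ) : K) = 1 := by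
      rw [← Units.val_mul, ← pow_add, show 4 + 4 = 8 by norm_num, ← ho, pow_orderOf_eq_one, Units.val_one]
    have h5 : ((ω ^ 4 : Kˣ) : K) ≠ 1 := by
      intro h
      have h6 : ω ^ 4 = 1 := Units.ext h
      have h7 := orderOf_dvd_of_pow_eq_one h6
      rw [ho] at h7
      norm_num at h7
    have h6 : ((ω ^ 2 : Kˣ) : K) * ((ω ^ 2 : Kˣ) : K) = ((ω ^ 4 : Kˣ) : K) := by
      rw [← Units.val_mul, ← pow_add]
    rw [h6]
    exact (mul_self_eq_one_iff.1 h4).resolve_left h5
  have ha0 : a ≠ 0 := by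
    rintro rfl
    rw [mul_zero] at ha
    exact one_ne_zero (neg_eq_zero.1 ha.symm)
  have hσa : σ a = -a := by
    rw [hσ, pow_succ, pow_two, ha]
    ring
  -- the element `τ`
  generalize hF : FF ad u φ i = F at *
  have hFsq : F * F = F := by rw [← hF]; exact dec_sq hD hS i
  have hFad : ad F = F := by rw [← hF]; exact dec_ad hD hS i
  have hmul : ∀ a b : K, (1 + (a - 1) • F) * (1 + (b - 1) • F) = 1 + (a * b - 1) • F := by
    intro a b
    rw [add_mul, mul_add, mul_add, smul_mul_smul_comm, hFsq, one_mul, mul_one, one_mul]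
    module
  have hinv : (1 + (a - 1) • F) * (1 + (-a - 1) • F) = 1 := by
    rw [hmul]
    have : a * -a - 1 = 0 := by linear_combination -ha
    rw [this, zero_smul, add_zero]
  have hinv' : (1 + (-a - 1) • F) * (1 + (a - 1) • F) = 1 := by
    rw [hmul]
    have : -a * a - 1 = 0 := by linear_combination -ha
    rw [this, zero_smul, add_zero]
  let w : (Module.End K V)ˣ := ⟨1 + (a - 1) • F, 1 + (-a - 1) • F, hinv, hinv'⟩
  have hτ : cl (θ w) = 1 + (a - 1) • F := hθ w
  have hFN : ∀ g ∈ Nh, F * cl g = cl g * F := by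
    intro g hg
    rw [← hF]
    exact dec_comm hD hS i g (hNG g hg) (hD.comm i 1 g hg)
  have hFEc : ∀ g ∈ Eh, F * cl g = cl g * F := by
    intro g hg
    rw [← hF]
    refine dec_comm hD hS i g ((hGh g).1 (L.Eh_le hg)).1 ?_
    obtain ⟨X, h4, h5⟩ := dec_phi hD hS (T := cl g) (fun k hk => by rw [← cl_mul, ← cl_mul, L.Eh_comm g hg k hk]) i
    rw [h4, h5]
  have hτu : cl (θ w) * ad (cl (θ w)) = 1 := by
    have h4 : ad (cl (θ w)) = 1 + (-a - 1) • F := by
      rw [hτ, hS.add, Star.one hS, hS.smul, hFad, map_sub, map_one, hσa]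
    rw [h4, hτ, hinv]
  have hτd : LinearMap.det (cl (θ w)) = 1 := by
    subst hF
    rw [hτ, hFF]
    -- the determinant on the first part
    let δ : Matrix (Fin (m i)) (Fin (m i)) K →* K := (LinearMap.det : Module.End K V →* K).comp (lamL hm)
    have hδ : ∀ X, δ X = LinearMap.det (1 + φ i (X - 1)) := fun X => rfl
    have hsc : ∀ c : K, 1 + (c - 1) • φ i 1 = 1 + φ i (c • (1 : Matrix (Fin (m i)) (Fin (m i)) K) - 1) := by
      intro c
      rw [map_sub, map_smul, sub_smul, one_smul]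
    have e1 : 1 + (a - 1) • (φ i 1 + ad (φ i 1)) = (1 + (a - 1) • φ i 1) * (1 + (a - 1) • ad (φ i 1)) := by
      have e3 : (a - 1) • φ i 1 * (a - 1) • ad (φ i 1) = 0 := by
        rw [smul_mul_smul_comm, (hp 1 1).1, smul_zero]
      have e4 : ∀ x y : Module.End K V, x * y = 0 → (1 + x) * (1 + y) = 1 + (x + y) := by
        intro x y hxy
        calc (1 + x) * (1 + y) = 1 + (x + y) + x * y := by noncomm_ring
          _ = _ := by rw [hxy, add_zero]
      rw [e4 _ _ e3, smul_add]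
    have e2 : 1 + (a - 1) • ad (φ i 1) = ad (1 + (-a - 1) • φ i 1) := by
      have e5 : σ (-a - 1) = a - 1 := by rw [map_sub, map_neg, map_one, hσa, neg_neg]
      rw [hS.add, Star.one hS, hS.smul, e5]
    rw [e1, map_mul, e2, hdet, hsc, hsc, ← hδ, ← hδ]
    -- `δ (a • 1) = ± 1`
    have hinvδ : δ (a • 1) * δ ((-a) • 1) = 1 := by
      rw [← map_mul, smul_mul_smul_comm, mul_one]
      have : a * -a = 1 := by linear_combination -ha
      rw [this, one_smul, map_one]
    have hsqδ : δ (a • 1) * δ (a • 1) = 1 := by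
      -- `m i = 2`: `a • 1` is a product of two conjugate elements
      have hpow : ∀ (n : ℕ) (_ : n = 2) (δ : Matrix (Fin n) (Fin n) K →* K), δ (a • 1) * δ (a • 1) = 1 := by
        intro n hn δ
        subst hn
        have h4 : (a • 1 : Matrix (Fin 2) (Fin 2) K) = !![0, 1; -1, 0] * !![a, 0; 0, 1] * !![0, -1; 1, 0] * !![a, 0; 0, 1] := by
          ext b c
          (revert b c; simp only [Matrix.mul_apply, Fin.sum_univ_two, _root_.Fin.forall_fin_succ, _root_.Matrix.smul_apply, _root_.smul_eq_mul, _root_.Matrix.cons_mul, _root_.Nat.succ_eq_add_one, Nat.reduceAdd, _root_.Matrix.vecMul_cons, _root_.Matrix.head_cons, _root_.zero_smul, _root_.Matrix.tail_cons, _root_.one_smul, _root_.Matrix.empty_vecMul, _root_.add_zero, _root_.zero_add, _root_.neg_smul, _root_.Matrix.neg_cons, _root_.neg_zero, _root_.Matrix.neg_empty, _root_.Matrix.empty_mul, _root_.Equiv.symm_apply_apply, _root_.Matrix.smul_cons, _root_.MulZeroClass.mul_zero, _root_.mul_neg, _root_.mul_one,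 _root_.Matrix.smul_empty, _root_.neg_neg, _root_.Matrix.of_apply, _root_.Matrix.cons_val', _root_.Matrix.cons_val_fin_one, Fin.isValue, _root_.Matrix.cons_val_zero, _root_.Matrix.cons_val_one, _root_.Matrix.cons_val_succ, _root_.IsEmpty.forall_iff, _root_.and_true, _root_.Matrix.one_apply_eq, _root_.one_mul, _root_.Fin.succ_zero_eq_one, _root_.ne_eq, _root_.zero_ne_one, _root_.not_false_eq_true, _root_.Matrix.one_apply_ne, _root_.and_self, _root_.Fin.succ_ne_zero, _root_.MulZeroClass.zero_mul, _root_.true_and])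
        have h5 : δ !![0, 1; -1, 0] * δ !![0, -1; 1, 0] = 1 := by
          rw [← map_mul]
          have : (!![0, 1; -1, 0] : Matrix (Fin 2) (Fin 2) K) * !![0, -1; 1, 0] = 1 := by
            ext a b
            (revert a b; simp only [Matrix.mul_apply, Fin.sum_univ_two, _root_.Fin.forall_fin_succ, _root_.Matrix.of_apply, _root_.Matrix.cons_val', _root_.Matrix.cons_val_fin_one, Fin.isValue, _root_.Matrix.cons_val_zero, _root_.Matrix.cons_val_one, _root_.MulZeroClass.mul_zero, _root_.mul_one, _root_.zero_add, _root_.Matrix.cons_val_succ, _root_.mul_neg, _root_.add_zero, _root_.IsEmpty.forall_iff, _root_.and_true, _root_.Matrix.one_apply_eq, _root_.neg_zero, Nat.reduceAdd, _root_.Fin.succ_zero_eq_one, _root_.ne_eq, _root_.zero_ne_one, _root_.not_false_eq_true, _root_.Matrix.one_apply_ne, _root_.and_self, _root_.Fin.succ_ne_zero, _root_.neg_neg, _root_.true_and])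
          rw [this, map_one]
        have h6 : δ !![a, 0; 0, 1] * δ !![a, 0; 0, 1] * (δ !![a, 0; 0, 1] * δ !![a, 0; 0, 1]) = 1 := by
          rw [← map_mul, ← map_mul]
          have : (!![a, 0; 0, 1] : Matrix (Fin 2) (Fin 2) K) * !![a, 0; 0, 1] * (!![a, 0; 0, 1] * !![a, 0; 0, 1]) = 1 := by
            ext b c
            (revert b c; simp only [Matrix.mul_apply, Fin.sum_univ_two, ha, _root_.Fin.forall_fin_succ, _root_.Matrix.cons_mul, _root_.Nat.succ_eq_add_one, Nat.reduceAdd, _root_.Matrix.vecMul_cons, _root_.Matrix.head_cons, _root_.Matrix.smul_cons, _root_.smul_eq_mul, _root_.MulZeroClass.mul_zero, _root_.Matrix.smul_empty, _root_.Matrix.tail_cons, _root_.zero_smul, _root_.Matrix.empty_vecMul, _root_.add_zero, _root_.one_smul, _root_.zero_add, _root_.Matrix.empty_mul, _root_.Equiv.symm_apply_apply, _root_.Matrix.of_apply, _root_.Matrix.cons_val', _root_.Matrix.cons_val_fin_one, Fin.isValue, _root_.Matrix.cons_val_zero, _root_.Matrix.cons_val_one, _root_.mul_neg,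 _root_.mul_one, _root_.Matrix.cons_val_succ, _root_.IsEmpty.forall_iff, _root_.and_true, _root_.neg_neg, _root_.Matrix.one_apply_eq, _root_.Fin.succ_zero_eq_one, _root_.ne_eq, _root_.zero_ne_one, _root_.not_false_eq_true, _root_.Matrix.one_apply_ne, _root_.and_self, _root_.neg_zero, _root_.Fin.succ_ne_zero, _root_.true_and])
          rw [this, map_one]
        have h7 : δ (a • 1) = δ !![a, 0; 0, 1] * δ !![a, 0; 0, 1] := by
          rw [h4, map_mul, map_mul, map_mul]
          calc _ = (δ !![0, 1; -1, 0] * δ !![0, -1; 1, 0]) * (δ !![a, 0; 0, 1] * δ !![a, 0; 0, 1]) := by ring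
            _ = _ := by rw [h5, one_mul]
        rw [h7]
        exact h6
      exact hpow _ hn δ
    have h4 : δ ((-a) • 1) = δ (a • 1) := by
      have h5 : δ (a • 1) ≠ 0 := by
        intro h0
        rw [h0, zero_mul] at hsqδ
        exact zero_ne_one hsqδ
      exact mul_left_cancel₀ h5 (hinvδ.trans hsqδ.symm)
    rw [h4]
    rcases mul_self_eq_one_iff.1 hsqδ with h5 | h5
    · rw [h5, map_one, one_mul]
    · rw [h5, map_neg, map_one]
      norm_num
  have hτG : θ w ∈ Gh := (hGh _).2 ⟨hτu, hτd⟩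
  refine tau_false Kt hL L h2 hFsq hF1 hFE ha hτ hτG ?_ ?_
  · intro g hg
    refine LinearEquiv.toLinearMap_injective ?_
    change cl (θ w) * cl g = cl g * cl (θ w)
    rw [hτ, add_mul, mul_add, one_mul, mul_one, smul_mul_assoc, mul_smul_comm, hFN g hg]
  · intro g hg
    refine LinearEquiv.toLinearMap_injective ?_
    change cl (θ w) * cl g = cl g * cl (θ w)
    rw [hτ, add_mul, mul_add, one_mul, mul_one, smul_mul_assoc, mul_smul_comm, hFEc g hg]

end Cfsg.Agent.H375.C3
end

-- part: H375/C3/Uni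
section
/-!
# S1920, PSU: the unitary component `SU_2(q)` (helper375)
-/

set_option autoImplicit false

open Subgroup Module
open scoped commutatorElement

namespace Cfsg.Agent.H375.C3

open Cfsg.Agent.H415.C3
open Cfsg.Agent.H601.C3 (Star hc Dec)

universe u v w

section F

variable {K : Type u} [Field K] {σ : K ≃+* K}

/-- the fixed field of `σ` -/
def fxF (σ : K ≃+* K) : Subfield K where
  carrier := {x | σ x = x}
  mul_mem' := fun {a b} ha hb => by
    change σ (a * b) = a * b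
    rw [map_mul, show σ a = a from ha, show σ b = b from hb]
  one_mem' := map_one σ
  add_mem' := fun {a b} ha hb => by
    change σ (a + b) = a + b
    rw [map_add, show σ a = a from ha, show σ b = b from hb]
  zero_mem' := map_zero σ
  neg_mem' := fun {a} ha => by
    change σ (-a) = -a
    rw [map_neg, show σ a = a from ha]
  inv_mem' := fun a ha => by
    change σ a⁻¹ = a⁻¹
    rw [map_inv₀, show σ a = a from ha]

/-- the matrix transporting `SU_2(K)` to `SL_2(D)` -/
theorem exists_P [Finite K] (h2 : (2 : K) ≠ 0) {q : ℕ} (hq : Nat.card K = q ^ 2) (hσ : ∀ c, σ c = c ^ q) :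
    ∃ (P Q : Matrix (Fin 2) (Fin 2) K) (c : K), P * Q = 1 ∧ Q * P = 1 ∧ c ≠ 0 ∧ P.map σ = c • (P * !![0, 1; -1, 0]) := by
  classical
  have hft := Fintype.ofFinite K
  have hq1 : 1 < Nat.card K := Finite.one_lt_card
  have hodd : Odd (Nat.card K) := by
    rw [Nat.card_eq_fintype_card]
    have h3 : ringChar K ≠ 2 := by
      intro h
      have h4 : ((2 : ℕ) : K) = 0 := by rw [← h]; exact ringChar.Nat.cast_ringChar
      exact h2 (by exact_mod_cast h4)
    rw [Nat.odd_iff]
    exact FiniteField.odd_card_of_char_ne_two h3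
  have hqo : Odd q := by
    rw [hq] at hodd
    exact (Nat.odd_pow_iff two_ne_zero).1 hodd
  have hq2 : 2 < q := by
    obtain ⟨k, hk⟩ := hqo
    rcases Nat.eq_zero_or_pos k with h | h
    · rw [h] at hk
      rw [hq, hk] at hq1
      norm_num at hq1
    · omega
  have hσσ : ∀ x, σ (σ x) = x := by
    intro x
    rw [hσ, hσ, ← pow_mul, ← pow_two, ← hq, Nat.card_eq_fintype_card, FiniteField.pow_card]
  obtain ⟨ω, hω⟩ := IsCyclic.exists_generator (α := Kˣ)
  have ho : orderOf ω = q ^ 2 - 1 := by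
    rw [orderOf_eq_card_of_forall_mem_zpowers hω, Nat.card_units, hq]
  obtain ⟨k, hk⟩ := hqo
  have hk0 : 0 < k := by omega
  -- `c`
  obtain ⟨c, hc⟩ : ∃ c : K, c * σ c = -1 := by
    refine ⟨((ω ^ k : Kˣ) : K), ?_⟩
    rw [hσ, ← pow_succ']
    have h4 : (((ω ^ k : Kˣ) : K) ^ (q + 1)) = ((ω ^ (k * (q + 1)) : Kˣ) : K) := by
      rw [← Units.val_pow_eq_pow_val, ← pow_mul]
    rw [h4]
    have h5 : ((ω ^ (k * (q + 1)) : Kˣ) : K) * ((ω ^ (k * (q + 1)) : Kˣ) : K) = 1 := by
      rw [← Units.val_mul, ← pow_add]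
      have h6 : k * (q + 1) + k * (q + 1) = orderOf ω := by
        rw [ho, hk]
        have : (2 * k + 1) ^ 2 = k * (2 * k + 1 + 1) + k * (2 * k + 1 + 1) + 1 := by ring
        omega
      rw [h6, pow_orderOf_eq_one, Units.val_one]
    have h6 : ((ω ^ (k * (q + 1)) : Kˣ) : K) ≠ 1 := by
      intro h
      have h7 : ω ^ (k * (q + 1)) = 1 := Units.ext h
      have h8 := Nat.le_of_dvd (by positivity) (orderOf_dvd_of_pow_eq_one h7)
      rw [ho, hk] at h8
      have : (2 * k + 1) ^ 2 = k * (2 * k + 1 + 1) + k * (2 * k + 1 + 1) + 1 := by ring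
      have h9 : 0 < k * (2 * k + 1 + 1) := by positivity
      omega
    exact (mul_self_eq_one_iff.1 h5).resolve_left h6
  have hc0 : c ≠ 0 := by
    rintro rfl
    rw [zero_mul] at hc
    exact one_ne_zero (neg_eq_zero.1 hc.symm)
  have hσc : σ c = -c⁻¹ := by
    field_simp
    linear_combination hc
  -- `e`
  obtain ⟨e, he⟩ : ∃ e : K, σ e ≠ e := by
    refine ⟨(ω : K), ?_⟩
    rw [hσ]
    intro h
    have h4 : ω ^ (q - 1) = 1 := by
      refine Units.ext ?_
      rw [Units.val_pow_eq_pow_val, Units.val_one]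
      have h5 : (ω : K) ^ (q - 1) * ω = 1 * ω := by
        rw [← pow_succ, Nat.sub_add_cancel (by omega), h, one_mul]
      exact mul_right_cancel₀ ω.ne_zero h5
    have h5 := Nat.le_of_dvd (by omega) (orderOf_dvd_of_pow_eq_one h4)
    rw [ho] at h5
    have h6 : q < q ^ 2 := by nlinarith only [hq2]
    omega
  have hd : e - σ e ≠ 0 := fun h => he (sub_eq_zero.1 h).symm
  let P : Matrix (Fin 2) (Fin 2) K := !![1, -c⁻¹; e, -(σ e) * c⁻¹]
  let Q : Matrix (Fin 2) (Fin 2) K := (c * (e - σ e)⁻¹) • !![-(σ e) * c⁻¹, c⁻¹; -e, 1]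
  have hPQ : P * Q = 1 := by
    ext a b
    (revert a b; simp only [P, Q, Matrix.mul_apply, Fin.sum_univ_two, _root_.Fin.forall_fin_succ, _root_.neg_mul, _root_.Matrix.smul_of, _root_.Matrix.smul_cons, _root_.smul_eq_mul, _root_.mul_neg, _root_.Matrix.smul_empty, _root_.mul_one, _root_.Matrix.of_apply, _root_.Matrix.cons_val', _root_.Matrix.cons_val_fin_one, Fin.isValue, _root_.Matrix.cons_val_zero, _root_.Matrix.cons_val_one, _root_.Matrix.cons_val_succ, _root_.IsEmpty.forall_iff, _root_.and_true, _root_.one_mul, _root_.neg_neg, _root_.Matrix.one_apply_eq, Nat.reduceAdd, _root_.Fin.succ_zero_eq_one, _root_.ne_eq, _root_.zero_ne_one, _root_.not_false_eq_true, _root_.Matrix.one_apply_ne, _root_.Fin.succ_ne_zero]) <;> (repeat' with_reducible apply And.intro) <;> field_simp <;> ring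
  refine ⟨P, Q, c, hPQ, mul_eq_one_comm.1 hPQ, hc0, ?_⟩
  ext a b
  (revert a b; simp only [P, Matrix.mul_apply, Fin.sum_univ_two, map_inv₀, hσc, hσσ, _root_.Fin.forall_fin_succ, _root_.neg_mul, _root_.Matrix.map_apply, _root_.Matrix.of_apply, _root_.Matrix.cons_val', _root_.Matrix.cons_val_fin_one, _root_.Matrix.cons_mul, _root_.Nat.succ_eq_add_one, Nat.reduceAdd, _root_.Matrix.vecMul_cons, _root_.Matrix.head_cons, _root_.one_smul, _root_.Matrix.tail_cons, _root_.neg_smul, _root_.Matrix.smul_cons, _root_.smul_eq_mul, _root_.mul_neg, _root_.mul_one, _root_.MulZeroClass.mul_zero, _root_.Matrix.smul_empty, _root_.Matrix.neg_cons, _root_.neg_neg, _root_.neg_zero, _root_.Matrix.neg_empty, _root_.Matrix.empty_vecMul, _root_.add_zero, _root_.Matrix.add_cons, _root_.zero_add, _root_.Matrix.empty_add_empty, _root_.Matrix.empty_mul, _root_.Equiv.symm_apply_apply, _root_.Matrix.smul_apply, Fin.isValue, _root_.Matrix.cons_val_zero, _root_.Matrix.cons_val_succ, _root_.forall_const,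 _root_.map_one, _root_.map_neg, _root_.inv_neg, _root_.inv_inv, _root_.and_true, _root_.map_mul]) <;> (repeat' with_reducible apply And.intro) <;> field_simp

/-- `SU_2` in terms of `J` -/
theorem hc_iff {X : Matrix (Fin 2) (Fin 2) K} (hX : X.det = 1) :
    hc σ X * X = 1 ↔ X.map σ = !![0, 1; -1, 0] * X * !![0, -1; 1, 0] := by
  have h1 : X * X.adjugate = 1 := by rw [Matrix.mul_adjugate, hX, one_smul]
  have h2 : X.adjugate * X = 1 := by rw [Matrix.adjugate_mul, hX, one_smul]
  have h3 : X.adjugate.transpose = !![0, 1; -1, 0] * X * !![0, -1; 1, 0] := by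
    rw [Matrix.adjugate_fin_two, Matrix.eta_fin_two X]
    ext a b
    (revert a b; simp only [Matrix.mul_apply, Fin.sum_univ_two, _root_.Fin.forall_fin_succ, Fin.isValue, _root_.Matrix.of_apply, _root_.Matrix.cons_val', _root_.Matrix.cons_val_one, _root_.Matrix.cons_val_fin_one, _root_.Matrix.cons_val_zero, _root_.Matrix.transpose_apply, _root_.Matrix.cons_mul, _root_.Nat.succ_eq_add_one, Nat.reduceAdd, _root_.Matrix.vecMul_cons, _root_.Matrix.head_cons, _root_.zero_smul, _root_.Matrix.tail_cons, _root_.one_smul, _root_.Matrix.empty_vecMul, _root_.add_zero, _root_.zero_add, _root_.neg_smul, _root_.Matrix.neg_cons, _root_.Matrix.neg_empty, _root_.Matrix.empty_mul, _root_.Equiv.symm_apply_apply, _root_.MulZeroClass.mul_zero, _root_.mul_one, _root_.Matrix.cons_val_succ, _root_.mul_neg, _root_.forall_const, _root_.and_self, _root_.neg_neg, _root_.implies_true])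
  rw [← h3]
  constructor
  · intro h
    have h4 : hc σ X = X.adjugate := by
      calc hc σ X = hc σ X * (X * X.adjugate) := by rw [h1, mul_one]
        _ = _ := by rw [← mul_assoc, h, one_mul]
    rw [← h4]
    unfold hc
    rw [Matrix.transpose_transpose]
  · intro h
    unfold hc
    rw [h, Matrix.transpose_transpose, h2]

/-- `SL_2(D) → SU_2(K)` -/
def muP (P Q : Matrix (Fin 2) (Fin 2) K) (hPQ : P * Q = 1) (hQP : Q * P = 1) :
    Matrix.SpecialLinearGroup (Fin 2) (fxF σ) →* Matrix (Fin 2) (Fin 2) K where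
  toFun U := Q * (U : Matrix (Fin 2) (Fin 2) (fxF σ)).map (fxF σ).subtype * P
  map_one' := by
    rw [Matrix.SpecialLinearGroup.coe_one, Matrix.map_one _ (map_zero _) (map_one _), mul_one, hQP]
  map_mul' U W := by
    rw [Matrix.SpecialLinearGroup.coe_mul, Matrix.map_mul]
    calc Q * ((U : Matrix (Fin 2) (Fin 2) (fxF σ)).map (fxF σ).subtype * (W : Matrix (Fin 2) (Fin 2) (fxF σ)).map (fxF σ).subtype) * P
        = Q * (U : Matrix (Fin 2) (Fin 2) (fxF σ)).map (fxF σ).subtype * 1 *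
            (W : Matrix (Fin 2) (Fin 2) (fxF σ)).map (fxF σ).subtype * P := by noncomm_ring
      _ = _ := by rw [← hPQ]; noncomm_ring

theorem muP_det {P Q : Matrix (Fin 2) (Fin 2) K} (hPQ : P * Q = 1) (hQP : Q * P = 1)
    (U : Matrix.SpecialLinearGroup (Fin 2) (fxF σ)) : (muP P Q hPQ hQP U).det = 1 := by
  change (Q * (U : Matrix (Fin 2) (Fin 2) (fxF σ)).map (fxF σ).subtype * P).det = 1
  have h1 : ((U : Matrix (Fin 2) (Fin 2) (fxF σ)).map (fxF σ).subtype).det = 1 := by
    have h2 := RingHom.map_det (fxF σ).subtype (U : Matrix (Fin 2) (Fin 2) (fxF σ))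
    rw [U.2, map_one] at h2
    exact h2.symm
  have h2 : Q.det * P.det = 1 := by rw [← Matrix.det_mul, hQP, Matrix.det_one]
  rw [Matrix.det_mul, Matrix.det_mul, h1, mul_one, h2]

theorem muP_hc {P Q : Matrix (Fin 2) (Fin 2) K} (hPQ : P * Q = 1) (hQP : Q * P = 1) {c : K} (hc0 : c ≠ 0)
    (hP : P.map σ = c • (P * !![0, 1; -1, 0])) (U : Matrix.SpecialLinearGroup (Fin 2) (fxF σ)) :
    hc σ (muP P Q hPQ hQP U) * muP P Q hPQ hQP U = 1 := by
  rw [hc_iff (muP_det hPQ hQP U)]
  have hJ : (!![0, 1; -1, 0] : Matrix (Fin 2) (Fin 2) K) * !![0, -1; 1, 0] = 1 := by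
    ext a b
    (revert a b; simp only [Matrix.mul_apply, Fin.sum_univ_two, _root_.Fin.forall_fin_succ, _root_.Matrix.of_apply, _root_.Matrix.cons_val', _root_.Matrix.cons_val_fin_one, Fin.isValue, _root_.Matrix.cons_val_zero, _root_.Matrix.cons_val_one, _root_.MulZeroClass.mul_zero, _root_.mul_one, _root_.zero_add, _root_.Matrix.cons_val_succ, _root_.mul_neg, _root_.add_zero, _root_.IsEmpty.forall_iff, _root_.and_true, _root_.Matrix.one_apply_eq, _root_.neg_zero, Nat.reduceAdd, _root_.Fin.succ_zero_eq_one, _root_.ne_eq, _root_.zero_ne_one, _root_.not_false_eq_true, _root_.Matrix.one_apply_ne, _root_.and_self, _root_.Fin.succ_ne_zero, _root_.neg_neg, _root_.true_and])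
  have hJ' : (!![0, -1; 1, 0] : Matrix (Fin 2) (Fin 2) K) * !![0, 1; -1, 0] = 1 := mul_eq_one_comm.1 hJ
  have hQ : Q.map σ = c⁻¹ • (!![0, -1; 1, 0] * Q) := by
    have h1 : P.map σ * Q.map σ = 1 := by
      rw [← Matrix.map_mul, hPQ, Matrix.map_one _ (map_zero _) (map_one _)]
    have h2 : P.map σ * (c⁻¹ • (!![0, -1; 1, 0] * Q)) = 1 := by
      rw [hP, smul_mul_smul_comm, mul_inv_cancel₀ hc0, one_smul]
      calc P * !![0, 1; -1, 0] * (!![0, -1; 1, 0] * Q) = P * (!![0, 1; -1, 0] * !![0, -1; 1, 0]) * Q := by noncomm_ring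
        _ = 1 := by rw [hJ, mul_one, hPQ]
    have h3 : Q.map σ * P.map σ = 1 := mul_eq_one_comm.1 h1
    calc Q.map σ = Q.map σ * (P.map σ * (c⁻¹ • (!![0, -1; 1, 0] * Q))) := by rw [h2, mul_one]
      _ = _ := by rw [← mul_assoc, h3, one_mul]
  have hU : ((U : Matrix (Fin 2) (Fin 2) (fxF σ)).map (fxF σ).subtype).map σ =
      (U : Matrix (Fin 2) (Fin 2) (fxF σ)).map (fxF σ).subtype := by
    ext a b
    exact (U a b).2
  change (Q * (U : Matrix (Fin 2) (Fin 2) (fxF σ)).map (fxF σ).subtype * P).map σ =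
    !![0, 1; -1, 0] * (Q * (U : Matrix (Fin 2) (Fin 2) (fxF σ)).map (fxF σ).subtype * P) * !![0, -1; 1, 0]
  rw [Matrix.map_mul, Matrix.map_mul, hU, hQ, hP]
  have hneg : (!![0, 1; -1, 0] : Matrix (Fin 2) (Fin 2) K) = -!![0, -1; 1, 0] := by
    ext a b
    (revert a b; simp only [_root_.Fin.forall_fin_succ, _root_.Matrix.of_apply, _root_.Matrix.cons_val', _root_.Matrix.cons_val_fin_one, _root_.Matrix.neg_apply, Fin.isValue, _root_.Matrix.cons_val_zero, _root_.Matrix.cons_val_succ, _root_.forall_const, _root_.neg_zero, _root_.neg_neg, _root_.and_self, _root_.implies_true])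
  rw [smul_mul_assoc, smul_mul_smul_comm, inv_mul_cancel₀ hc0, one_smul, hneg]
  noncomm_ring

/-- every element of `SU_2(K)` is in the image -/
theorem muP_surj {P Q : Matrix (Fin 2) (Fin 2) K} (hPQ : P * Q = 1) (hQP : Q * P = 1) {c : K} (hc0 : c ≠ 0)
    (hP : P.map σ = c • (P * !![0, 1; -1, 0])) {X : Matrix (Fin 2) (Fin 2) K} (hX : X.det = 1) (hXu : hc σ X * X = 1) :
    ∃ U : Matrix.SpecialLinearGroup (Fin 2) (fxF σ), muP P Q hPQ hQP U = X := by
  rw [hc_iff hX] at hXu
  have hJ : (!![0, 1; -1, 0] : Matrix (Fin 2) (Fin 2) K) * !![0, -1; 1, 0] = 1 := by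
    ext a b
    (revert a b; simp only [Matrix.mul_apply, Fin.sum_univ_two, _root_.Fin.forall_fin_succ, _root_.Matrix.of_apply, _root_.Matrix.cons_val', _root_.Matrix.cons_val_fin_one, Fin.isValue, _root_.Matrix.cons_val_zero, _root_.Matrix.cons_val_one, _root_.MulZeroClass.mul_zero, _root_.mul_one, _root_.zero_add, _root_.Matrix.cons_val_succ, _root_.mul_neg, _root_.add_zero, _root_.IsEmpty.forall_iff, _root_.and_true, _root_.Matrix.one_apply_eq, _root_.neg_zero, Nat.reduceAdd, _root_.Fin.succ_zero_eq_one, _root_.ne_eq, _root_.zero_ne_one, _root_.not_false_eq_true, _root_.Matrix.one_apply_ne, _root_.and_self, _root_.Fin.succ_ne_zero, _root_.neg_neg, _root_.true_and])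
  have hJ' : (!![0, -1; 1, 0] : Matrix (Fin 2) (Fin 2) K) * !![0, 1; -1, 0] = 1 := mul_eq_one_comm.1 hJ
  have hQ : Q.map σ = c⁻¹ • (!![0, -1; 1, 0] * Q) := by
    have h1 : P.map σ * Q.map σ = 1 := by
      rw [← Matrix.map_mul, hPQ, Matrix.map_one _ (map_zero _) (map_one _)]
    have h2 : P.map σ * (c⁻¹ • (!![0, -1; 1, 0] * Q)) = 1 := by
      rw [hP, smul_mul_smul_comm, mul_inv_cancel₀ hc0, one_smul]
      calc P * !![0, 1; -1, 0] * (!![0, -1; 1, 0] * Q) = P * (!![0, 1; -1, 0] * !![0, -1; 1, 0]) * Q := by noncomm_ring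
        _ = 1 := by rw [hJ, mul_one, hPQ]
    have h3 : Q.map σ * P.map σ = 1 := mul_eq_one_comm.1 h1
    calc Q.map σ = Q.map σ * (P.map σ * (c⁻¹ • (!![0, -1; 1, 0] * Q))) := by rw [h2, mul_one]
      _ = _ := by rw [← mul_assoc, h3, one_mul]
  have hneg : (!![0, 1; -1, 0] : Matrix (Fin 2) (Fin 2) K) = -!![0, -1; 1, 0] := by
    ext a b
    (revert a b; simp only [_root_.Fin.forall_fin_succ, _root_.Matrix.of_apply, _root_.Matrix.cons_val', _root_.Matrix.cons_val_fin_one, _root_.Matrix.neg_apply, Fin.isValue, _root_.Matrix.cons_val_zero, _root_.Matrix.cons_val_succ, _root_.forall_const, _root_.neg_zero, _root_.neg_neg, _root_.and_self, _root_.implies_true])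
  have hJJ : (!![0, -1; 1, 0] : Matrix (Fin 2) (Fin 2) K) * !![0, -1; 1, 0] = -1 := by
    rw [hneg, neg_mul] at hJ
    rw [← hJ, neg_neg]
  have hfix : (P * X * Q).map σ = P * X * Q := by
    rw [Matrix.map_mul, Matrix.map_mul, hXu, hP, hQ, smul_mul_assoc, smul_mul_smul_comm, mul_inv_cancel₀ hc0, one_smul, hneg]
    calc P * -!![0, -1; 1, 0] * (-!![0, -1; 1, 0] * X * !![0, -1; 1, 0]) * (!![0, -1; 1, 0] * Q)
        = P * (!![0, -1; 1, 0] * !![0, -1; 1, 0]) * X * (!![0, -1; 1, 0] * !![0, -1; 1, 0]) * Q := by noncomm_ring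
      _ = _ := by rw [hJJ]; noncomm_ring
  have hfx : ∀ a b, (P * X * Q) a b ∈ fxF σ := fun a b => congrFun (congrFun hfix a) b
  let U0 : Matrix (Fin 2) (Fin 2) (fxF σ) := Matrix.of fun a b => ⟨(P * X * Q) a b, hfx a b⟩
  have hU0 : U0.map (fxF σ).subtype = P * X * Q := by
    ext a b
    rfl
  have hdet : U0.det = 1 := by
    have h2 := RingHom.map_det (fxF σ).subtype U0
    have h3 : (fxF σ).subtype.mapMatrix U0 = P * X * Q := hU0
    rw [h3, Matrix.det_mul, Matrix.det_mul, hX, mul_one] at h2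
    have h4 : P.det * Q.det = 1 := by rw [← Matrix.det_mul, hPQ, Matrix.det_one]
    rw [h4] at h2
    exact (fxF σ).subtype.injective (h2.trans (map_one _).symm)
  refine ⟨⟨U0, hdet⟩, ?_⟩
  change Q * U0.map (fxF σ).subtype * P = X
  rw [hU0]
  calc Q * (P * X * Q) * P = (Q * P) * X * (Q * P) := by noncomm_ring
    _ = X := by rw [hQP, one_mul, mul_one]

theorem muP_tr {P Q : Matrix (Fin 2) (Fin 2) K} (hPQ : P * Q = 1) (hQP : Q * P = 1)
    (U : Matrix.SpecialLinearGroup (Fin 2) (fxF σ)) :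
    (muP P Q hPQ hQP U).trace = ((Cfsg.Agent.H402.PSL2Cls.tr U : fxF σ) : K) := by
  change (Q * (U : Matrix (Fin 2) (Fin 2) (fxF σ)).map (fxF σ).subtype * P).trace = _
  rw [Matrix.trace_mul_comm, ← mul_assoc, hPQ, one_mul, Matrix.trace_fin_two]
  rfl

end F

variable {G : Type*} [Group G] {K : Type u} [Field K] {V : Type v} [AddCommGroup V] [Module K V]
variable {Gh : Subgroup (V ≃ₗ[K] V)} {π : ↥Gh →* G} {N0 A E : Subgroup G} {z s x r : G}
  {ψ : ↥A →* Equiv.Perm (Fin 6)} {Nh Eh : Subgroup (V ≃ₗ[K] V)} {zh sh xh rh : V ≃ₗ[K] V}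
variable {σ : K ≃+* K} {ad : Module.End K V → Module.End K V}

section R

variable {n : ℕ} {φ : Matrix (Fin n) (Fin n) K →ₗ[K] Module.End K V}

theorem lamL_apply (hm : ∀ X Y, φ (X * Y) = φ X * φ Y) (X : Matrix (Fin n) (Fin n) K) : lamL hm X = 1 + φ (X - 1) := rfl

theorem lamL_inj (hm : ∀ X Y, φ (X * Y) = φ X * φ Y) (hinj : Function.Injective φ) : Function.Injective (lamL hm) := by
  intro X Y h
  rw [lamL_apply, lamL_apply] at h
  exact sub_left_injective (hinj (add_left_cancel h))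

/-- the polynomial relation -/
theorem rel_phi (hm : ∀ X Y, φ (X * Y) = φ X * φ Y) (t : K) (M : Matrix (Fin n) (Fin n) K) :
    (lamL hm M - 1) * (lamL hm M * lamL hm M - t • lamL hm M + 1) = φ ((M - 1) * (M * M - t • M + 1)) := by
  rw [lamL_apply]
  have h8 : (M - 1) * (M * M - t • M + 1) = (M - 1) + (M - 1) + ((M - 1) * (M - 1) + (M - 1) * (M - 1))
      + (M - 1) * ((M - 1) * (M - 1)) - t • (M - 1) - t • ((M - 1) * (M - 1)) := by
    simp only [mul_sub, sub_mul, mul_add, add_mul, mul_one, one_mul, Matrix.mul_smul, smul_sub, Matrix.smul_mul]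
    abel
  rw [h8]
  simp only [map_add, map_sub, hm, map_smul]
  simp only [mul_sub, sub_mul, mul_add, add_mul, mul_one, one_mul, smul_add, mul_smul_comm, smul_sub]
  abel

end R

/-- **The unitary component of degree 2 is impossible.** -/
theorem uni_two [Finite G] [Finite K] (h2 : (2 : K) ≠ 0)
    (Kt : Kit N0 A E z s x r ψ) (hL : Lin Gh π) (L : LKit Gh π N0 A E z s x r Nh Eh zh sh xh rh)
    (hS : _root_.Cfsg.Agent.H601.C3.Star σ ad)
    (hGh : ∀ g : V ≃ₗ[K] V, g ∈ Gh ↔ (cl g * ad (cl g) = 1 ∧ LinearMap.det (cl g) = 1))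
    {q : ℕ} (hq : Nat.card K = q ^ 2) (hσ : ∀ c, σ c = c ^ q)
    {n : ℕ} (hn : n = 2) {φ : Matrix (Fin n) (Fin n) K →ₗ[K] Module.End K V}
    (hm : ∀ X Y, φ (X * Y) = φ X * φ Y) (hinj : Function.Injective φ)
    (hcomm : ∀ X, ∀ g ∈ Nh, φ X * cl g = cl g * φ X) (hstar : ∀ X, ad (φ X) = φ (hc σ X))
    (hE : ∀ e ∈ Eh, ∃ X : Matrix.SpecialLinearGroup (Fin n) K,
      hc σ (X : Matrix (Fin n) (Fin n) K) * X = 1 ∧ cl e = 1 + φ ((X : Matrix (Fin n) (Fin n) K) - 1)) : False := by
  classical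
  subst hn
  have hft := Fintype.ofFinite K
  obtain ⟨P, Q, c, hPQ, hQP, hc0, hP⟩ := exists_P h2 hq hσ
  have hD2 : (2 : fxF σ) ≠ 0 := by
    intro h
    apply h2
    have h4 := congrArg (fxF σ).subtype h
    rw [map_ofNat, map_zero] at h4
    exact h4
  have hDfin : Finite (fxF σ) := inferInstance
  have hftD := Fintype.ofFinite (fxF σ)
  have hodd : Odd (Nat.card (fxF σ)) := by
    rw [Nat.card_eq_fintype_card]
    have h3 : ringChar (fxF σ) ≠ 2 := by
      intro h
      have h4 : ((2 : ℕ) : fxF σ) = 0 := by rw [← h]; exact ringChar.Nat.cast_ringChar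
      exact hD2 (by exact_mod_cast h4)
    rw [Nat.odd_iff]
    exact FiniteField.odd_card_of_char_ne_two h3
  let θ : (Module.End K V)ˣ →* (V ≃ₗ[K] V) := (LinearMap.GeneralLinearGroup.generalLinearEquiv K V).toMonoidHom
  have hθ : ∀ w : (Module.End K V)ˣ, cl (θ w) = (w : Module.End K V) := fun w => LinearMap.ext fun v => rfl
  let μ : Matrix.SpecialLinearGroup (Fin 2) (fxF σ) →* Matrix (Fin 2) (Fin 2) K := muP P Q hPQ hQP
  let Λ : Matrix.SpecialLinearGroup (Fin 2) (fxF σ) →* (V ≃ₗ[K] V) := θ.comp ((lamL hm).comp μ).toHomUnits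
  have hΛ : ∀ U, cl (Λ U) = lamL hm (μ U) := fun U => hθ _
  have hμi : Function.Injective μ := by
    intro U W h
    have h3 : (U : Matrix (Fin 2) (Fin 2) (fxF σ)).map (fxF σ).subtype = (W : Matrix (Fin 2) (Fin 2) (fxF σ)).map (fxF σ).subtype := by
      have h4 : Q * (U : Matrix (Fin 2) (Fin 2) (fxF σ)).map (fxF σ).subtype * P =
        Q * (W : Matrix (Fin 2) (Fin 2) (fxF σ)).map (fxF σ).subtype * P := h
      calc (U : Matrix (Fin 2) (Fin 2) (fxF σ)).map (fxF σ).subtype
          = (P * Q) * (U : Matrix (Fin 2) (Fin 2) (fxF σ)).map (fxF σ).subtype * (P * Q) := by rw [hPQ, one_mul, mul_one]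
        _ = P * (Q * (U : Matrix (Fin 2) (Fin 2) (fxF σ)).map (fxF σ).subtype * P) * Q := by noncomm_ring
        _ = (P * Q) * (W : Matrix (Fin 2) (Fin 2) (fxF σ)).map (fxF σ).subtype * (P * Q) := by rw [h4]; noncomm_ring
        _ = _ := by rw [hPQ, one_mul, mul_one]
    refine Subtype.ext ?_
    ext a b
    exact congrFun (congrFun h3 a) b
  have hΛN : ∀ U, ∀ g ∈ Nh, Λ U * g = g * Λ U := by
    intro U g hg
    refine LinearEquiv.toLinearMap_injective ?_
    change cl (Λ U) * cl g = cl g * cl (Λ U)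
    rw [hΛ, lamL_apply, add_mul, mul_add, one_mul, mul_one, hcomm _ g hg]
  have hΛu : ∀ U, cl (Λ U) * ad (cl (Λ U)) = 1 := by
    intro U
    have h3 : ad (cl (Λ U)) = lamL hm (hc σ (μ U)) := by
      rw [hΛ, lamL_apply, lamL_apply, hS.add, Star.one hS, hstar]
      congr 2
      unfold hc
      rw [Matrix.map_sub _ (map_sub σ), Matrix.map_one _ (map_zero σ) (map_one σ), Matrix.transpose_sub, Matrix.transpose_one]
    rw [h3, hΛ, ← map_mul, mul_eq_one_comm.1 (muP_hc hPQ hQP hc0 hP U), map_one]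
  have hΛG : _root_.commutator (Matrix.SpecialLinearGroup (Fin 2) (fxF σ)) = ⊤ → ∀ U, Λ U ∈ Gh := by
    intro hperf U
    rw [hGh]
    refine ⟨hΛu _, ?_⟩
    let f : Matrix.SpecialLinearGroup (Fin 2) (fxF σ) →* K :=
      (LinearMap.det : Module.End K V →* K).comp ((lamL hm).comp μ)
    have h3 : f.toHomUnits U = 1 := by
      have h4 : _root_.commutator (Matrix.SpecialLinearGroup (Fin 2) (fxF σ)) ≤ f.toHomUnits.ker :=
        Abelianization.commutator_subset_ker f.toHomUnits
      rw [hperf] at h4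
      exact h4 (mem_top U)
    have h5 := congrArg Units.val h3
    rw [hΛ]
    exact h5
  have hex : ∀ e ∈ Eh, ∃ U, Λ U = e := by
    intro e he
    obtain ⟨X, hX, heX⟩ := hE e he
    obtain ⟨U, hU⟩ := muP_surj hPQ hQP hc0 hP X.2 hX
    refine ⟨U, LinearEquiv.toLinearMap_injective ?_⟩
    change cl (Λ U) = cl e
    rw [hΛ, show μ U = (X : Matrix (Fin 2) (Fin 2) K) from hU, heX]
    rfl
  obtain ⟨-, hD9, hmem⟩ := two_nine' Kt hL L hodd Λ hΛN hex hΛG
  -- characteristic three
  have h3D : (3 : fxF σ) = 0 := by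
    have h1 : ((9 : ℕ) : fxF σ) = 0 := by
      rw [← hD9, Nat.card_eq_fintype_card]
      exact FiniteField.cast_card_eq_zero (fxF σ)
    have h2 : (3 : fxF σ) * 3 = 0 := by
      rw [← h1]
      norm_num
    exact mul_self_eq_zero.1 h2
  have hΛi : ∀ U, Λ U = 1 → U = 1 := by
    intro U h
    have h4 : lamL hm (μ U) = lamL hm (μ 1) := by
      rw [map_one, map_one, ← hΛ, h]
      rfl
    exact hμi (lamL_inj hm hinj h4)
  obtain ⟨X, hX'⟩ := hex xh L.xE
  have hyE : rh * xh * rh⁻¹ ∈ Eh := (mem_normalizer_iff.1 L.rE xh).1 L.xE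
  obtain ⟨Y, hY'⟩ := hex _ hyE
  obtain ⟨k, hk⟩ := L.x_five
  have hXk : X ^ 5 ^ k = 1 := hΛi _ (by rw [map_pow, hX', hk])
  have hYk : Y ^ 5 ^ k = 1 := hΛi _ (by
    rw [map_pow, hY', conj_pow, hk, mul_one, mul_inv_cancel])
  have hx1 : xh ≠ 1 := by
    rintro rfl
    have h4 := L.pi_x (L.Eh_le L.xE)
    have h5 : (⟨1, L.Eh_le L.xE⟩ : ↥Gh) = 1 := rfl
    rw [h5, map_one] at h4
    have h6 := Kt.psi_x (Kt.E_A Kt.xE)
    have h7 : (⟨x, Kt.E_A Kt.xE⟩ : ↥A) = 1 := Subtype.ext h4.symm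
    rw [h7, map_one] at h6
    exact c5_ne h6.symm
  have hX1 : X ≠ 1 := by
    rintro rfl
    exact hx1 (by rw [← hX', map_one])
  have hY1 : Y ≠ 1 := by
    rintro rfl
    rw [map_one] at hY'
    apply hx1
    have h4 : rh * xh = rh := by
      have := congrArg (fun t => t * rh) hY'
      simpa only [_root_.mul_eq_left, _root_.inv_mul_cancel_right, _root_.one_mul] using this.symm
    exact mul_eq_left.1 h4
  have hcop : Nat.Coprime 6 (5 ^ k) := Nat.Coprime.pow_right k (by norm_num)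
  have h6 : ∀ U : Matrix.SpecialLinearGroup (Fin 2) (fxF σ), U ≠ 1 → U ^ 5 ^ k = 1 → Cfsg.Agent.H402.PSL2Cls.tr U ^ 2 ≠ 4 := by
    intro U hU hUk h4
    exact hU ((pow_eq_one_iff_of_coprime hcop).1 ⟨pow_six h3D U h4, hUk⟩)
  set t := Cfsg.Agent.H402.PSL2Cls.tr X with ht
  -- transport of the algebra of `M_2(D)` into `M_2(K)`
  have hμ2 : ∀ U : Matrix.SpecialLinearGroup (Fin 2) (fxF σ),
      μ U * μ U = ((Cfsg.Agent.H402.PSL2Cls.tr U : fxF σ) : K) • μ U - 1 := by
    intro U
    have hd := muP_det hPQ hQP U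
    have h7 := Cfsg.Agent.ClassicalGeometry.PSL2Basic.sl2_mul_self (⟨μ U, hd⟩ : Matrix.SpecialLinearGroup (Fin 2) K)
    rw [← muP_tr hPQ hQP U]
    exact h7
  have hzX : (cl xh - 1) * (cl xh * cl xh - ((t : fxF σ) : K) • cl xh + 1) = 0 := by
    have h7 := rel_phi hm ((t : fxF σ) : K) (μ X)
    have h8 : μ X * μ X - ((t : fxF σ) : K) • μ X + 1 = 0 := by
      rw [hμ2 X, ← ht]
      abel
    rw [h8, mul_zero, map_zero, ← hΛ, hX'] at h7
    exact h7
  have hzY : (cl (rh * xh * rh⁻¹) - 1) * (cl (rh * xh * rh⁻¹) * cl (rh * xh * rh⁻¹) - ((t : fxF σ) : K) • cl (rh * xh * rh⁻¹) + 1) = 0 := by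
    have h7 : cl (rh * xh * rh⁻¹) = cl rh * cl xh * cl rh⁻¹ := rfl
    have h8 := cl_mul_inv rh
    have h9 := cl_inv_mul rh
    rw [h7]
    set R : Module.End K V := cl rh
    set R' : Module.End K V := cl rh⁻¹
    set Z : Module.End K V := cl xh
    set t0 := ((t : fxF σ) : K)
    have h10 : (R * Z * R' - 1) * (R * Z * R' * (R * Z * R') - t0 • (R * Z * R') + 1) =
        R * ((Z - 1) * (Z * Z - t0 • Z + 1)) * R' := by
      have e1 : R * Z * R' - 1 = R * (Z - 1) * R' := by
        rw [mul_sub, sub_mul, mul_one, h8]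
      have e2 : R * Z * R' * (R * Z * R') = R * (Z * Z) * R' := by
        calc R * Z * R' * (R * Z * R') = R * Z * (R' * R) * Z * R' := by simp only [mul_assoc]
          _ = _ := by rw [h9, mul_one]; simp only [mul_assoc]
      have e3 : R * Z * R' * (R * Z * R') - t0 • (R * Z * R') + 1 = R * (Z * Z - t0 • Z + 1) * R' := by
        rw [e2, mul_add, mul_sub, add_mul, sub_mul, mul_one, h8, mul_smul_comm, smul_mul_assoc]
      rw [e1, e3]
      calc R * (Z - 1) * R' * (R * (Z * Z - t0 • Z + 1) * R') = R * (Z - 1) * (R' * R) * (Z * Z - t0 • Z + 1) * R' := by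
            simp only [mul_assoc]
        _ = _ := by rw [h9, mul_one]; simp only [mul_assoc]
    rw [h10, hzX, mul_zero, zero_mul]
  rw [← hY', hΛ, rel_phi hm] at hzY
  have hz2 := hinj (hzY.trans (map_zero φ).symm)
  -- `μ Y - 1` is invertible
  have hdet : IsUnit (μ Y - 1) := by
    rw [Matrix.isUnit_iff_isUnit_det, isUnit_iff_ne_zero]
    intro h0
    have h7 : ((Cfsg.Agent.H402.PSL2Cls.tr Y : fxF σ) : K) = 2 := by
      have hd := muP_det hPQ hQP Y
      have htr := muP_tr hPQ hQP Y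
      rw [← htr]
      change (μ Y).trace = 2
      change (μ Y).det = 1 at hd
      rw [Matrix.det_fin_two] at h0 hd
      rw [Matrix.trace_fin_two]
      simp only [Matrix.sub_apply, Matrix.one_apply, if_true, one_ne_zero, zero_ne_one, if_false, sub_zero] at h0
      linear_combination hd - h0
    have h8 : Cfsg.Agent.H402.PSL2Cls.tr Y = 2 := (fxF σ).subtype.injective (by
      rw [map_ofNat]
      exact h7)
    exact h6 Y hY1 hYk (by rw [h8]; norm_num)
  have hPY : μ Y * μ Y - ((t : fxF σ) : K) • μ Y + 1 = 0 := (hdet.mul_right_eq_zero).1 hz2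
  have htt : Cfsg.Agent.H402.PSL2Cls.tr Y = t := by
    rw [hμ2 Y] at hPY
    have h7 : (((Cfsg.Agent.H402.PSL2Cls.tr Y : fxF σ) : K) - ((t : fxF σ) : K)) • μ Y = 0 := by
      rw [sub_smul, ← hPY]
      abel
    rcases smul_eq_zero.1 h7 with h8 | h8
    · exact Subtype.ext (sub_eq_zero.1 h8)
    · exfalso
      have h9 : (μ Y).det = 1 := muP_det hPQ hQP Y
      rw [h8, Matrix.det_zero] at h9
      exact zero_ne_one h9
  obtain ⟨g, hg⟩ := Cfsg.Agent.H402.PSL2Cls.exists_conj_of_tr_eq (M := X) (N := Y) (by rw [htt, ht]) (h6 X hX1 hXk)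
  have hgm : Λ g ∈ Gh := hmem g
  have hcN := comm_pi hL L hgm fun n hn => hΛN g n hn
  refine Kt.T7 (g := π ⟨Λ g, hgm⟩) (Kt.comm_mem hcN) (hcN s Kt.sN) ?_
  have h7 : π ⟨xh, L.Eh_le L.xE⟩ = x := L.pi_x _
  have h8 : π ⟨rh, L.rG⟩ = r := L.pi_r _
  have h9 : π ⟨Λ g, hgm⟩ * π ⟨xh, L.Eh_le L.xE⟩ * (π ⟨Λ g, hgm⟩)⁻¹ =
      π ⟨rh, L.rG⟩ * π ⟨xh, L.Eh_le L.xE⟩ * (π ⟨rh, L.rG⟩)⁻¹ := by
    rw [← map_mul, ← map_inv, ← map_mul, ← map_mul, ← map_inv, ← map_mul]
    refine congrArg π (Subtype.ext ?_)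
    change Λ g * xh * (Λ g)⁻¹ = rh * xh * rh⁻¹
    rw [← hY', ← hX', hg, map_mul, map_mul, map_inv]
  rwa [h7, h8] at h9

end Cfsg.Agent.H375.C3
end

-- part: H375/C3/PSUFalse
section
/-!
# S1920, PSU: the contradiction from a decomposition, modulo the unitary components of degree `≥ 3` (helper375)
-/

set_option autoImplicit false

open Subgroup Module

namespace Cfsg.Agent.H375.C3

open Cfsg.Agent.H415.C3
open Cfsg.Agent.H601.C3 (Star hc Dec)

universe u v

variable {G : Type*} [Group G] {K : Type u} [Field K] {V : Type v} [AddCommGroup V] [Module K V]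
variable {Gh : Subgroup (V ≃ₗ[K] V)} {π : ↥Gh →* G} {N0 A E : Subgroup G} {z s x r : G}
  {ψ : ↥A →* Equiv.Perm (Fin 6)} {Nh Eh : Subgroup (V ≃ₗ[K] V)} {zh sh xh rh : V ≃ₗ[K] V}
variable {σ : K ≃+* K} {ad : Module.End K V → Module.End K V}

/-- **The contradiction for `SU(V)`**, `hbig` = the unitary components of degree `≥ 3`. -/
theorem psu_false_of [Finite G] [Finite K] {ι : Type} [Fintype ι] {m : ι → ℕ} {u : ι → Bool}
    {φ : ∀ i, Matrix (Fin (m i)) (Fin (m i)) K →ₗ[K] Module.End K V} (h2 : (2 : K) ≠ 0)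
    (Kt : Kit N0 A E z s x r ψ) (hL : Lin Gh π) (L : LKit Gh π N0 A E z s x r Nh Eh zh sh xh rh)
    (hS : _root_.Cfsg.Agent.H601.C3.Star σ ad) (hD : Dec σ ad Nh u φ)
    (hGh : ∀ g : V ≃ₗ[K] V, g ∈ Gh ↔ (cl g * ad (cl g) = 1 ∧ LinearMap.det (cl g) = 1))
    {q : ℕ} (hq : Nat.card K = q ^ 2) (hσ : ∀ c, σ c = c ^ q) (hdet : ∀ T, LinearMap.det (ad T) = σ (LinearMap.det T))
    (hbig : ∀ i : ι, 3 ≤ m i → u i = true → (∀ e ∈ Eh, ∃ X : Matrix.SpecialLinearGroup (Fin (m i)) K,
      hc σ (X : Matrix (Fin (m i)) (Fin (m i)) K) * X = 1 ∧ cl e = 1 + φ i ((X : Matrix (Fin (m i)) (Fin (m i)) K) - 1)) →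
      False) : False := by
  classical
  obtain ⟨i, hF1, hFE, hE⟩ := exists_dec_comp h2 Kt hL L hS hD hGh
  by_cases hu : u i = true
  · have hE' : ∀ e ∈ Eh, ∃ X : Matrix.SpecialLinearGroup (Fin (m i)) K,
        hc σ (X : Matrix (Fin (m i)) (Fin (m i)) K) * X = 1 ∧
          cl e = 1 + φ i ((X : Matrix (Fin (m i)) (Fin (m i)) K) - 1) := by
      intro e he
      obtain ⟨X, h | h⟩ := hE e he
      · exact ⟨X, h.2⟩
      · rw [hu] at h
        exact absurd h.1 (by decide)
    by_cases h3 : 3 ≤ m i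
    · exact hbig i h3 hu hE'
    · by_cases hm2 : m i = 2
      · exact uni_two h2 Kt hL L hS hGh hq hσ hm2 (hD.mul i) (hD.inj i) (hD.comm i) (hD.star i hu) hE'
      · -- `m i = 1`
        have hpos := hD.pos i
        have hm1 : m i = 1 := by omega
        obtain ⟨e, he, hne⟩ := exists_nsc Kt hL L
        apply hne
        obtain ⟨X, -, hX⟩ := hE' e he
        have hsub : ∀ (n : ℕ) (_ : n = 1) (X : Matrix.SpecialLinearGroup (Fin n) K), (X : Matrix (Fin n) (Fin n) K) = 1 := by
          intro n hn X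
          subst hn
          have h4 := X.2
          rw [Matrix.det_fin_one] at h4
          ext a b
          fin_cases a
          fin_cases b
          exact h4
        rw [isSc_iff]
        refine ⟨1, ?_⟩
        rw [one_smul]
        change cl e = 1
        rw [hX, hsub _ hm1 X, sub_self, map_zero, add_zero]
  · have hu' : u i = false := by simpa using hu
    refine pair_false h2 Kt hL L hS hD hGh hq hσ hdet i hF1 hFE hu' ?_
    intro e he
    obtain ⟨X, h | h⟩ := hE e he
    · rw [hu'] at h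
      exact absurd h.1 (by decide)
    · exact ⟨X, h.2⟩

end Cfsg.Agent.H375.C3
end

-- part: H601/C3/Std
section
/-!
# Involutions of the second kind on `M_m(K)`, `K` finite, are standard (helper601, S1920 PSU)
-/

set_option autoImplicit false

open Matrix

namespace Cfsg.Agent.H601.C3

variable {K : Type*} [Field K] {σ : K ≃+* K} {m : ℕ}

theorem hc_apply (X : Matrix (Fin m) (Fin m) K) (i j : Fin m) : hc σ X i j = σ (X j i) := rfl

theorem hc_mul (X Y : Matrix (Fin m) (Fin m) K) : hc σ (X * Y) = hc σ Y * hc σ X := by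
  have h : (X * Y).map σ = X.map σ * Y.map σ := Matrix.map_mul (f := (σ : K →+* K))
  rw [hc, h, transpose_mul]
  rfl

theorem hc_one : hc σ (1 : Matrix (Fin m) (Fin m) K) = 1 := by
  ext i j
  rw [hc_apply, one_apply, one_apply]
  split_ifs with h1 h2 h2
  · exact map_one σ
  · exact absurd h1.symm h2
  · exact absurd h2.symm h1
  · exact map_zero σ

theorem hc_smul (c : K) (X : Matrix (Fin m) (Fin m) K) : hc σ (c • X) = σ c • hc σ X := by
  ext i j
  rw [hc_apply, Matrix.smul_apply, Matrix.smul_apply, hc_apply, smul_eq_mul, smul_eq_mul, map_mul]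

theorem hc_add (X Y : Matrix (Fin m) (Fin m) K) : hc σ (X + Y) = hc σ X + hc σ Y := by
  ext i j
  rw [hc_apply, Matrix.add_apply, Matrix.add_apply, hc_apply, hc_apply, map_add]

theorem hc_hc (h2 : ∀ a, σ (σ a) = a) (X : Matrix (Fin m) (Fin m) K) : hc σ (hc σ X) = X := by
  ext i j
  rw [hc_apply, hc_apply, h2]

/-- Hilbert 90 -/
theorem hilbert {c : K} (h1 : ∃ a, σ a ≠ a) (h2 : ∀ a, σ (σ a) = a) (hc : c * σ c = 1) :
    ∃ d : K, d ≠ 0 ∧ c * σ d = d := by
  by_contra hn
  push Not at hn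
  have key : ∀ x : K, x + c * σ x = 0 := by
    intro x
    by_contra hx
    refine hn _ hx ?_
    rw [map_add, map_mul, h2, mul_add, ← mul_assoc, hc, one_mul, add_comm]
  obtain ⟨a, ha⟩ := h1
  have e1 := key 1
  rw [map_one, mul_one] at e1
  have e2 : c = -1 := (neg_eq_of_add_eq_zero_right e1).symm
  have e3 := key a
  rw [e2, neg_one_mul, ← sub_eq_add_neg, sub_eq_zero] at e3
  exact ha e3.symm

/-- the form of a hermitian matrix -/
noncomputable def hform (σ : K ≃+* K) (A : Matrix (Fin m) (Fin m) K) :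
    (Fin m → K) →ₛₗ[(σ : K →+* K)] (Fin m → K) →ₗ[K] K :=
  LinearMap.mk₂'ₛₗ (σ : K →+* K) (RingHom.id K) (fun x y => dotProduct (fun i => σ (x i)) (A.mulVec y))
    (fun x x' y => by
      rw [← add_dotProduct]
      congr 1
      funext i
      exact map_add σ _ _)
    (fun c x y => by
      rw [← smul_dotProduct]
      congr 1
      funext i
      exact map_mul σ _ _)
    (fun x y y' => by rw [mulVec_add, dotProduct_add])
    (fun c x y => by rw [mulVec_smul, dotProduct_smul]; rfl)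

theorem hform_apply (A : Matrix (Fin m) (Fin m) K) (x y : Fin m → K) :
    hform σ A x y = dotProduct (fun i => σ (x i)) (A.mulVec y) := rfl

theorem hform_eq (A : Matrix (Fin m) (Fin m) K) (x y : Fin m → K) :
    hform σ A x y = ∑ i, ∑ j, σ (x i) * A i j * y j := by
  rw [hform_apply, dotProduct]
  refine Finset.sum_congr rfl fun i _ => ?_
  rw [mulVec, dotProduct, Finset.mul_sum]
  exact Finset.sum_congr rfl fun j _ => (mul_assoc _ _ _).symm

/-- `P† P` -/
theorem exists_sqrt [Finite K] (h1 : ∃ a, σ a ≠ a) (h2 : ∀ a, σ (σ a) = a) {A B : Matrix (Fin m) (Fin m) K}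
    (hA : hc σ A = A) (hAB : B * A = 1) : ∃ P Q : Matrix (Fin m) (Fin m) K, P * Q = 1 ∧ Q * P = 1 ∧
      A = hc σ P * P := by
  have hsym : ∀ x y, σ (hform σ A x y) = hform σ A y x := by
    intro x y
    rw [hform_eq, hform_eq, map_sum, Finset.sum_comm]
    refine Finset.sum_congr rfl fun j _ => ?_
    rw [map_sum]
    refine Finset.sum_congr rfl fun i _ => ?_
    have h3 : A j i = σ (A i j) := by
      conv_lhs => rw [← hA]
      rfl
    rw [map_mul, map_mul, h2, h3, h2]
    ring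
  have hr : ∀ y, (∀ x, hform σ A x y = 0) → y = 0 := by
    intro y hy
    have h3 : A.mulVec y = 0 := by
      funext i
      have h4 := hy (Pi.single i 1)
      rw [hform_apply] at h4
      have h5 : (fun j => σ ((Pi.single i 1 : Fin m → K) j)) = Pi.single i 1 := by
        funext j
        by_cases hj : j = i
        · subst hj
          rw [Pi.single_eq_same, map_one]
        · rw [Pi.single_eq_of_ne hj, map_zero]
      rw [h5, single_one_dotProduct] at h4
      exact h4
    have h6 : (B * A).mulVec y = 0 := by rw [← mulVec_mulVec, h3, mulVec_zero]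
    rwa [hAB, one_mulVec] at h6
  have hnd : (hform σ A).Nondegenerate := by
    constructor
    · intro x hx
      refine hr x fun y => ?_
      rw [← hsym, hx, map_zero]
    · exact fun y hy => hr y hy
  obtain ⟨b, hb⟩ := S0755.result (σ : K →+* K) (fun h => by
    obtain ⟨a, ha⟩ := h1
    exact ha (RingHom.congr_fun h a)) h2 (hform σ A) ⟨hsym⟩ hnd
  have hfin : Module.finrank K (Fin m → K) = m := by rw [Module.finrank_fintype_fun_eq_card, Fintype.card_fin]
  let b' := b.reindex (finCongr hfin)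
  have hb' : ∀ i j, hform σ A (b' i) (b' j) = if i = j then 1 else 0 := by
    intro i j
    rw [Module.Basis.reindex_apply, Module.Basis.reindex_apply, hb]
    exact if_congr (finCongr hfin).symm.injective.eq_iff rfl rfl
  let Q : Matrix (Fin m) (Fin m) K := Matrix.of fun i j => b' j i
  have hQ : hc σ Q * A * Q = 1 := by
    ext i j
    have h3 := hb' i j
    rw [hform_eq] at h3
    rw [one_apply, ← h3, mul_apply]
    rw [Finset.sum_comm]
    refine Finset.sum_congr rfl fun l _ => ?_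
    rw [mul_apply, Finset.sum_mul]
    rfl
  have hu : IsUnit Q := by
    refine (isUnit_iff_isUnit_det Q).2 (isUnit_iff_ne_zero.2 fun h0 => ?_)
    have h3 := congrArg det hQ
    rw [det_mul, h0, mul_zero, det_one] at h3
    exact zero_ne_one h3
  obtain ⟨P, hPQ, hQP⟩ : ∃ P, P * Q = 1 ∧ Q * P = 1 := ⟨_, hu.val_inv_mul, hu.mul_val_inv⟩
  refine ⟨P, Q, hPQ, hQP, ?_⟩
  have h4 : hc σ P * hc σ Q = 1 := by rw [← hc_mul, hQP, hc_one]
  calc A = (hc σ P * hc σ Q) * A * (Q * P) := by rw [h4, hQP, one_mul, mul_one]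
    _ = hc σ P * (hc σ Q * A * Q) * P := by simp only [mul_assoc]
    _ = hc σ P * P := by rw [hQ, mul_one]

/-- a matrix commuting with all matrices is a scalar -/
theorem scalar_of_central {c : Matrix (Fin m) (Fin m) K} (h : ∀ X, c * X = X * c) : ∃ a : K, c = a • 1 := by
  have h1 : c ∈ Set.range (Matrix.scalar (Fin m) : K →+* _) := by
    rw [Matrix.mem_range_scalar_iff_commute_single']
    intro i j
    exact (h _).symm
  obtain ⟨a, ha⟩ := h1
  exact ⟨a, by rw [← ha, smul_one_eq_diagonal]; rfl⟩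

/-- **involutions of the second kind are standard** -/
theorem std [Finite K] (h1 : ∃ a, σ a ≠ a) (h2 : ∀ a, σ (σ a) = a)
    (st : Matrix (Fin m) (Fin m) K → Matrix (Fin m) (Fin m) K)
    (hadd : ∀ X Y, st (X + Y) = st X + st Y) (hsm : ∀ (c : K) X, st (c • X) = σ c • st X)
    (hmul : ∀ X Y, st (X * Y) = st Y * st X) (hinv : ∀ X, st (st X) = X) :
    ∃ P Q : Matrix (Fin m) (Fin m) K, P * Q = 1 ∧ Q * P = 1 ∧ ∀ Y, st (Q * Y * P) = Q * hc σ Y * P := by
  rcases Nat.eq_zero_or_pos m with rfl | hm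
  · exact ⟨1, 1, Subsingleton.elim _ _, Subsingleton.elim _ _, fun _ => Subsingleton.elim _ _⟩
  have hne : NeZero m := ⟨hm.ne'⟩
  have hone : st 1 = 1 := by
    have h3 : st 1 * st (st 1) = st (st 1) := by rw [← hmul, mul_one]
    rw [hinv, mul_one] at h3
    exact h3
  -- the automorphism `X ↦ (st X)†`
  let f : Matrix (Fin m) (Fin m) K →ₐ[K] Matrix (Fin m) (Fin m) K :=
    { toFun := fun X => hc σ (st X)
      map_one' := by rw [hone, hc_one]
      map_mul' := fun X Y => by rw [hmul, hc_mul]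
      map_zero' := by
        have h3 := hadd 0 0
        rw [add_zero] at h3
        rw [left_eq_add.1 h3]
        have h4 := hc_smul (σ := σ) 0 (0 : Matrix (Fin m) (Fin m) K)
        rwa [map_zero, zero_smul, zero_smul] at h4
      map_add' := fun X Y => by rw [hadd, hc_add]
      commutes' := fun c => by
        rw [Algebra.algebraMap_eq_smul_one, hsm, hc_smul, h2, hone, hc_one] }
  have hf : ∀ X, f X = hc σ (st X) := fun X => rfl
  have hfb : Function.Bijective f := by
    refine Function.bijective_iff_has_inverse.2 ⟨fun X => st (hc σ X), fun X => ?_, fun X => ?_⟩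
    · change st (hc σ (hc σ (st X))) = X
      rw [hc_hc h2, hinv]
    · change hc σ (st (st (hc σ X))) = X
      rw [hinv, hc_hc h2]
  let g : Module.End K (Fin m → K) ≃ₐ[K] Module.End K (Fin m → K) :=
    (toLinAlgEquiv'.symm.trans (AlgEquiv.ofBijective f hfb)).trans toLinAlgEquiv'
  obtain ⟨T, hT⟩ := g.eq_linearEquivConjAlgEquiv
  obtain ⟨H, hH⟩ : ∃ H, H = LinearMap.toMatrix' (T : (Fin m → K) →ₗ[K] (Fin m → K)) := ⟨_, rfl⟩
  obtain ⟨H', hH'⟩ : ∃ H', H' = LinearMap.toMatrix' (T.symm : (Fin m → K) →ₗ[K] (Fin m → K)) := ⟨_, rfl⟩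
  have e1 : H * H' = 1 := by
    rw [hH, hH', ← LinearMap.toMatrix'_comp, LinearEquiv.comp_coe, LinearEquiv.symm_trans_self]
    exact LinearMap.toMatrix'_id
  have e2 : H' * H = 1 := by
    rw [hH, hH', ← LinearMap.toMatrix'_comp, LinearEquiv.comp_coe, LinearEquiv.self_trans_symm]
    exact LinearMap.toMatrix'_id
  have e3 : ∀ X, hc σ (st X) = H * X * H' := by
    intro X
    have h3 := AlgEquiv.congr_fun hT (toLin' X)
    have h4 : LinearMap.toMatrix' (g (toLin' X)) = hc σ (st X) := by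
      change LinearMap.toMatrix' (toLin' (f (LinearMap.toMatrix' (toLin' X)))) = _
      rw [LinearMap.toMatrix'_toLin', LinearMap.toMatrix'_toLin', hf]
    rw [← h4, h3, hH, hH', LinearEquiv.conjAlgEquiv_apply, LinearMap.toMatrix'_comp, LinearMap.toMatrix'_comp,
      LinearMap.toMatrix'_toLin', mul_assoc]
  -- `st X = A⁻¹ X† A`
  obtain ⟨A, hAd⟩ : ∃ A, A = hc σ H := ⟨_, rfl⟩
  obtain ⟨A', hAd'⟩ : ∃ A', A' = hc σ H' := ⟨_, rfl⟩
  have a1 : A' * A = 1 := by rw [hAd, hAd', ← hc_mul, e1, hc_one]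
  have a2 : A * A' = 1 := by rw [hAd, hAd', ← hc_mul, e2, hc_one]
  have e4 : ∀ X, st X = A' * hc σ X * A := by
    intro X
    rw [← hc_hc h2 (st X), e3, hc_mul, hc_mul, hAd, hAd', mul_assoc]
  -- `A† = c A`
  obtain ⟨c, hcA⟩ : ∃ c : K, A' * hc σ A = c • 1 := by
    refine scalar_of_central fun X => ?_
    have h3 := hinv X
    rw [e4 (st X), e4 X, hc_mul, hc_mul, hc_hc h2] at h3
    have h4 : hc σ A' * A * (A' * hc σ A) = 1 := by
      rw [mul_assoc, ← mul_assoc A, a2, one_mul, ← hc_mul]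
      have : A * A' = 1 := a2
      rw [this, hc_one]
    calc A' * hc σ A * X = A' * hc σ A * X * (hc σ A' * A * (A' * hc σ A)) := by rw [h4, mul_one]
      _ = A' * (hc σ A * (X * hc σ A')) * A * (A' * hc σ A) := by simp only [mul_assoc]
      _ = X * (A' * hc σ A) := by rw [h3]
  have e5 : hc σ A = c • A := by
    have h3 := congrArg (fun Y => A * Y) hcA
    simp only [← mul_assoc, a2, one_mul, mul_smul_comm, mul_one] at h3
    exact h3
  have hA0 : A ≠ 0 := by
    intro h0
    rw [h0, mul_zero] at a1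
    exact zero_ne_one a1
  have e6 : c * σ c = 1 := by
    have h3 : A = (σ c * c) • A := by
      conv_lhs => rw [← hc_hc h2 A, e5, hc_smul, e5, smul_smul]
    have h4 : (σ c * c - 1) • A = 0 := by rw [sub_smul, ← h3, one_smul, sub_self]
    rcases smul_eq_zero.1 h4 with h5 | h5
    · rw [mul_comm]
      exact sub_eq_zero.1 h5
    · exact absurd h5 hA0
  obtain ⟨d, hd0, hd⟩ := hilbert h1 h2 e6
  have e7 : hc σ (d • A) = d • A := by rw [hc_smul, e5, smul_smul, mul_comm, hd]
  obtain ⟨P, Q, hPQ, hQP, hP⟩ := exists_sqrt (A := d • A) (B := d⁻¹ • A') h1 h2 e7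
    (by rw [smul_mul_smul_comm, inv_mul_cancel₀ hd0, a1, one_smul])
  refine ⟨P, Q, hPQ, hQP, fun Y => ?_⟩
  have e8 : ∀ X, st X = (d⁻¹ • A') * hc σ X * (d • A) := by
    intro X
    rw [e4, smul_mul_assoc, smul_mul_assoc, mul_smul_comm, smul_smul, inv_mul_cancel₀ hd0, one_smul]
  have e9 : d⁻¹ • A' = Q * hc σ Q := by
    have h3 : (Q * hc σ Q) * (d • A) = 1 := by
      rw [hP]
      have : hc σ Q * hc σ P = 1 := by rw [← hc_mul, hPQ, hc_one]
      calc Q * hc σ Q * (hc σ P * P) = Q * (hc σ Q * hc σ P) * P := by simp only [mul_assoc]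
        _ = 1 := by rw [this, mul_one, hQP]
    have h4 : (d • A) * (d⁻¹ • A') = 1 := by
      rw [smul_mul_smul_comm, mul_inv_cancel₀ hd0, a2, one_smul]
    calc d⁻¹ • A' = (Q * hc σ Q) * (d • A) * (d⁻¹ • A') := by rw [h3, one_mul]
      _ = Q * hc σ Q := by rw [mul_assoc, h4, mul_one]
  rw [e8, e9, hP, hc_mul, hc_mul]
  have h5 : hc σ Q * hc σ P = 1 := by rw [← hc_mul, hPQ, hc_one]
  calc Q * hc σ Q * (hc σ P * (hc σ Y * hc σ Q)) * (hc σ P * P)
      = Q * (hc σ Q * hc σ P) * hc σ Y * (hc σ Q * hc σ P) * P := by simp only [mul_assoc]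
    _ = Q * hc σ Y * P := by rw [h5, mul_one, mul_one]

end Cfsg.Agent.H601.C3
end

private theorem dce_0a07590b10bf : _root_.True := by
  try have : _root_.True := by simp only [_root_.Cfsg.Agent.H601.C3.hc.eq_1]
  exact _root_.True.intro
end

-- part: H601/C3/RowPSU
section
prune_inst 0x300031040c0002000001800040001c029a000000000b04000481080005812c0000008e20b00001054080000440340008110000000200000000000000011900800000000000000000020008000080000000000000010000000000000000000000000000000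
set_option linter.all false
open scoped Cfsg.Agent.FastGrp

-- part: H330/C3/CompU
section
/-!
# S1920, case B, `PSU_n(q)`: the component of `Eh` (helper330)

From helper601's decomposition `Dec` of the commutant of `Nh`: `exists_comp` : there is a unitary component `CompU` or a pair
`CompP` such that `Eh` acts trivially on the orthogonal complement.
-/

set_option autoImplicit false

open Subgroup Module

namespace Cfsg.Agent.H330.C3

open Cfsg.Agent.H415.C3 Cfsg.Agent.H601.C3 Cfsg.Agent.H375.C3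

variable {K : Type*} [Field K] {V : Type*} [AddCommGroup V] [Module K V]

section StarLemmas

variable {σ : K ≃+* K} {ad : Module.End K V → Module.End K V}

theorem ad_one (S : _root_.Cfsg.Agent.H601.C3.Star σ ad) : ad 1 = 1 := by
  have h := S.mul (ad 1) 1
  rw [mul_one, S.inv, mul_one] at h
  exact h.symm

end StarLemmas

/-- a unitary component -/
structure CompU (σ : K ≃+* K) (ad : Module.End K V → Module.End K V) (N E : Subgroup (V ≃ₗ[K] V)) (m : ℕ)
    (j : Matrix (Fin m) (Fin m) K →ₗ[K] Module.End K V) : Prop where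
  mul : ∀ X Y, j (X * Y) = j X * j Y
  inj : Function.Injective j
  comm : ∀ X, ∀ g ∈ N, j X * (g : V →ₗ[K] V) = (g : V →ₗ[K] V) * j X
  ne : j 1 ≠ 1
  star : ∀ X, ad (j X) = j (hc σ X)
  E : ∀ e ∈ E, ∃ U : Matrix.SpecialLinearGroup (Fin m) K,
    ((e : V ≃ₗ[K] V) : V →ₗ[K] V) = 1 + j ((U : Matrix (Fin m) (Fin m) K) - 1)
  det : ∃ d : ℕ, ∀ X, LinearMap.det (1 + j (X - 1)) = X.det ^ d

/-- a pair of components -/
structure CompP (ad : Module.End K V → Module.End K V) (N E : Subgroup (V ≃ₗ[K] V)) (m : ℕ)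
    (j : Matrix (Fin m) (Fin m) K →ₗ[K] Module.End K V) : Prop where
  mul : ∀ X Y, j (X * Y) = j X * j Y
  inj : Function.Injective j
  comm : ∀ X, ∀ g ∈ N, j X * (g : V →ₗ[K] V) = (g : V →ₗ[K] V) * j X
  ne : j 1 + ad (j 1) ≠ 1
  pair : ∀ X Y, j X * ad (j Y) = 0 ∧ ad (j X) * j Y = 0
  loc : ∀ T : Module.End K V, (∀ g ∈ N, T * (g : V →ₗ[K] V) = (g : V →ₗ[K] V) * T) →
    ∃ Z, T * j 1 = j Z ∧ j 1 * T = j Z
  E : ∀ e ∈ E, ∃ U : Matrix.SpecialLinearGroup (Fin m) K, ((e : V ≃ₗ[K] V) : V →ₗ[K] V) =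
    1 + j ((U : Matrix (Fin m) (Fin m) K) - 1) + ad (j (((U⁻¹ : Matrix.SpecialLinearGroup (Fin m) K) :
      Matrix (Fin m) (Fin m) K) - 1))
  det : ∃ d : ℕ, ∀ X, LinearMap.det (1 + j (X - 1)) = X.det ^ d

section Terms

set_option linter.unusedSectionVars false

variable {σ : K ≃+* K} {ad : Module.End K V → Module.End K V} {N : Subgroup (V ≃ₗ[K] V)} {ι : Type} [Fintype ι]
  {m : ι → ℕ} {u : ι → Bool} {φ : ∀ i, Matrix (Fin (m i)) (Fin (m i)) K →ₗ[K] Module.End K V}

theorem hc_one (σ : K ≃+* K) (m : ℕ) : hc σ (1 : Matrix (Fin m) (Fin m) K) = 1 := by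
  unfold hc
  rw [Matrix.map_one σ (map_zero σ) (map_one σ), Matrix.transpose_one]

end Terms

section Main

variable {G : Type*} [Group G]
variable {Gh : Subgroup (V ≃ₗ[K] V)} {π : ↥Gh →* G} {N0 A E : Subgroup G} {z s x r : G}
  {ψ : ↥A →* Equiv.Perm (Fin 6)} {Nh Eh : Subgroup (V ≃ₗ[K] V)} {zh sh xh rh : V ≃ₗ[K] V}

/-- from a hom to `End V` to a hom to `GL(V)` -/
noncomputable def toGL {E : Type*} [Group E] (f : E →* Module.End K V) : E →* (V ≃ₗ[K] V) :=
  (LinearMap.GeneralLinearGroup.generalLinearEquiv K V).toMonoidHom.comp f.toHomUnits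

theorem coe_toGL {E : Type*} [Group E] (f : E →* Module.End K V) (e : E) :
    ((toGL f e : V ≃ₗ[K] V) : V →ₗ[K] V) = f e := LinearMap.ext fun _ => rfl

end Main

end Cfsg.Agent.H330.C3
end

-- part: H330/C3/KillP
section
/-!
# S1920, case B, `PSU_n(q)`: the pair case (helper330)

* `pow_four` : `a ^ 4 ∈ ⟨s⟩` for the 2-elements `a` of `C_G(N0)`;
* `CompP.false` : the pair case is impossible.
-/

set_option autoImplicit false
set_option linter.unusedSectionVars false

open Subgroup Module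

namespace Cfsg.Agent.H330.C3

open Cfsg.Agent.H415.C3 Cfsg.Agent.H601.C3 Cfsg.Agent.H375.C3

theorem perm_two {τ : Equiv.Perm (Fin 6)} {k : ℕ} (h : τ ^ 2 ^ k = 1) : τ ^ 4 = 1 := by
  rw [← orderOf_dvd_iff_pow_eq_one, ← Equiv.Perm.lcm_cycleType, Multiset.lcm_dvd]
  intro n hn
  have h1 : n ∣ 2 ^ k := (Equiv.Perm.dvd_of_mem_cycleType hn).trans (orderOf_dvd_of_pow_eq_one h)
  have h2 : n ≤ 6 := by
    refine (Equiv.Perm.le_card_support_of_mem_cycleType hn).trans ?_
    exact (Finset.card_le_univ _).trans (by rw [Fintype.card_fin])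
  obtain ⟨i, -, rfl⟩ := (Nat.dvd_prime_pow Nat.prime_two).1 h1
  have h3 : i ≤ 2 := by
    by_contra hcon
    have h4 : 2 ^ 3 ≤ 2 ^ i := Nat.pow_le_pow_right (by norm_num) (by omega)
    omega
  exact (pow_dvd_pow 2 h3).trans (by norm_num)

section Kt

variable {G : Type*} [Group G] {N0 A E : Subgroup G} {z s x r : G} {ψ : ↥A →* Equiv.Perm (Fin 6)}

/-- the fourth powers of the 2-elements of `C_G(N0)` lie in `⟨s⟩` -/
theorem pow_four [Finite G] (Kt : Kit N0 A E z s x r ψ) {g : G} (h : ∀ n ∈ N0, g * n = n * g) {k : ℕ}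
    (hk : g ^ 2 ^ k = 1) : g ^ 4 ∈ zpowers s := by
  have h1 : ∀ n ∈ N0, g ^ 4 * n = n * g ^ 4 := fun n hn => ((show Commute g n from h n hn).pow_left 4).eq
  refine Kt.T4 h1 (k := k) (by rw [← pow_mul, mul_comm, pow_mul, hk, one_pow]) ?_
  have h2 : (⟨g ^ 4, Kt.comm_mem h1⟩ : ↥A) = ⟨g, Kt.comm_mem h⟩ ^ 4 := rfl
  rw [h2, map_pow]
  refine perm_two (k := k) ?_
  rw [← map_pow]
  have h3 : (⟨g, Kt.comm_mem h⟩ : ↥A) ^ 2 ^ k = 1 := Subtype.ext hk
  rw [h3, map_one]

end Kt

variable {K : Type*} [Field K] {V : Type*} [AddCommGroup V] [Module K V]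

/-- the endomorphism of an automorphism -/
abbrev co (g : V ≃ₗ[K] V) : Module.End K V := ((g : V ≃ₗ[K] V) : V →ₗ[K] V)

theorem co_mul (g h : V ≃ₗ[K] V) : co (g * h) = co g * co h := rfl

theorem co_inj {g h : V ≃ₗ[K] V} (e : co g = co h) : g = h := LinearEquiv.toLinearMap_injective e

section Unit

variable {σ : K ≃+* K} {ad : Module.End K V → Module.End K V}

end Unit

section Lift

variable {G : Type*} [Group G]
variable {Gh : Subgroup (V ≃ₗ[K] V)} {π : ↥Gh →* G} {N0 A E : Subgroup G} {z s x r : G}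
  {ψ : ↥A →* Equiv.Perm (Fin 6)} {Nh Eh : Subgroup (V ≃ₗ[K] V)} {zh sh xh rh : V ≃ₗ[K] V}

/-- the fourth powers of the 2-elements of `Gh` commuting with `Nh` lie in `Nh` -/
theorem pow_four_mem [Finite G] (Kt : Kit N0 A E z s x r ψ) (hL : Lin Gh π)
    (L : LKit Gh π N0 A E z s x r Nh Eh zh sh xh rh) {g : V ≃ₗ[K] V} (hg : g ∈ Gh)
    (hc : ∀ n ∈ Nh, g * n = n * g) {k : ℕ} (hk : g ^ 2 ^ k = 1) : g ^ 4 ∈ Nh := by
  have h1 := pow_four Kt (comm_pi hL L hg hc) (k := k) (by
    rw [← map_pow]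
    have h3 : (⟨g, hg⟩ : ↥Gh) ^ 2 ^ k = 1 := Subtype.ext hk
    rw [h3, map_one])
  rw [L.mem_Nh]
  refine ⟨pow_mem hg 4, ?_⟩
  rw [← map_pow] at h1
  exact (zpowers_le.2 Kt.sN) h1

end Lift

section Pair

variable {σ : K ≃+* K} {ad : Module.End K V → Module.End K V} {N E : Subgroup (V ≃ₗ[K] V)} {m : ℕ}
  {j : Matrix (Fin m) (Fin m) K →ₗ[K] Module.End K V}

end Pair

end Cfsg.Agent.H330.C3
end

-- part: H330/C3/KillP2
section
/-!
# S1920, case B, `PSU_n(q)`: the pair case is impossible (helper330)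
-/

set_option autoImplicit false
set_option linter.unusedSectionVars false

open Subgroup Module

namespace Cfsg.Agent.H330.C3

open Cfsg.Agent.H415.C3 Cfsg.Agent.H601.C3 Cfsg.Agent.H375.C3

section Field

variable {K : Type*} [Field K]

theorem odd_q [Finite K] {q : ℕ} (hq : Nat.card K = q ^ 2) (h2 : (2 : K) ≠ 0) : q % 2 = 1 := by
  have := Fintype.ofFinite K
  have h3 : ringChar K ≠ 2 := by
    intro h
    apply h2
    have h4 : ((2 : ℕ) : K) = 0 := by rw [← h]; exact ringChar.Nat.cast_ringChar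
    exact_mod_cast h4
  have h4 := FiniteField.odd_card_of_char_ne_two h3
  rw [← Nat.card_eq_fintype_card, hq] at h4
  by_contra hcon
  have h5 : q % 2 = 0 := by omega
  have h6 : q ^ 2 % 2 = 0 := by rw [Nat.pow_mod, h5]
  omega

/-- an element of order 8 -/
theorem exists_eight [Finite K] {q : ℕ} (hq : Nat.card K = q ^ 2) (h2 : (2 : K) ≠ 0) : ∃ l : Kˣ, orderOf l = 8 := by
  obtain ⟨g, hg⟩ := IsCyclic.exists_generator (α := Kˣ)
  have h1 : orderOf g = q ^ 2 - 1 := by
    rw [orderOf_eq_card_of_forall_mem_zpowers hg, Nat.card_units, hq]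
  have h3 : 8 ∣ q ^ 2 - 1 := by
    have h4 := odd_q hq h2
    obtain ⟨k, hk⟩ : ∃ k, q = 2 * k + 1 := ⟨q / 2, by omega⟩
    have h5 : q ^ 2 - 1 = 4 * (k * (k + 1)) := by
      rw [hk]
      have : (2 * k + 1) ^ 2 = 4 * (k * (k + 1)) + 1 := by ring
      omega
    rw [h5]
    obtain ⟨t, ht⟩ := Nat.even_mul_succ_self k
    exact ⟨t, by rw [ht]; ring⟩
  obtain ⟨t, ht⟩ := h3
  have hpos : 0 < orderOf g := orderOf_pos g
  have ht0 : t ≠ 0 := by
    rintro rfl
    omega
  refine ⟨g ^ t, ?_⟩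
  rw [orderOf_pow_of_dvd ht0 ⟨8, by rw [h1, ht]; ring⟩, h1, ht]
  exact Nat.mul_div_cancel _ (Nat.pos_of_ne_zero ht0)

end Field

variable {K : Type*} [Field K] {V : Type*} [AddCommGroup V] [Module K V]

section Eps

variable {σ : K ≃+* K} {ad : Module.End K V → Module.End K V} {N E : Subgroup (V ≃ₗ[K] V)} {m : ℕ}
  {j : Matrix (Fin m) (Fin m) K →ₗ[K] Module.End K V}

end Eps

section Main

variable {G : Type*} [Group G]
variable {Gh : Subgroup (V ≃ₗ[K] V)} {π : ↥Gh →* G} {N0 A E : Subgroup G} {z s x r : G}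
  {ψ : ↥A →* Equiv.Perm (Fin 6)} {Nh Eh : Subgroup (V ≃ₗ[K] V)} {zh sh xh rh : V ≃ₗ[K] V}

end Main

end Cfsg.Agent.H330.C3
end

-- part: H330/C3/KillU
section
/-!
# S1920, case B, `PSU_n(q)`: unitary components with `m ≥ 3` (helper330)
-/

set_option autoImplicit false
set_option linter.unusedSectionVars false

open Subgroup Module

namespace Cfsg.Agent.H330.C3

open Cfsg.Agent.H415.C3 Cfsg.Agent.H601.C3 Cfsg.Agent.H375.C3

variable {K : Type*} [Field K] {V : Type*} [AddCommGroup V] [Module K V]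

section Mat

variable {σ : K ≃+* K} {m : ℕ}

/-- an element of order 8 of `SU_m(q)` with a nonscalar fourth power -/
theorem exists_T [Finite K] {q : ℕ} (hq : Nat.card K = q ^ 2) (h2 : (2 : K) ≠ 0) (hσ : ∀ c, σ c = c ^ q)
    (h1 : ∃ a, σ a ≠ a) (h22 : ∀ a, σ (σ a) = a) (hm : 3 ≤ m) :
    ∃ T T' : Matrix (Fin m) (Fin m) K, T * T' = 1 ∧ T' * T = 1 ∧ hc σ T * T = 1 ∧ T.det = 1 ∧ T ^ 8 = 1 ∧
      ¬ ∀ X, T ^ 4 * X = X * T ^ 4 := by
  classical
  obtain ⟨l, hl⟩ := exists_eight hq h2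
  have hl8 : l ^ 8 = 1 := by rw [← hl]; exact pow_orderOf_eq_one l
  have hl4 : l ^ 4 ≠ 1 := by
    intro h
    have h3 := orderOf_dvd_of_pow_eq_one h
    rw [hl] at h3
    norm_num at h3
  have hqodd := odd_q hq h2
  obtain ⟨t, ht⟩ : ∃ t, q = 2 * t + 1 := ⟨q / 2, by omega⟩
  have hq1 : q - 1 + 1 = q := by omega
  have hlq : l ^ (q ^ 2) = l := by
    have h3 : (l : K) ^ (q ^ 2) = l := by
      have hft := Fintype.ofFinite K
      have h4 := FiniteField.pow_card (l : K)
      rwa [← Nat.card_eq_fintype_card, hq] at h4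
    exact Units.ext (by rw [Units.val_pow_eq_pow_val, h3])
  let i0 : Fin m := ⟨0, by omega⟩
  let i1 : Fin m := ⟨1, by omega⟩
  let i2 : Fin m := ⟨2, by omega⟩
  have h01 : i0 ≠ i1 := by simp [i0, i1]
  have h02 : i0 ≠ i2 := by simp [i0, i2]
  have h12 : i1 ≠ i2 := by simp [i1, i2]
  let f : Fin m → Kˣ := fun i => if i = i0 then l else if i = i1 then (l ^ q)⁻¹ else if i = i2 then l ^ (q - 1) else 1
  have hf0 : f i0 = l := if_pos rfl
  have hf1 : f i1 = (l ^ q)⁻¹ := by
    change (if i1 = i0 then l else if i1 = i1 then (l ^ q)⁻¹ else if i1 = i2 then l ^ (q - 1) else 1) = _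
    rw [if_neg h01.symm, if_pos rfl]
  have hf2 : f i2 = l ^ (q - 1) := by
    change (if i2 = i0 then l else if i2 = i1 then (l ^ q)⁻¹ else if i2 = i2 then l ^ (q - 1) else 1) = _
    rw [if_neg h02.symm, if_neg h12.symm, if_pos rfl]
  have hf : ∀ i, i ≠ i0 → i ≠ i1 → i ≠ i2 → f i = 1 := by
    intro i h3 h4 h5
    change (if i = i0 then l else if i = i1 then (l ^ q)⁻¹ else if i = i2 then l ^ (q - 1) else 1) = _
    rw [if_neg h3, if_neg h4, if_neg h5]
  have hf8 : ∀ i, f i ^ 8 = 1 := by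
    intro i
    change (if i = i0 then l else if i = i1 then (l ^ q)⁻¹ else if i = i2 then l ^ (q - 1) else 1) ^ 8 = 1
    split_ifs
    · exact hl8
    · rw [inv_pow, ← pow_mul, mul_comm, pow_mul, hl8, one_pow, inv_one]
    · rw [← pow_mul, mul_comm, pow_mul, hl8, one_pow]
    · exact one_pow 8
  -- the form
  let w : Equiv.Perm (Fin m) := Equiv.swap i0 i1
  have hw0 : w i0 = i1 := Equiv.swap_apply_left _ _
  have hw1 : w i1 = i0 := Equiv.swap_apply_right _ _
  have hw : ∀ i, i ≠ i0 → i ≠ i1 → w i = i := fun i h3 h4 => Equiv.swap_apply_of_ne_of_ne h3 h4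
  have hww : ∀ i, w (w i) = i := fun i => Equiv.swap_apply_self _ _ _
  let H : Matrix (Fin m) (Fin m) K := fun i k => if w i = k then 1 else 0
  have hHsym : hc σ H = H := by
    ext i k
    rw [hc_apply]
    change σ (if w k = i then 1 else 0) = if w i = k then 1 else 0
    have h3 : (w k = i) ↔ (w i = k) := by
      constructor
      · rintro rfl; exact hww k
      · rintro rfl; exact hww i
    by_cases h4 : w i = k
    · rw [if_pos h4, if_pos (h3.2 h4), map_one]
    · rw [if_neg h4, if_neg (fun h => h4 (h3.1 h)), map_zero]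
  have hHH : H * H = 1 := by
    ext i k
    rw [Matrix.mul_apply, Finset.sum_eq_single (w i)]
    · change (if w i = w i then (1 : K) else 0) * (if w (w i) = k then 1 else 0) = _
      rw [if_pos rfl, one_mul, hww, Matrix.one_apply]
    · intro b _ hb
      change (if w i = b then (1 : K) else 0) * _ = 0
      rw [if_neg hb.symm, zero_mul]
    · intro h
      exact absurd (Finset.mem_univ _) h
  obtain ⟨P, Q, hPQ, hQP, hHP⟩ := exists_sqrt h1 h22 hHsym hHH
  -- the diagonal matrix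
  let D : Matrix (Fin m) (Fin m) K := Matrix.diagonal fun i => (f i : K)
  let D' : Matrix (Fin m) (Fin m) K := Matrix.diagonal fun i => (((f i)⁻¹ : Kˣ) : K)
  have hDD' : D * D' = 1 := by
    change Matrix.diagonal _ * Matrix.diagonal _ = 1
    rw [Matrix.diagonal_mul_diagonal, ← Matrix.diagonal_one]
    congr 1
    funext i
    exact Units.mul_inv _
  have hD'D : D' * D = 1 := by
    change Matrix.diagonal _ * Matrix.diagonal _ = 1
    rw [Matrix.diagonal_mul_diagonal, ← Matrix.diagonal_one]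
    congr 1
    funext i
    exact Units.inv_mul _
  have hkey : ∀ i, (f i) ^ q * f (w i) = 1 := by
    intro i
    by_cases h3 : i = i0
    · rw [h3, hw0, hf0, hf1, mul_inv_cancel]
    · by_cases h4 : i = i1
      · rw [h4, hw1, hf0, hf1, inv_pow, ← pow_mul, ← pow_two, hlq, inv_mul_cancel]
      · rw [hw i h3 h4]
        by_cases h5 : i = i2
        · rw [h5, hf2, ← pow_succ, ← pow_mul]
          have h6 : (q - 1) * (q + 1) = q ^ 2 - 1 := by
            rw [ht]
            have : (2 * t + 1) ^ 2 = (2 * t + 1 - 1) * (2 * t + 1 + 1) + 1 := by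
              rw [Nat.add_sub_cancel]; ring
            omega
          have h7 : l ^ (q ^ 2 - 1) * l = l := by
            rw [← pow_succ, show q ^ 2 - 1 + 1 = q ^ 2 by
              have h9 : 0 < q ^ 2 := Nat.pow_pos (by omega)
              omega, hlq]
          rw [h6]
          exact mul_eq_right.1 h7
        · rw [hf i h3 h4 h5, one_pow, one_mul]
  have hDH : hc σ D * H * D = H := by
    have h3 : hc σ D = Matrix.diagonal fun i => ((f i : K)) ^ q := by
      ext i k
      rw [hc_apply]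
      change σ (Matrix.diagonal (fun i => (f i : K)) k i) = _
      by_cases h4 : i = k
      · rw [h4, Matrix.diagonal_apply_eq, Matrix.diagonal_apply_eq, hσ]
      · rw [Matrix.diagonal_apply_ne _ h4, Matrix.diagonal_apply_ne _ (Ne.symm h4), map_zero]
    rw [h3]
    ext i k
    rw [Matrix.mul_diagonal, Matrix.diagonal_mul]
    change (f i : K) ^ q * (if w i = k then 1 else 0) * (f k : K) = if w i = k then 1 else 0
    by_cases h4 : w i = k
    · rw [if_pos h4, mul_one, ← h4]
      have h5 := congrArg (Units.val : Kˣ → K) (hkey i)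
      rwa [Units.val_mul, Units.val_pow_eq_pow_val, Units.val_one] at h5
    · rw [if_neg h4, mul_zero, zero_mul]
  have hdD : D.det = 1 := by
    change (Matrix.diagonal _).det = 1
    rw [Matrix.det_diagonal]
    have h3 : ∏ i, (f i : K) = ((∏ i, f i : Kˣ) : K) := (Units.coe_prod _ _).symm
    rw [h3]
    have h4 : ∏ i, f i = 1 := by
      have h5 : ∀ i, f i = (Pi.mulSingle i0 l : Fin m → Kˣ) i * (Pi.mulSingle i1 (l ^ q)⁻¹ : Fin m → Kˣ) i *
          (Pi.mulSingle i2 (l ^ (q - 1)) : Fin m → Kˣ) i := by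
        intro i
        by_cases h6 : i = i0
        · rw [h6, hf0, Pi.mulSingle_eq_same, Pi.mulSingle_eq_of_ne h01, Pi.mulSingle_eq_of_ne h02, mul_one, mul_one]
        · by_cases h7 : i = i1
          · rw [h7, hf1, Pi.mulSingle_eq_same, Pi.mulSingle_eq_of_ne h01.symm, Pi.mulSingle_eq_of_ne h12, mul_one,
              one_mul]
          · by_cases h8 : i = i2
            · rw [h8, hf2, Pi.mulSingle_eq_same, Pi.mulSingle_eq_of_ne h02.symm, Pi.mulSingle_eq_of_ne h12.symm,
                one_mul, one_mul]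
            · rw [hf i h6 h7 h8, Pi.mulSingle_eq_of_ne h6, Pi.mulSingle_eq_of_ne h7, Pi.mulSingle_eq_of_ne h8, one_mul,
                one_mul]
      rw [Finset.prod_congr rfl fun i _ => h5 i, Finset.prod_mul_distrib, Finset.prod_mul_distrib,
        Fintype.prod_eq_single i0 (fun i hi => Pi.mulSingle_eq_of_ne hi _),
        Fintype.prod_eq_single i1 (fun i hi => Pi.mulSingle_eq_of_ne hi _),
        Fintype.prod_eq_single i2 (fun i hi => Pi.mulSingle_eq_of_ne hi _),
        Pi.mulSingle_eq_same, Pi.mulSingle_eq_same, Pi.mulSingle_eq_same]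
      have h9 : l * (l ^ q)⁻¹ * l ^ (q - 1) = (l ^ q)⁻¹ * l ^ (q - 1 + 1) := by
        rw [pow_succ, mul_comm l, mul_assoc, mul_comm l]
      rw [h9, hq1, inv_mul_cancel]
    rw [h4, Units.val_one]
  have hD8 : D ^ 8 = 1 := by
    change (Matrix.diagonal _) ^ 8 = 1
    rw [Matrix.diagonal_pow, ← Matrix.diagonal_one]
    congr 1
    funext i
    have h3 := congrArg (Units.val : Kˣ → K) (hf8 i)
    simpa only [_root_.Pi.pow_apply, _root_.Units.val_pow_eq_pow_val, _root_.Units.val_one] using h3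
  have hpow : ∀ n : ℕ, (P * D * Q) ^ n = P * D ^ n * Q := by
    intro n
    induction n with
    | zero => rw [pow_zero, pow_zero, mul_one, hPQ]
    | succ n ih =>
      rw [pow_succ, ih, pow_succ]
      calc P * D ^ n * Q * (P * D * Q) = P * D ^ n * (Q * P) * D * Q := by simp only [mul_assoc]
        _ = _ := by rw [hQP, mul_one]; simp only [mul_assoc]
  refine ⟨P * D * Q, P * D' * Q, ?_, ?_, ?_, ?_, ?_, ?_⟩
  · calc P * D * Q * (P * D' * Q) = P * D * (Q * P) * D' * Q := by simp only [mul_assoc]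
      _ = P * (D * D') * Q := by rw [hQP, mul_one]; simp only [mul_assoc]
      _ = 1 := by rw [hDD', mul_one, hPQ]
  · calc P * D' * Q * (P * D * Q) = P * D' * (Q * P) * D * Q := by simp only [mul_assoc]
      _ = P * (D' * D) * Q := by rw [hQP, mul_one]; simp only [mul_assoc]
      _ = 1 := by rw [hD'D, mul_one, hPQ]
  · rw [hc_mul, hc_mul]
    calc hc σ Q * (hc σ D * hc σ P) * (P * D * Q) = hc σ Q * (hc σ D * (hc σ P * P) * D) * Q := by
          simp only [mul_assoc]
      _ = hc σ Q * (hc σ P * P) * Q := by rw [← hHP, hDH]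
      _ = (hc σ Q * hc σ P) * (P * Q) := by simp only [mul_assoc]
      _ = 1 := by rw [← hc_mul, hPQ, hc_one, mul_one]
  · rw [Matrix.det_mul, Matrix.det_mul, hdD, mul_one, ← Matrix.det_mul, hPQ, Matrix.det_one]
  · rw [hpow, hD8, mul_one, hPQ]
  · intro h
    have h3 := h (P * Matrix.single i0 i2 1 * Q)
    rw [hpow] at h3
    have h4 : D ^ 4 * Matrix.single i0 i2 1 = Matrix.single i0 i2 1 * D ^ 4 := by
      have h5 : Q * (P * D ^ 4 * Q * (P * Matrix.single i0 i2 1 * Q)) * P =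
          Q * (P * Matrix.single i0 i2 1 * Q * (P * D ^ 4 * Q)) * P := by rw [h3]
      calc D ^ 4 * Matrix.single i0 i2 1 = (Q * P) * D ^ 4 * (Q * P) * Matrix.single i0 i2 1 * (Q * P) := by
            rw [hQP, one_mul, mul_one, mul_one]
        _ = Q * (P * D ^ 4 * Q * (P * Matrix.single i0 i2 1 * Q)) * P := by simp only [mul_assoc]
        _ = Q * (P * Matrix.single i0 i2 1 * Q * (P * D ^ 4 * Q)) * P := h5
        _ = (Q * P) * Matrix.single i0 i2 1 * (Q * P) * D ^ 4 * (Q * P) := by simp only [mul_assoc]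
        _ = _ := by rw [hQP, one_mul, mul_one, mul_one]
    have h5 : D ^ 4 = Matrix.diagonal ((fun i => (f i : K)) ^ 4) := Matrix.diagonal_pow _ _
    rw [h5] at h4
    have h9 := congrFun (congrFun h4 i0) i2
    rw [Matrix.mul_diagonal, Matrix.diagonal_mul, Matrix.single_apply_same, one_mul, mul_one] at h9
    have h11 : ((f i0 : Kˣ) : K) ^ 4 = ((f i2 : Kˣ) : K) ^ 4 := h9
    rw [hf2, hf0, ← Units.val_pow_eq_pow_val, ← Units.val_pow_eq_pow_val] at h11
    have h12 := Units.ext h11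
    rw [← pow_mul, ht, Nat.add_sub_cancel, show 2 * t * 4 = 8 * t by ring, pow_mul, hl8, one_pow] at h12
    exact hl4 h12

end Mat

section Main

variable {G : Type*} [Group G]
variable {Gh : Subgroup (V ≃ₗ[K] V)} {π : ↥Gh →* G} {N0 A E : Subgroup G} {z s x r : G}
  {ψ : ↥A →* Equiv.Perm (Fin 6)} {Nh Eh : Subgroup (V ≃ₗ[K] V)} {zh sh xh rh : V ≃ₗ[K] V}

/-- **Unitary components with `m ≥ 3` are impossible.** -/
theorem unitary_three [Finite G] [Finite K] (h2 : (2 : K) ≠ 0) (Kt : Kit N0 A E z s x r ψ) (hL : Lin Gh π)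
    (L : LKit Gh π N0 A E z s x r Nh Eh zh sh xh rh)
    {σ : K ≃+* K} {ad : Module.End K V → Module.End K V} (S : _root_.Cfsg.Agent.H601.C3.Star σ ad) {q : ℕ} (hq : Nat.card K = q ^ 2)
    (hσ : ∀ c, σ c = c ^ q) (h1 : ∃ a, σ a ≠ a) (h22 : ∀ a, σ (σ a) = a)
    (hGh : ∀ g : V ≃ₗ[K] V, ad (g : V →ₗ[K] V) * (g : V →ₗ[K] V) = 1 → LinearMap.det (g : V →ₗ[K] V) = 1 → g ∈ Gh)
    {m : ℕ} (hm : 3 ≤ m) {j : Matrix (Fin m) (Fin m) K →ₗ[K] Module.End K V} (mul : ∀ X Y, j (X * Y) = j X * j Y)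
    (inj : Function.Injective j)
    (comm : ∀ X, ∀ g ∈ Nh, j X * (g : V →ₗ[K] V) = (g : V →ₗ[K] V) * j X)
    (star : ∀ X, ad (j X) = j (hc σ X)) {d : ℕ} (hd : ∀ X, LinearMap.det (1 + j (X - 1)) = X.det ^ d) : False := by
  obtain ⟨T, T', hTT', hT'T, hTu, hTd, hT8, hTn⟩ := exists_T (m := m) hq h2 hσ h1 h22 hm
  let U : (Matrix (Fin m) (Fin m) K)ˣ := ⟨T, T', hTT', hT'T⟩
  let QU : (Matrix (Fin m) (Fin m) K)ˣ →* Module.End K V :=
    { toFun := fun U => 1 + j ((U : Matrix (Fin m) (Fin m) K) - 1)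
      map_one' := by rw [Units.val_one, sub_self, map_zero, add_zero]
      map_mul' := by
        intro U W
        have h3 : ((U * W : (Matrix (Fin m) (Fin m) K)ˣ) : Matrix (Fin m) (Fin m) K) - 1 =
            ((U : Matrix (Fin m) (Fin m) K) - 1) + ((W : Matrix (Fin m) (Fin m) K) - 1) +
              ((U : Matrix (Fin m) (Fin m) K) - 1) * ((W : Matrix (Fin m) (Fin m) K) - 1) := by
          rw [Units.val_mul]; noncomm_ring
        rw [h3, map_add, map_add, mul]
        noncomm_ring }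
  let LU : (Matrix (Fin m) (Fin m) K)ˣ →* (V ≃ₗ[K] V) := toGL QU
  have hco : ∀ U, co (LU U) = 1 + j ((U : Matrix (Fin m) (Fin m) K) - 1) := fun U => coe_toGL _ _
  have hUc : (U : Matrix (Fin m) (Fin m) K) = T := rfl
  have hmem : LU U ∈ Gh := by
    refine hGh _ ?_ ?_
    · change ad (co (LU U)) * co (LU U) = 1
      rw [hco, S.add, ad_one S, star, hUc]
      have h3 : hc σ (T - 1) = hc σ T - 1 := by
        have h4 : hc σ (T - 1 + 1) = hc σ (T - 1) + hc σ 1 := hc_add _ _
        rw [sub_add_cancel, hc_one] at h4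
        rw [h4, add_sub_cancel_right]
      rw [h3]
      have h5 : (1 + j (hc σ T - 1)) * (1 + j (T - 1)) = 1 + j ((hc σ T - 1) + (T - 1) + (hc σ T - 1) * (T - 1)) := by
        rw [map_add, map_add, mul]
        noncomm_ring
      have h6 : (hc σ T - 1) + (T - 1) + (hc σ T - 1) * (T - 1) = hc σ T * T - 1 := by noncomm_ring
      rw [h5, h6, hTu, sub_self, map_zero, add_zero]
    · change LinearMap.det (co (LU U)) = 1
      rw [hco, hd, hUc, hTd, one_pow]
  have hc : ∀ n ∈ Nh, LU U * n = n * LU U := by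
    intro n hn
    apply co_inj
    rw [co_mul, co_mul, hco, add_mul, mul_add, one_mul, mul_one, comm _ n hn]
  have hU8 : U ^ 8 = 1 := Units.ext (by rw [Units.val_pow_eq_pow_val, hUc, hT8, Units.val_one])
  have h5 := pow_four_mem Kt hL L hmem hc (k := 3) (by
    rw [show (2 : ℕ) ^ 3 = 8 from rfl, ← map_pow, hU8, map_one])
  rw [← map_pow] at h5
  apply hTn
  intro X
  have h6 : j X * co (LU (U ^ 4)) = co (LU (U ^ 4)) * j X := comm X _ h5
  rw [hco, mul_add, add_mul, mul_one, one_mul, ← mul, ← mul, ← map_add, ← map_add] at h6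
  have h7 := inj h6
  rw [mul_sub, mul_one, add_sub_cancel, sub_mul, one_mul, add_sub_cancel, Units.val_pow_eq_pow_val, hUc] at h7
  exact h7.symm

end Main

end Cfsg.Agent.H330.C3
end

-- part: H601/C3/DetPhi
section
/-!
# The determinant on a component of the commutant (helper601, S1920 PSU)

`det_of_mul`, `det_phi`.
-/

set_option autoImplicit false

open Module
open scoped Kronecker

namespace Cfsg.Agent.H601.C3

universe u v

/-- `φ : M_m(K) → End V` multiplicative: `det (φ X + (1 - φ 1)) = det X ^ d` -/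
theorem det_of_mul {K : Type u} [Field K] {V : Type v} [AddCommGroup V] [Module K V] [FiniteDimensional K V] {m : ℕ}
    (hm : 0 < m) (φ : Matrix (Fin m) (Fin m) K →ₗ[K] Module.End K V) (hφ : ∀ X Y, φ (X * Y) = φ X * φ Y) :
    ∃ d : ℕ, (Function.Injective φ → 0 < d) ∧ ∀ X, LinearMap.det (φ X + (1 - φ 1)) = X.det ^ d := by
  classical
  let o : Fin m := ⟨0, hm⟩
  obtain ⟨E, hEd⟩ : ∃ E : Fin m → Fin m → Matrix (Fin m) (Fin m) K, E = fun a b => Matrix.single a b 1 := ⟨_, rfl⟩
  have hE : ∀ a b c, E a b * E b c = E a c := fun a b c => by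
    simp only [hEd]
    rw [Matrix.single_mul_single_same, one_mul]
  have hE0 : ∀ a b c d, b ≠ c → E a b * E c d = 0 := fun a b c d h => by
    simp only [hEd]
    rw [Matrix.single_mul_single_of_ne _ _ _ _ h]
  have hsum : ∀ X : Matrix (Fin m) (Fin m) K, X = ∑ a, ∑ b, X a b • E a b := fun X => by
    conv_lhs => rw [Matrix.matrix_eq_sum_single X]
    simp only [hEd]
    refine Finset.sum_congr rfl fun a _ => Finset.sum_congr rfl fun b _ => ?_
    rw [Matrix.smul_single, smul_eq_mul, mul_one]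
  let W : Submodule K V := LinearMap.range (φ (E o o))
  have hW : ∀ w ∈ W, φ (E o o) w = w := by
    rintro w ⟨v, rfl⟩
    change (φ (E o o) * φ (E o o)) v = _
    rw [← hφ, hE]
  have hW' : ∀ a v, φ (E o a) v ∈ W := fun a v => ⟨φ (E o a) v, by
    change (φ (E o o) * φ (E o a)) v = _
    rw [← hφ, hE]⟩
  let d := Module.finrank K W
  let w : Basis (Fin d) K W := Module.finBasis K W
  let A : (Fin m × Fin d → K) →ₗ[K] V := Fintype.linearCombination K (fun p => φ (E p.1 o) (w p.2 : V))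
  let B : V →ₗ[K] (Fin m × Fin d → K) :=
    LinearMap.pi fun p => (w.coord p.2).comp ((φ (E o p.1)).codRestrict W (hW' p.1))
  have hA : ∀ y, A y = ∑ p : Fin m × Fin d, y p • φ (E p.1 o) (w p.2 : V) := fun y =>
    Fintype.linearCombination_apply K _ y
  have hB : ∀ v p, B v p = w.coord p.2 ⟨φ (E o p.1) v, hW' p.1 v⟩ := fun v p => rfl
  have hBA : B ∘ₗ A = LinearMap.id := by
    refine LinearMap.pi_ext' fun p => LinearMap.ext_ring ?_
    funext p'
    rw [LinearMap.comp_apply, LinearMap.comp_apply, LinearMap.single_apply, LinearMap.comp_apply,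
      LinearMap.single_apply, LinearMap.id_apply, hB]
    have h1 : A (Pi.single p 1) = φ (E p.1 o) (w p.2 : V) := by
      rw [hA, Finset.sum_eq_single p, Pi.single_eq_same, one_smul]
      · intro q _ hq
        rw [Pi.single_eq_of_ne hq, zero_smul]
      · exact fun h => absurd (Finset.mem_univ p) h
    have h2 : φ (E o p'.1) (A (Pi.single p 1)) = (φ (E o p'.1 * E p.1 o)) (w p.2 : V) := by
      rw [h1, hφ]
      rfl
    by_cases h3 : p'.1 = p.1
    · have h4 : (⟨φ (E o p'.1) (A (Pi.single p 1)), hW' p'.1 _⟩ : W) = w p.2 := by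
        apply Subtype.ext
        change φ (E o p'.1) (A (Pi.single p 1)) = _
        rw [h2, h3, hE, hW _ (w p.2).2]
      rw [h4, Basis.coord_apply, Basis.repr_self]
      by_cases h5 : p' = p
      · rw [h5, Finsupp.single_eq_same, Pi.single_eq_same]
      · rw [Pi.single_eq_of_ne h5, Finsupp.single_eq_of_ne]
        exact fun h => h5 (Prod.ext h3 h)
    · have h4 : (⟨φ (E o p'.1) (A (Pi.single p 1)), hW' p'.1 _⟩ : W) = 0 := by
        apply Subtype.ext
        change φ (E o p'.1) (A (Pi.single p 1)) = 0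
        rw [h2, hE0 _ _ _ _ h3, map_zero, LinearMap.zero_apply]
      rw [h4, map_zero, Pi.single_eq_of_ne (fun h => h3 (congrArg Prod.fst h))]
  have hAB : ∀ X, φ X = A ∘ₗ Matrix.toLin' (X ⊗ₖ (1 : Matrix (Fin d) (Fin d) K)) ∘ₗ B := by
    intro X
    refine LinearMap.ext fun v => ?_
    rw [LinearMap.comp_apply, LinearMap.comp_apply, hA, Fintype.sum_prod_type]
    have h1 : ∀ a : Fin m, ∑ r : Fin d, B v (a, r) • (w r : V) = φ (E o a) v := by
      intro a
      have h2 := w.sum_repr ⟨φ (E o a) v, hW' a v⟩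
      have h3 := congrArg (fun t : W => (t : V)) h2
      simp only [Submodule.coe_sum, Submodule.coe_smul] at h3
      exact h3
    have h4 : ∀ (b : Fin m) (r : Fin d), Matrix.toLin' (X ⊗ₖ (1 : Matrix (Fin d) (Fin d) K)) (B v) (b, r) =
        ∑ a, X b a * B v (a, r) := by
      intro b r
      rw [Matrix.toLin'_apply, Matrix.mulVec, dotProduct, Fintype.sum_prod_type]
      refine Finset.sum_congr rfl fun a _ => ?_
      rw [Finset.sum_eq_single r]
      · rw [Matrix.kroneckerMap_apply, Matrix.one_apply_eq, mul_one]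
      · intro s _ hs
        rw [Matrix.kroneckerMap_apply, Matrix.one_apply_ne (Ne.symm hs), mul_zero, zero_mul]
      · exact fun h => absurd (Finset.mem_univ r) h
    calc φ X v = ∑ b, ∑ a, X b a • φ (E b o) (φ (E o a) v) := by
          conv_lhs => rw [hsum X]
          rw [map_sum, LinearMap.sum_apply]
          refine Finset.sum_congr rfl fun b _ => ?_
          rw [map_sum, LinearMap.sum_apply]
          refine Finset.sum_congr rfl fun a _ => ?_
          rw [map_smul, LinearMap.smul_apply]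
          congr 1
          rw [← hE b o a, hφ]
          rfl
      _ = ∑ b, ∑ r, Matrix.toLin' (X ⊗ₖ (1 : Matrix (Fin d) (Fin d) K)) (B v) (b, r) • φ (E b o) (w r : V) := by
          refine Finset.sum_congr rfl fun b _ => ?_
          have h5 : ∀ a, X b a • φ (E b o) (φ (E o a) v) = ∑ r, (X b a * B v (a, r)) • φ (E b o) (w r : V) := by
            intro a
            rw [← h1 a, map_sum, Finset.smul_sum]
            refine Finset.sum_congr rfl fun r _ => ?_
            rw [map_smul, smul_smul]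
          rw [Finset.sum_congr rfl fun a _ => h5 a, Finset.sum_comm]
          refine Finset.sum_congr rfl fun r _ => ?_
          rw [h4, Finset.sum_smul]
  refine ⟨d, fun hi => ?_, fun X => ?_⟩
  · by_contra hd
    have h1 : Module.finrank K W = 0 := Nat.eq_zero_of_not_pos hd
    have h2 : W = ⊥ := Submodule.finrank_eq_zero.1 h1
    have h3 : φ (E o o) = φ 0 := by rw [LinearMap.range_eq_bot.1 h2, map_zero]
    have h4 := congrFun (congrFun (hi h3) o) o
    have h5 : E o o o o = 1 := by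
      simp only [hEd]
      exact Matrix.single_apply_same _ _ _
    exact one_ne_zero (h5.symm.trans h4)
  · let b := Module.finBasis K V
    let c := Pi.basisFun K (Fin m × Fin d)
    have h1 : φ X + (1 - φ 1) = 1 + φ (X - 1) := by rw [map_sub]; abel
    have h2 : LinearMap.toMatrix b b (φ (X - 1)) =
        LinearMap.toMatrix c b A * (((X - 1) ⊗ₖ (1 : Matrix (Fin d) (Fin d) K)) * LinearMap.toMatrix b c B) := by
      rw [hAB, LinearMap.toMatrix_comp b c b, LinearMap.toMatrix_comp b c c]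
      congr 2
      exact LinearMap.toMatrix'_toLin' _
    have h3 : LinearMap.toMatrix b c B * LinearMap.toMatrix c b A = 1 := by
      rw [← LinearMap.toMatrix_comp c b c, hBA, LinearMap.toMatrix_id]
    rw [h1, ← LinearMap.det_toMatrix b, map_add, LinearMap.toMatrix_one, h2, Matrix.det_one_add_mul_comm,
      Matrix.mul_assoc, h3, Matrix.mul_one]
    have h4 : (1 : Matrix (Fin m × Fin d) (Fin m × Fin d) K) + (X - 1) ⊗ₖ (1 : Matrix (Fin d) (Fin d) K) = X ⊗ₖ 1 := by
      rw [← Matrix.one_kronecker_one, ← Matrix.add_kronecker, add_sub_cancel]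
    rw [h4, Matrix.det_kronecker, Matrix.det_one, one_pow, mul_one, Fintype.card_fin]

/-- the determinant on the components -/
theorem det_phi' {K : Type u} [Field K] {V : Type v} [AddCommGroup V] [Module K V] [FiniteDimensional K V]
    {σ : K ≃+* K} {ad : Module.End K V → Module.End K V} {N : Subgroup (V ≃ₗ[K] V)} {ι : Type} [Fintype ι]
    {m : ι → ℕ} {u : ι → Bool} {φ : ∀ i, Matrix (Fin (m i)) (Fin (m i)) K →ₗ[K] Module.End K V} (D : Dec σ ad N u φ) :
    ∃ d : ι → ℕ, ∀ i, 0 < d i ∧ ∀ X, LinearMap.det (φ i X + (1 - φ i 1)) = X.det ^ d i := by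
  choose d h1 h2 using fun i => det_of_mul (D.pos i) (φ i) (D.mul i)
  exact ⟨d, fun i => ⟨h1 i (D.inj i), h2 i⟩⟩

/-- the determinant on the components -/
theorem det_phi {K : Type u} [Field K] {V : Type v} [AddCommGroup V] [Module K V] [FiniteDimensional K V]
    {σ : K ≃+* K} {ad : Module.End K V → Module.End K V} {N : Subgroup (V ≃ₗ[K] V)} {ι : Type} [Fintype ι]
    {m : ι → ℕ} {u : ι → Bool} {φ : ∀ i, Matrix (Fin (m i)) (Fin (m i)) K →ₗ[K] Module.End K V} (D : Dec σ ad N u φ) :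
    ∃ d : ι → ℕ, ∀ i X, LinearMap.det (φ i X + (1 - φ i 1)) = X.det ^ d i := by
  obtain ⟨d, h⟩ := det_phi' D
  exact ⟨d, fun i => (h i).2⟩

end Cfsg.Agent.H601.C3
end

-- part: H601/C3/LinPSU
section
/-!
# S1920, PSU: the linear lift of `PSU_n(q)` (helper601)

`exists_linU` : `V = F^n`, `|F| = q²`: `σ`, the adjoint `ad` of the standard hermitian form, `Gh = SU(V)`, `Lin Gh π`.
-/

set_option autoImplicit false

open Subgroup Module Matrix

namespace Cfsg.Agent.H601.C3

open Cfsg.Agent.H415.C3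

section conj

variable {F : Type*} [Field F]

/-- the field automorphism of order 2 -/
theorem exists_sigma [Finite F] {q : ℕ} (hF : Nat.card F = q ^ 2) : ∃ σ : F ≃+* F, ∀ c, σ c = c ^ q := by
  have := Fintype.ofFinite F
  obtain ⟨p, hp⟩ := CharP.exists F
  have hpr : p.Prime := CharP.char_is_prime F p
  have hfp : Fact p.Prime := ⟨hpr⟩
  obtain ⟨m, -, hm⟩ := FiniteField.card F p
  rw [Nat.card_eq_fintype_card, hm] at hF
  obtain ⟨k, -, hk⟩ := (Nat.dvd_prime_pow hpr).1 (show q ∣ p ^ (m : ℕ) by rw [hF]; exact Dvd.intro_left (q ^ 1) (by ring))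
  have hexp : ExpChar F p := ExpChar.prime hpr
  let f : F →+* F := iterateFrobenius F p k
  have hf : ∀ c, f c = c ^ q := fun c => by rw [hk]; rfl
  have hb : Function.Bijective f := Finite.injective_iff_bijective.1 f.injective
  exact ⟨RingEquiv.ofBijective f hb, fun c => hf c⟩

variable (σ : F ≃+* F) {n : ℕ}

/-- the adjoint for the standard hermitian form -/
noncomputable def adU (T : Module.End F (Fin n → F)) : Module.End F (Fin n → F) :=
  toLin' (hc σ (LinearMap.toMatrix' T))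

theorem adU_toLin' (A : Matrix (Fin n) (Fin n) F) : adU σ (toLin' A) = toLin' (hc σ A) := by
  rw [adU, LinearMap.toMatrix'_toLin']

theorem toLin'_mul' (A B : Matrix (Fin n) (Fin n) F) : (toLin' A * toLin' B : Module.End F (Fin n → F)) = toLin' (A * B) :=
  (toLin'_mul A B).symm

theorem star_adU (h2 : ∀ a, σ (σ a) = a) : Star σ (adU σ : Module.End F (Fin n → F) → Module.End F (Fin n → F)) where
  add X Y := by
    obtain ⟨A, rfl⟩ := toLin'.surjective X
    obtain ⟨B, rfl⟩ := toLin'.surjective Y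
    rw [← map_add, adU_toLin', adU_toLin', adU_toLin', ← map_add]
    congr 1
    ext i j
    change σ (A j i + B j i) = σ (A j i) + σ (B j i)
    rw [map_add]
  smul c X := by
    obtain ⟨A, rfl⟩ := toLin'.surjective X
    rw [← map_smul, adU_toLin', adU_toLin', ← map_smul]
    congr 1
    ext i j
    change σ (c * A j i) = σ c * σ (A j i)
    rw [map_mul]
  mul X Y := by
    obtain ⟨A, rfl⟩ := toLin'.surjective X
    obtain ⟨B, rfl⟩ := toLin'.surjective Y
    rw [toLin'_mul', adU_toLin', adU_toLin', adU_toLin', toLin'_mul']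
    congr 1
    have h : (A * B).map σ = A.map σ * B.map σ := Matrix.map_mul (f := (σ : F →+* F))
    rw [hc, h, transpose_mul]
    rfl
  inv X := by
    obtain ⟨A, rfl⟩ := toLin'.surjective X
    rw [adU_toLin', adU_toLin']
    congr 1
    ext i j
    change σ (σ (A i j)) = A i j
    rw [h2]

theorem det_adU (T : Module.End F (Fin n → F)) : LinearMap.det (adU σ T) = σ (LinearMap.det T) := by
  obtain ⟨A, rfl⟩ := toLin'.surjective T
  rw [adU_toLin', LinearMap.det_toLin', LinearMap.det_toLin', hc, det_transpose]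
  exact (RingEquiv.map_det σ A).symm

/-- `SU(V)` -/
noncomputable def suV (h2 : ∀ a, σ (σ a) = a) (n : ℕ) : Subgroup ((Fin n → F) ≃ₗ[F] (Fin n → F)) where
  carrier := {g | (g : (Fin n → F) →ₗ[F] (Fin n → F)) * adU σ (g : (Fin n → F) →ₗ[F] (Fin n → F)) = 1 ∧
    LinearMap.det (g : (Fin n → F) →ₗ[F] (Fin n → F)) = 1}
  mul_mem' {a b} ha hb := by
    have e1 : ((a * b : (Fin n → F) ≃ₗ[F] (Fin n → F)) : (Fin n → F) →ₗ[F] (Fin n → F)) =
        ((a : (Fin n → F) →ₗ[F] (Fin n → F)) * (b : (Fin n → F) →ₗ[F] (Fin n → F)) : Module.End F (Fin n → F)) := rfl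
    refine ⟨?_, ?_⟩
    · rw [e1, (star_adU σ h2).mul, mul_assoc, ← mul_assoc (b : (Fin n → F) →ₗ[F] (Fin n → F)), hb.1, one_mul, ha.1]
    · rw [e1, map_mul, ha.2, hb.2, one_mul]
  one_mem' := by
    have e1 : ((1 : (Fin n → F) ≃ₗ[F] (Fin n → F)) : (Fin n → F) →ₗ[F] (Fin n → F)) = (1 : Module.End F (Fin n → F)) := rfl
    have e2 : adU σ (1 : Module.End F (Fin n → F)) = 1 := by
      have h3 : adU σ (1 : Module.End F (Fin n → F)) * adU σ (adU σ 1) = adU σ (adU σ 1) := by
        rw [← (star_adU σ h2).mul, mul_one]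
      rw [(star_adU σ h2).inv, mul_one] at h3
      exact h3
    refine ⟨?_, ?_⟩
    · rw [e1, e2, mul_one]
    · rw [e1, map_one]
  inv_mem' {a} ha := by
    have e1 : (((a⁻¹ : (Fin n → F) ≃ₗ[F] (Fin n → F)) : (Fin n → F) →ₗ[F] (Fin n → F)) *
        (a : (Fin n → F) →ₗ[F] (Fin n → F)) : Module.End F (Fin n → F)) = 1 := LinearMap.ext fun v => a.symm_apply_apply v
    have e2 : ((a⁻¹ : (Fin n → F) ≃ₗ[F] (Fin n → F)) : (Fin n → F) →ₗ[F] (Fin n → F)) =
        adU σ (a : (Fin n → F) →ₗ[F] (Fin n → F)) := by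
      calc ((a⁻¹ : (Fin n → F) ≃ₗ[F] (Fin n → F)) : (Fin n → F) →ₗ[F] (Fin n → F))
          = (((a⁻¹ : (Fin n → F) ≃ₗ[F] (Fin n → F)) : (Fin n → F) →ₗ[F] (Fin n → F)) *
            ((a : (Fin n → F) →ₗ[F] (Fin n → F)) * adU σ (a : (Fin n → F) →ₗ[F] (Fin n → F))) :
              Module.End F (Fin n → F)) := by rw [ha.1, mul_one]
        _ = adU σ (a : (Fin n → F) →ₗ[F] (Fin n → F)) := by rw [← mul_assoc, e1, one_mul]
    refine ⟨?_, ?_⟩
    · rw [e2, (star_adU σ h2).inv, ← e2, e1]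
    · have h3 := congrArg (fun T : Module.End F (Fin n → F) => LinearMap.det T) e1
      simp only [map_mul, map_one, ha.2, mul_one] at h3
      exact h3

theorem mem_suV {h2 : ∀ a, σ (σ a) = a} {g : (Fin n → F) ≃ₗ[F] (Fin n → F)} :
    g ∈ suV σ h2 n ↔ ((g : (Fin n → F) →ₗ[F] (Fin n → F)) * adU σ (g : (Fin n → F) →ₗ[F] (Fin n → F)) = 1 ∧
      LinearMap.det (g : (Fin n → F) →ₗ[F] (Fin n → F)) = 1) := Iff.rfl

/-- `SU` in matrices -/
theorem mem_SU_hc {q : ℕ} (hσ : ∀ c, σ c = c ^ q) (A : _root_.Matrix.SpecialLinearGroup (Fin n) F) :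
    A ∈ Cfsg.SU n F q ↔ hc σ (A : Matrix (Fin n) (Fin n) F) * (A : Matrix (Fin n) (Fin n) F) = 1 := by
  rw [Cfsg.Agent.LieClassical.SUBasic.mem_SU_iff]
  have hform : ∀ u v : Fin n → F, Cfsg.hermForm n F q u v = u ⬝ᵥ (fun i => σ (v i)) := fun u v => by
    rw [Cfsg.Agent.LieClassical.SUBasic.hermForm_apply]
    exact Finset.sum_congr rfl fun i _ => congrArg (fun t => u i * t) (hσ (v i)).symm
  have hsv : ∀ v : Fin n → F, (fun i => σ (((A : Matrix (Fin n) (Fin n) F) *ᵥ v) i)) =
      (A : Matrix (Fin n) (Fin n) F).map σ *ᵥ (fun i => σ (v i)) := fun v => by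
    funext i
    rw [mulVec, dotProduct, map_sum, mulVec, dotProduct]
    exact Finset.sum_congr rfl fun j _ => map_mul σ _ _
  have hkey : ∀ u v : Fin n → F, Cfsg.hermForm n F q ((A : Matrix (Fin n) (Fin n) F) *ᵥ u)
      ((A : Matrix (Fin n) (Fin n) F) *ᵥ v) =
      u ⬝ᵥ (((A : Matrix (Fin n) (Fin n) F)ᵀ * (A : Matrix (Fin n) (Fin n) F).map σ) *ᵥ (fun i => σ (v i))) := by
    intro u v
    rw [hform, hsv, ← mulVec_mulVec, dotProduct_mulVec u, vecMul_transpose]
  have hT : hc σ (A : Matrix (Fin n) (Fin n) F) * (A : Matrix (Fin n) (Fin n) F) =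
      ((A : Matrix (Fin n) (Fin n) F)ᵀ * (A : Matrix (Fin n) (Fin n) F).map σ)ᵀ := by
    rw [transpose_mul, transpose_transpose]
    rfl
  rw [hT]
  constructor
  · intro h
    have h3 : ((A : Matrix (Fin n) (Fin n) F)ᵀ * (A : Matrix (Fin n) (Fin n) F).map σ) = 1 := by
      refine Matrix.ext_of_mulVec_single fun j => ?_
      refine dotProduct_eq _ _ fun u => ?_
      have h4 := h u (Pi.single j 1)
      rw [hkey, hform] at h4
      have h5 : (fun i => σ ((Pi.single j 1 : Fin n → F) i)) = Pi.single j 1 := by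
        funext i
        by_cases hi : i = j
        · subst hi
          rw [Pi.single_eq_same, map_one]
        · rw [Pi.single_eq_of_ne hi, map_zero]
      rw [h5] at h4
      rw [one_mulVec, dotProduct_comm _ u, h4, dotProduct_comm _ u]
    rw [h3, transpose_one]
  · intro h u v
    have h3 : ((A : Matrix (Fin n) (Fin n) F)ᵀ * (A : Matrix (Fin n) (Fin n) F).map σ) = 1 := by
      rw [← transpose_transpose ((A : Matrix (Fin n) (Fin n) F)ᵀ * (A : Matrix (Fin n) (Fin n) F).map σ), h, transpose_one]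
    rw [hkey, h3, one_mulVec, hform]

end conj

/-- **The linear lift of `PSU_n(q)`.** -/
theorem exists_linU {F : Type*} [Field F] [Finite F] {n q : ℕ} (hF : Nat.card F = q ^ 2) (hn : 3 ≤ n) {G : Type*}
    [Group G] (e : G ≃* Cfsg.PSU n F q) :
    ∃ (σ : F ≃+* F) (ad : Module.End F (Fin n → F) → Module.End F (Fin n → F))
      (Gh : Subgroup ((Fin n → F) ≃ₗ[F] (Fin n → F))) (π : ↥Gh →* G), (∀ c, σ c = c ^ q) ∧ (∀ c, σ (σ c) = c) ∧ Star σ ad ∧
      (∀ T, LinearMap.det (ad T) = σ (LinearMap.det T)) ∧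
      (∀ g : (Fin n → F) ≃ₗ[F] (Fin n → F), g ∈ Gh ↔ ((g : (Fin n → F) →ₗ[F] (Fin n → F)) *
        ad (g : (Fin n → F) →ₗ[F] (Fin n → F)) = 1 ∧ LinearMap.det (g : (Fin n → F) →ₗ[F] (Fin n → F)) = 1)) ∧
      Lin Gh π := by
  classical
  have := Fintype.ofFinite F
  obtain ⟨σ, hσ⟩ := exists_sigma hF
  rw [Nat.card_eq_fintype_card] at hF
  have h22 : ∀ a, σ (σ a) = a := fun a => by rw [hσ, hσ, ← pow_mul, ← sq, ← hF, FiniteField.pow_card]
  have hmat : ∀ A : Matrix (Fin n) (Fin n) F, hc σ A * A = 1 → A * hc σ A = 1 := fun A h => mul_eq_one_comm.1 h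
  let φ : ↥(Cfsg.SU n F q) →* ↥(suV σ h22 n) :=
    ((SpecialLinearGroup.toLin' : _root_.Matrix.SpecialLinearGroup (Fin n) F →* _).comp (Cfsg.SU n F q).subtype).codRestrict
      (suV σ h22 n) fun A => by
      have h1 : ((SpecialLinearGroup.toLin' (A : _root_.Matrix.SpecialLinearGroup (Fin n) F) : (Fin n → F) ≃ₗ[F] (Fin n → F)) :
          (Fin n → F) →ₗ[F] (Fin n → F)) = toLin' ((A : _root_.Matrix.SpecialLinearGroup (Fin n) F) : Matrix (Fin n) (Fin n) F) := rfl
      change SpecialLinearGroup.toLin' (A : _root_.Matrix.SpecialLinearGroup (Fin n) F) ∈ suV σ h22 n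
      rw [mem_suV, h1, adU_toLin', toLin'_mul', hmat _ ((mem_SU_hc σ hσ _).1 A.2), LinearMap.det_toLin']
      exact ⟨toLin'_one, (A : _root_.Matrix.SpecialLinearGroup (Fin n) F).2⟩
  have hφ : ∀ A : ↥(Cfsg.SU n F q), ((φ A : (Fin n → F) ≃ₗ[F] (Fin n → F)) : (Fin n → F) →ₗ[F] (Fin n → F)) =
      toLin' ((A : _root_.Matrix.SpecialLinearGroup (Fin n) F) : Matrix (Fin n) (Fin n) F) := fun A => rfl
  have hbij : Function.Bijective φ := by
    constructor
    · intro A B h
      refine Subtype.ext (Subtype.ext (toLin'.injective ?_))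
      rw [← hφ, ← hφ, h]
    · rintro ⟨g, hg⟩
      have hg' := (mem_suV σ).1 hg
      obtain ⟨A, hA⟩ := toLin'.surjective (g : (Fin n → F) →ₗ[F] (Fin n → F))
      rw [← hA, adU_toLin', toLin'_mul', LinearMap.det_toLin'] at hg'
      have h3 : A * hc σ A = 1 := toLin'.injective (hg'.1.trans toLin'_one.symm)
      let B : _root_.Matrix.SpecialLinearGroup (Fin n) F := ⟨A, hg'.2⟩
      have hB : B ∈ Cfsg.SU n F q := (mem_SU_hc σ hσ B).2 (mul_eq_one_comm.1 h3)
      exact ⟨⟨B, hB⟩, Subtype.ext (LinearEquiv.toLinearMap_injective ((hφ ⟨B, hB⟩).trans hA))⟩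
  let Φ : ↥(Cfsg.SU n F q) ≃* ↥(suV σ h22 n) := MulEquiv.ofBijective φ hbij
  refine ⟨σ, adU σ, suV σ h22 n, (e.symm.toMonoidHom.comp (QuotientGroup.mk' (center (Cfsg.SU n F q)))).comp
    Φ.symm.toMonoidHom, hσ, h22, star_adU σ h22, det_adU σ, fun g => mem_suV σ, ?_, ?_⟩
  · intro g
    obtain ⟨A, hA⟩ := QuotientGroup.mk'_surjective _ (e g)
    refine ⟨Φ A, ?_⟩
    change e.symm (QuotientGroup.mk' _ (Φ.symm (Φ A))) = g
    rw [MulEquiv.symm_apply_apply, hA, MulEquiv.symm_apply_apply]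
  · intro g
    obtain ⟨A, rfl⟩ := Φ.surjective g
    have h1 : ((e.symm.toMonoidHom.comp (QuotientGroup.mk' (center (Cfsg.SU n F q)))).comp Φ.symm.toMonoidHom)
        (Φ A) = e.symm (QuotientGroup.mk' _ A) := by
      change e.symm (QuotientGroup.mk' _ (Φ.symm (Φ A))) = _
      rw [MulEquiv.symm_apply_apply]
    rw [h1, EmbeddingLike.map_eq_one_iff, ← MonoidHom.mem_ker, QuotientGroup.ker_mk',
      Cfsg.Agent.LieClassical.SUBasic.mem_center_SU_iff hF hn]
    constructor
    · rintro ⟨c, hcn, hcq, rfl⟩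
      refine ⟨c, fun v => ?_⟩
      change (Matrix.diagonal (fun _ => c) : Matrix (Fin n) (Fin n) F).mulVec v = c • v
      rw [← Matrix.smul_one_eq_diagonal, Matrix.smul_mulVec, Matrix.one_mulVec]
    · rintro ⟨c, hc'⟩
      have hc2 : ∀ v, ((A : _root_.Matrix.SpecialLinearGroup (Fin n) F) : Matrix (Fin n) (Fin n) F).mulVec v = c • v := hc'
      have h2 : ((A : _root_.Matrix.SpecialLinearGroup (Fin n) F) : Matrix (Fin n) (Fin n) F) = Matrix.diagonal (fun _ => c) := by
        refine Matrix.ext_of_mulVec_single fun i => ?_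
        rw [hc2, ← Matrix.smul_one_eq_diagonal, Matrix.smul_mulVec, Matrix.one_mulVec]
      have h3 : c ^ n = 1 := by
        have h4 := (A : _root_.Matrix.SpecialLinearGroup (Fin n) F).2
        rw [h2, Matrix.det_diagonal, Finset.prod_const, Finset.card_univ, Fintype.card_fin] at h4
        exact h4
      have h5 : c ^ (q + 1) = 1 := by
        have h4 := (mem_SU_hc σ hσ _).1 A.2
        have h6 := congrFun (congrFun h4 ⟨0, by omega⟩) ⟨0, by omega⟩
        rw [h2, mul_diagonal, one_apply_eq] at h6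
        have h7 : hc σ (Matrix.diagonal (fun _ => c) : Matrix (Fin n) (Fin n) F) ⟨0, by omega⟩ ⟨0, by omega⟩ = σ c := by
          change σ (Matrix.diagonal (fun _ => c) (⟨0, by omega⟩ : Fin n) ⟨0, by omega⟩) = σ c
          rw [Matrix.diagonal_apply_eq]
        rw [h7, hσ, ← pow_succ] at h6
        exact h6
      exact ⟨c, h3, h5, Subtype.ext (Subtype.ext h2)⟩

end Cfsg.Agent.H601.C3
end

-- part: H601/C3/WedK
section
/-!
# The commutant of `Nh` is a product of matrix algebras over `K` (helper601, S1920 PSU)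
-/

set_option autoImplicit false

open Module

namespace Cfsg.Agent.H601.C3

universe u v

section rep

variable {K : Type u} [Field K] {V : Type v} [AddCommGroup V] [Module K V] {Γ : Type*} [Group Γ]

/-- density: what commutes with the commutant is in the span -/
theorem mem_span_of_central [FiniteDimensional K V] [Fintype Γ] (ρ : Γ →* Module.End K V) (hN : (Nat.card Γ : K) ≠ 0)
    {T : Module.End K V} (hT : ∀ S : Module.End K V, (∀ g, S * ρ g = ρ g * S) → T * S = S * T) :
    ∃ a : Γ → K, T = ∑ n, a n • ρ n := by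
  classical
  have hspan : ∀ a : MonoidAlgebra K Γ, ∃ c : Γ → K, MonoidAlgebra.lift K (Module.End K V) Γ ρ a = ∑ n, c n • ρ n := by
    intro a
    induction a using MonoidAlgebra.induction_on with
    | of g =>
      refine ⟨Pi.single g 1, ?_⟩
      rw [MonoidAlgebra.lift_of, Finset.sum_eq_single g, Pi.single_eq_same, one_smul]
      · intro b _ hb
        rw [Pi.single_eq_of_ne hb, zero_smul]
      · exact fun h => absurd (Finset.mem_univ g) h
    | add x y hx hy =>
      obtain ⟨a, ha⟩ := hx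
      obtain ⟨b, hb⟩ := hy
      exact ⟨a + b, by
        rw [map_add, ha, hb, ← Finset.sum_add_distrib]
        exact Finset.sum_congr rfl fun n _ => (add_smul _ _ _).symm⟩
    | smul c x hx =>
      obtain ⟨a, ha⟩ := hx
      exact ⟨c • a, by
        rw [map_smul, ha, Finset.smul_sum]
        exact Finset.sum_congr rfl fun n _ => (mul_smul _ _ _).symm⟩
  suffices h0 : ∃ a : MonoidAlgebra K Γ, T = MonoidAlgebra.lift K (Module.End K V) Γ ρ a by
    obtain ⟨a, rfl⟩ := h0
    exact hspan a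
  let L : MonoidAlgebra K Γ →ₐ[K] Module.End K V := MonoidAlgebra.lift K (Module.End K V) Γ ρ
  let R : Subalgebra K (Module.End K V) := L.range
  have hss : IsSemisimpleRing (MonoidAlgebra K Γ) := by
    have : NeZero (Nat.card Γ : K) := ⟨hN⟩
    infer_instance
  have hR : IsSemisimpleRing R :=
    RingHom.isSemisimpleRing_of_surjective (L.rangeRestrict : MonoidAlgebra K Γ →+* R) L.rangeRestrict_surjective
  have hρR : ∀ g, ρ g ∈ R := fun g => ⟨MonoidAlgebra.of K Γ g, MonoidAlgebra.lift_of _ _⟩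
  let f : Module.End (Module.End R V) V :=
    { toFun := T
      map_add' := T.map_add
      map_smul' := by
        intro S v
        have h1 : T * S.restrictScalars K = S.restrictScalars K * T := by
          refine hT _ fun g => LinearMap.ext fun v => ?_
          exact S.map_smul (⟨ρ g, hρR g⟩ : R) v
        exact congrArg (fun t : Module.End K V => t v) h1 }
  let b := Module.finBasis K V
  obtain ⟨⟨r, a, ha⟩, hr⟩ := jacobson_density (R := R) (M := V) f (Finset.univ.image b)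
  refine ⟨a, b.ext fun i => ?_⟩
  have h1 := hr (b i) (Finset.mem_image_of_mem _ (Finset.mem_univ i))
  change T (b i) = L a (b i)
  have h2 : L a = r := ha
  rw [h2]
  exact h1

/-- central elements of the span are scalars on a component -/
theorem scalar_on [Fintype Γ] (ρ : Γ →* Module.End K V) (hN : (Nat.card Γ : K) ≠ 0) (h2 : (2 : K) ≠ 0)
    {e T : Module.End K V} (heρ : ∀ g, e * ρ g = ρ g * e)
    (hT : ∃ a : Γ → K, T = ∑ n, a n • ρ n) (hTc : ∀ g, T * ρ g = ρ g * T)
    (hcomm : ∀ g n, ρ g * ρ n * ρ g⁻¹ * e = ρ n * e ∨ ρ g * ρ n * ρ g⁻¹ * e = -(ρ n * e))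
    (hcent : ∀ n, (∀ g, ρ g * ρ n * ρ g⁻¹ * e = ρ n * e) → ∃ κ : K, ρ n * e = κ • e) : ∃ κ : K, T * e = κ • e := by
  classical
  -- the average
  have key : ∀ n : Γ, ∃ κ : K, (∑ g : Γ, ρ g * ρ n * ρ g⁻¹) * e = κ • e := by
    intro n
    by_cases h : ∀ g, ρ g * ρ n * ρ g⁻¹ * e = ρ n * e
    · obtain ⟨κ, hκ⟩ := hcent n h
      refine ⟨Fintype.card Γ * κ, ?_⟩
      rw [Finset.sum_mul, Finset.sum_congr rfl fun g _ => h g, Finset.sum_const, Finset.card_univ, hκ,
        ← Nat.cast_smul_eq_nsmul K, smul_smul]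
    · push Not at h
      obtain ⟨g0, hg0⟩ := h
      have h3 := (hcomm g0 n).resolve_left hg0
      refine ⟨0, ?_⟩
      rw [zero_smul]
      have h4 : (∑ g : Γ, ρ g * ρ n * ρ g⁻¹) * e = -((∑ g : Γ, ρ g * ρ n * ρ g⁻¹) * e) := by
        conv_lhs => rw [← Equiv.sum_comp (Equiv.mulRight g0)]
        rw [Finset.sum_mul, Finset.sum_mul, ← Finset.sum_neg_distrib]
        refine Finset.sum_congr rfl fun g _ => ?_
        rw [Equiv.coe_mulRight, mul_inv_rev, map_mul, map_mul]
        calc ρ g * ρ g0 * ρ n * (ρ g0⁻¹ * ρ g⁻¹) * e = ρ g * (ρ g0 * ρ n * ρ g0⁻¹ * (ρ g⁻¹ * e)) := by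
              simp only [mul_assoc]
          _ = ρ g * (ρ g0 * ρ n * ρ g0⁻¹ * e) * ρ g⁻¹ := by rw [← heρ]; simp only [mul_assoc]
          _ = -(ρ g * ρ n * (e * ρ g⁻¹)) := by rw [h3]; simp only [mul_neg, neg_mul, mul_assoc]
          _ = -(ρ g * ρ n * ρ g⁻¹ * e) := by rw [heρ, mul_assoc (ρ g * ρ n)]
      have h5 : (2 : K) • ((∑ g : Γ, ρ g * ρ n * ρ g⁻¹) * e) = 0 := by
        rw [two_smul]
        nth_rewrite 2 [h4]
        rw [add_neg_cancel]
      exact (smul_eq_zero.1 h5).resolve_left h2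
  -- the average of `T`
  obtain ⟨a, hTa⟩ := hT
  have h3 : (Fintype.card Γ : K) • (T * e) = ∑ n : Γ, a n • ((∑ g : Γ, ρ g * ρ n * ρ g⁻¹) * e) := by
    have h4 : ∀ g : Γ, ρ g * T * ρ g⁻¹ = T := fun g => by
      rw [← hTc, mul_assoc, ← map_mul, mul_inv_cancel, map_one, mul_one]
    have h5 : ∑ g : Γ, ρ g * T * ρ g⁻¹ = (Fintype.card Γ : K) • T := by
      rw [Finset.sum_congr rfl fun g _ => h4 g, Finset.sum_const, Finset.card_univ, Nat.cast_smul_eq_nsmul]
    rw [← smul_mul_assoc, ← h5, Finset.sum_mul]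
    have h6 : ∀ g : Γ, ρ g * T * ρ g⁻¹ * e = ∑ n : Γ, a n • (ρ g * ρ n * ρ g⁻¹ * e) := by
      intro g
      rw [hTa, Finset.mul_sum, Finset.sum_mul, Finset.sum_mul]
      refine Finset.sum_congr rfl fun n _ => ?_
      rw [mul_smul_comm, smul_mul_assoc, smul_mul_assoc]
    rw [Finset.sum_congr rfl fun g _ => h6 g, Finset.sum_comm]
    refine Finset.sum_congr rfl fun n _ => ?_
    rw [Finset.sum_mul, Finset.smul_sum]
  choose κ hκ using key
  refine ⟨(Fintype.card Γ : K)⁻¹ * ∑ n, a n * κ n, ?_⟩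
  have hc : (Fintype.card Γ : K) ≠ 0 := by rwa [← Nat.card_eq_fintype_card]
  rw [mul_smul, Finset.sum_smul]
  have h4 : ∑ n, (a n * κ n) • e = (Fintype.card Γ : K) • (T * e) := by
    rw [h3]
    refine Finset.sum_congr rfl fun n _ => ?_
    rw [hκ, smul_smul]
  rw [h4, smul_smul, inv_mul_cancel₀ hc, one_smul]

end rep

/-- **the commutant is a product of matrix algebras over `K`** -/
theorem exists_wedK {K : Type u} [Field K] [Finite K] {V : Type v} [AddCommGroup V] [Module K V]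
    [FiniteDimensional K V] (N : Subgroup (V ≃ₗ[K] V)) [Finite N] (hN : (Nat.card N : K) ≠ 0) (h2 : (2 : K) ≠ 0)
    {zh : V ≃ₗ[K] V} (zN : zh ∈ N) (z_sq : zh * zh = 1) (z_comm : ∀ n ∈ N, zh * n = n * zh)
    (comm : ∀ n ∈ N, ∀ m ∈ N, ∃ c : K, (c = 1 ∨ c = -1) ∧
      ((∀ v, (n * m) v = c • (m * n) v) ∨ (∀ v, (n * m) v = c • (zh * m * n) v)))
    (sq : ∀ n ∈ N, ∃ c : K, (IsSquare c ∧ IsSquare (-c)) ∧
      ((∀ v, (n * n) v = c • v) ∨ (∀ v, (n * n) v = c • zh v))) :
    ∃ (k : ℕ) (m : Fin k → ℕ) (_ : ∀ i, NeZero (m i))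
      (J : (∀ i, Matrix (Fin (m i)) (Fin (m i)) K) →ₐ[K] Module.End K V),
      Function.Injective J ∧ ∀ T : Module.End K V, (∀ g ∈ N, T * (g : V →ₗ[K] V) = (g : V →ₗ[K] V) * T) ↔ ∃ X, J X = T := by
  classical
  have := Fintype.ofFinite ↥N
  obtain ⟨k, D, m, iD, iA, iF, iN, J, hJ, hJr⟩ := Cfsg.Agent.H375.C3.exists_wed N hN
  let ρ : ↥N →* Module.End K V :=
    { toFun := fun g => ((g : V ≃ₗ[K] V) : V →ₗ[K] V)
      map_one' := rfl
      map_mul' := fun _ _ => rfl }
  have hJρ : ∀ T : Module.End K V, (∀ g : ↥N, T * ρ g = ρ g * T) ↔ ∃ X, J X = T := fun T => by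
    rw [← hJr]
    exact ⟨fun h g hg => h ⟨g, hg⟩, fun h g => h g g.2⟩
  have key : ∀ i, Function.Surjective (algebraMap K (D i)) := by
    intro i d
    -- central elements
    let E : ∀ d : D i, (∀ i, Matrix (Fin (m i)) (Fin (m i)) (D i)) := fun d => Pi.single i (Matrix.scalar (Fin (m i)) d)
    have hE : ∀ d X, E d * X = X * E d := by
      intro d X
      funext j
      by_cases hj : j = i
      · subst hj
        simp only [E, Pi.mul_apply, Pi.single_eq_same]
        exact Matrix.scalar_commute d (fun r => Commute.all _ _) (X j)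
      · simp only [E, Pi.mul_apply, Pi.single_eq_of_ne hj, zero_mul, mul_zero]
    have hEE : ∀ d d', E d * E d' = E (d * d') := by
      intro d d'
      simp only [E]
      rw [← Pi.single_mul, ← map_mul]
    -- central elements supported on `i` are some `E y`
    have hcen : ∀ X : (∀ i, Matrix (Fin (m i)) (Fin (m i)) (D i)), (∀ Y, X * Y = Y * X) → X * E 1 = X → ∃ y, X = E y := by
      intro X hX hX1
      have h3 : X i ∈ Set.range (Matrix.scalar (Fin (m i)) : D i →+* _) := by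
        rw [Matrix.mem_range_scalar_iff_commute_single']
        intro a b
        have h4 := congrFun (hX (Pi.single i (Matrix.single a b 1))) i
        simp only [Pi.mul_apply, Pi.single_eq_same] at h4
        exact h4.symm
      obtain ⟨y, hy⟩ := h3
      refine ⟨y, ?_⟩
      funext j
      by_cases hj : j = i
      · subst hj
        simp only [E, Pi.single_eq_same]
        exact hy.symm
      · rw [← hX1]
        simp only [E, Pi.mul_apply, Pi.single_eq_of_ne hj, mul_zero]
    set e : Module.End K V := J (E 1) with he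
    have hee : e * e = e := by rw [he, ← map_mul, hEE, one_mul]
    have hcJ : ∀ X (g : ↥N), J X * ρ g = ρ g * J X := fun X g => (hJρ _).2 ⟨X, rfl⟩ g
    have heρ : ∀ g, e * ρ g = ρ g * e := hcJ _
    -- elements of `End V` commuting with `N` and its commutant, supported on `e`
    have hcen' : ∀ S : Module.End K V, (∀ g, S * ρ g = ρ g * S) → (∀ X, S * J X = J X * S) → S * e = S →
        ∃ y, S = J (E y) := by
      intro S h3 h4 h5
      obtain ⟨X, rfl⟩ := (hJρ S).1 h3
      obtain ⟨y, rfl⟩ := hcen X (fun Y => hJ (by rw [map_mul, map_mul, h4])) (hJ (by rw [map_mul]; exact h5))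
      exact ⟨y, rfl⟩
    have hEinj : ∀ y y', J (E y) = J (E y') → y = y' := by
      intro y y' h3
      have h4 := congrFun (hJ h3) i
      simp only [E, Pi.single_eq_same] at h4
      exact Matrix.scalar_inj.1 h4
    -- `z = ± 1` on the component
    have hz : ρ ⟨zh, zN⟩ * e = e ∨ ρ ⟨zh, zN⟩ * e = -e := by
      have h3 : ∀ g, ρ ⟨zh, zN⟩ * ρ g = ρ g * ρ ⟨zh, zN⟩ := fun g => by
        rw [← map_mul, ← map_mul]
        congr 1
        exact Subtype.ext (z_comm g g.2)
      obtain ⟨y, hy⟩ := hcen' (ρ ⟨zh, zN⟩ * e) (fun g => by rw [mul_assoc, heρ, ← mul_assoc, h3, mul_assoc])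
        (fun X => by
          rw [mul_assoc, he, ← map_mul, hE, map_mul, ← mul_assoc, ← hcJ, mul_assoc]) (by rw [mul_assoc, hee])
      have h4 : y * y = 1 := by
        refine hEinj _ _ ?_
        rw [← hEE, map_mul, ← hy, ← he]
        calc ρ ⟨zh, zN⟩ * e * (ρ ⟨zh, zN⟩ * e) = ρ ⟨zh, zN⟩ * ρ ⟨zh, zN⟩ * (e * e) := by
              rw [mul_assoc, ← mul_assoc e, heρ]; simp only [mul_assoc]
          _ = e := by
              rw [hee, ← map_mul]
              have : (⟨zh, zN⟩ * ⟨zh, zN⟩ : ↥N) = 1 := Subtype.ext z_sq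
              rw [this, map_one, one_mul]
      rcases mul_self_eq_one_iff.1 h4 with rfl | rfl
      · exact Or.inl hy
      · right
        rw [hy, he]
        have : E (-1) = - E 1 := by
          simp only [E]
          rw [map_neg, Pi.single_neg]
        rw [this, map_neg]
    have hρv : ∀ (g : ↥N) v, ρ g v = (g : V ≃ₗ[K] V) v := fun _ _ => rfl
    have hze : ∃ ε : K, (ε = 1 ∨ ε = -1) ∧ ρ ⟨zh, zN⟩ * e = ε • e := by
      rcases hz with h | h
      · exact ⟨1, Or.inl rfl, by rw [h, one_smul]⟩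
      · exact ⟨-1, Or.inr rfl, by rw [h, neg_one_smul]⟩
    obtain ⟨ε, hε, hze⟩ := hze
    obtain ⟨κ, hκ⟩ := scalar_on ρ hN h2 (e := e) (T := J (E d)) heρ
      (mem_span_of_central ρ hN fun S hS => by
        obtain ⟨X, rfl⟩ := (hJρ S).1 hS
        rw [← map_mul, hE, map_mul])
      (hcJ _)
      (fun g n => by
        obtain ⟨c, hc, h3⟩ := comm g g.2 n n.2
        have h4 : ∃ c' : K, (c' = 1 ∨ c' = -1) ∧ ρ g * ρ n * e = c' • (ρ n * ρ g * e) := by
          rcases h3 with h3 | h3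
          · exact ⟨c, hc, LinearMap.ext fun v => h3 (e v)⟩
          · refine ⟨c * ε, ?_, ?_⟩
            · rcases hc with rfl | rfl <;> rcases hε with rfl | rfl <;> simp
            · have h5 : ρ g * ρ n * e = c • (ρ ⟨zh, zN⟩ * ρ n * ρ g * e) := LinearMap.ext fun v => h3 (e v)
              rw [h5, mul_smul]
              congr 1
              have h6 : ∀ g, ρ ⟨zh, zN⟩ * ρ g = ρ g * ρ ⟨zh, zN⟩ := fun g => by
                rw [← map_mul, ← map_mul]
                congr 1
                exact Subtype.ext (z_comm g g.2)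
              calc ρ ⟨zh, zN⟩ * ρ n * ρ g * e = ρ n * ρ g * (ρ ⟨zh, zN⟩ * e) := by
                    rw [h6 n, mul_assoc (ρ n), h6 g]; simp only [mul_assoc]
                _ = ε • (ρ n * ρ g * e) := by rw [hze, mul_smul_comm]
        obtain ⟨c', hc', h4⟩ := h4
        have h7 : ρ g * ρ n * ρ g⁻¹ * e = c' • (ρ n * e) := by
          calc ρ g * ρ n * ρ g⁻¹ * e = ρ g * ρ n * e * ρ g⁻¹ := by
                rw [mul_assoc (ρ g * ρ n), ← heρ, ← mul_assoc]
            _ = c' • (ρ n * ρ g * e * ρ g⁻¹) := by rw [h4, smul_mul_assoc]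
            _ = c' • (ρ n * e) := by
                rw [mul_assoc (ρ n * ρ g), heρ, ← mul_assoc, mul_assoc (ρ n), ← map_mul, mul_inv_cancel, map_one,
                  mul_one]
        rcases hc' with rfl | rfl
        · left; rw [h7, one_smul]
        · right; rw [h7, neg_one_smul])
      (fun n hn => by
        obtain ⟨y, hy⟩ := hcen' (ρ n * e) (fun g => by
            have h3 := hn g
            calc ρ n * e * ρ g = ρ g * ρ n * ρ g⁻¹ * e * ρ g := by rw [h3]
              _ = ρ g * ρ n * (ρ g⁻¹ * ρ g) * e := by rw [mul_assoc _ e, heρ]; simp only [mul_assoc]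
              _ = ρ g * (ρ n * e) := by
                rw [show ρ g⁻¹ * ρ g = 1 by rw [← map_mul, inv_mul_cancel, map_one], mul_one, mul_assoc])
          (fun X => by rw [mul_assoc, he, ← map_mul, hE, map_mul, ← mul_assoc, ← hcJ, mul_assoc])
          (by rw [mul_assoc, hee])
        obtain ⟨c, ⟨hc1, hc2⟩, h3⟩ := sq n n.2
        have h4 : ∃ c' : K, IsSquare c' ∧ ρ n * ρ n * e = c' • e := by
          rcases h3 with h3 | h3
          · exact ⟨c, hc1, LinearMap.ext fun v => h3 (e v)⟩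
          · have h5 : ρ n * ρ n * e = c • (ρ ⟨zh, zN⟩ * e) := LinearMap.ext fun v => h3 (e v)
            rw [hze, smul_smul] at h5
            refine ⟨c * ε, ?_, h5⟩
            rcases hε with rfl | rfl
            · rwa [mul_one]
            · rwa [mul_neg_one]
        obtain ⟨c', ⟨a, rfl⟩, h4⟩ := h4
        have hEs : ∀ κ : K, κ • e = J (E (algebraMap K (D i) κ)) := by
          intro κ
          rw [he, ← map_smul]
          congr 1
          simp only [E]
          rw [← Pi.single_smul]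
          congr 1
          ext a b
          rw [Matrix.smul_apply, Matrix.scalar_apply, Matrix.scalar_apply, Matrix.diagonal_apply, Matrix.diagonal_apply]
          split_ifs
          · rw [Algebra.smul_def, mul_one]
          · rw [smul_zero]
        have h5 : y * y = algebraMap K (D i) a * algebraMap K (D i) a := by
          refine hEinj _ _ ?_
          rw [← map_mul, ← hEs, ← h4, ← hEE, map_mul J, ← hy]
          calc ρ n * e * (ρ n * e) = ρ n * ρ n * (e * e) := by
                rw [mul_assoc, ← mul_assoc e, heρ]; simp only [mul_assoc]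
            _ = ρ n * ρ n * e := by rw [hee]
        rcases mul_self_eq_mul_self_iff.1 h5 with h6 | h6
        · exact ⟨a, by rw [hEs, hy, h6]⟩
        · exact ⟨-a, by rw [hEs, hy, h6, map_neg]⟩)
    refine ⟨κ, hEinj _ _ ?_⟩
    have h8 : J (E d) * e = J (E d) := by rw [he, ← map_mul, hEE, mul_one]
    rw [← h8, hκ]
    rw [he, ← map_smul]
    congr 1
    simp only [E]
    rw [← Pi.single_smul]
    congr 1
    ext a b
    rw [Matrix.smul_apply, Matrix.scalar_apply, Matrix.scalar_apply, Matrix.diagonal_apply, Matrix.diagonal_apply]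
    split_ifs
    · rw [Algebra.smul_def, mul_one]
    · rw [smul_zero]
  let M : (∀ i, Matrix (Fin (m i)) (Fin (m i)) K) →ₐ[K] (∀ i, Matrix (Fin (m i)) (Fin (m i)) (D i)) :=
    AlgHom.pi fun i => ((Algebra.ofId K (D i)).mapMatrix).comp (Pi.evalAlgHom K _ i)
  have hM : ∀ X i, M X i = (X i).map (algebraMap K (D i)) := fun X i => rfl
  have hMi : Function.Injective M := by
    intro X Y h
    funext i
    have h3 := congrFun h i
    rw [hM, hM] at h3
    exact Matrix.map_injective (algebraMap K (D i)).injective h3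
  have hMs : Function.Surjective M := by
    intro Y
    choose f hf using key
    refine ⟨fun i => (Y i).map (f i), ?_⟩
    funext i
    rw [hM]
    ext a b
    rw [Matrix.map_apply, Matrix.map_apply, hf]
  refine ⟨k, m, iN, J.comp M, hJ.comp hMi, fun T => ?_⟩
  rw [hJr]
  constructor
  · rintro ⟨X, hX⟩
    obtain ⟨Y, rfl⟩ := hMs X
    exact ⟨Y, hX⟩
  · rintro ⟨X, hX⟩
    exact ⟨M X, hX⟩

end Cfsg.Agent.H601.C3
end

-- part: H601/C3/Dec
section
/-!
# The decomposition of the commutant with its involution (helper601, S1920 PSU)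

`exists_dec`, `det_phi`.
-/

set_option autoImplicit false

open Module

namespace Cfsg.Agent.H601.C3

universe u v

section prod

variable {K : Type u} [Field K] {k : ℕ} {m : Fin k → ℕ}

/-- central idempotents of a product of matrix algebras -/
theorem central_idem {X : ∀ i, Matrix (Fin (m i)) (Fin (m i)) K} (hX : ∀ Y, X * Y = Y * X) (h2 : X * X = X)
    (i : Fin k) : X i = 0 ∨ X i = 1 := by
  obtain ⟨a, ha⟩ := scalar_of_central (c := X i) (fun Y => by
    have h3 := congrFun (hX (Pi.single i Y)) i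
    rwa [Pi.mul_apply, Pi.mul_apply, Pi.single_eq_same] at h3)
  have h3 : (a * a - a) • (1 : Matrix (Fin (m i)) (Fin (m i)) K) = 0 := by
    have h4 := congrFun h2 i
    rw [Pi.mul_apply, ha, smul_mul_smul_comm, one_mul] at h4
    rw [sub_smul, h4, sub_self]
  rcases smul_eq_zero.1 h3 with h4 | h4
  · have h5 : a * (a - 1) = 0 := by rw [← h4]; ring
    rcases mul_eq_zero.1 h5 with h6 | h6
    · left; rw [ha, h6, zero_smul]
    · right; rw [ha, sub_eq_zero.1 h6, one_smul]
  · left; rw [ha, h4, smul_zero]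

/-- the permutation of the components -/
theorem exists_tau [∀ i, NeZero (m i)]
    {st : (∀ i, Matrix (Fin (m i)) (Fin (m i)) K) → (∀ i, Matrix (Fin (m i)) (Fin (m i)) K)}
    (hmul : ∀ X Y, st (X * Y) = st Y * st X) (hinv : ∀ X, st (st X) = X) (hz : st 0 = 0) :
    ∃ τ : Fin k → Fin k, (∀ i, st (Pi.single i 1) = Pi.single (τ i) 1) ∧ ∀ i, τ (τ i) = i := by
  classical
  let E : Fin k → (∀ i, Matrix (Fin (m i)) (Fin (m i)) K) := fun i => Pi.single i 1
  have hEc : ∀ i X, E i * X = X * E i := by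
    intro i X
    funext j
    by_cases hj : j = i
    · subst hj
      simp only [E, Pi.mul_apply, Pi.single_eq_same, one_mul, mul_one]
    · simp only [E, Pi.mul_apply, Pi.single_eq_of_ne hj, zero_mul, mul_zero]
  have hEE : ∀ i, E i * E i = E i := by
    intro i
    simp only [E]
    rw [← Pi.single_mul, one_mul]
  have hE0 : ∀ i, E i ≠ 0 := by
    intro i h
    have h1 := congrFun h i
    simp only [E, Pi.single_eq_same, Pi.zero_apply] at h1
    exact one_ne_zero h1
  have hcen : ∀ X, (∀ Y, X * Y = Y * X) → ∀ Y, st X * Y = Y * st X := by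
    intro X hX Y
    rw [← hinv Y, ← hmul, ← hmul, hX]
  have hst0 : ∀ X, st X = 0 → X = 0 := by
    intro X h
    rw [← hinv X, h, hz]
  have hdich : ∀ X, (∀ Y, X * Y = Y * X) → X * X = X → ∀ j, E j * X = 0 ∨ E j * X = E j := by
    intro X hX h2 j
    rcases central_idem hX h2 j with h | h
    · left
      funext l
      by_cases hl : l = j
      · subst hl
        simp only [Pi.mul_apply, h, mul_zero, Pi.zero_apply]
      · simp only [E, Pi.mul_apply, Pi.single_eq_of_ne hl, zero_mul, Pi.zero_apply]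
    · right
      funext l
      by_cases hl : l = j
      · subst hl
        simp only [Pi.mul_apply, h, mul_one]
      · simp only [E, Pi.mul_apply, Pi.single_eq_of_ne hl, zero_mul]
  have hex : ∀ X, (∀ Y, X * Y = Y * X) → X * X = X → X ≠ 0 → ∃ j, E j * X = E j := by
    intro X hX h2 h0
    by_contra hn
    push Not at hn
    apply h0
    funext l
    have h1 := congrFun ((hdich X hX h2 l).resolve_right (hn l)) l
    simpa only [E, Pi.mul_apply, Pi.single_eq_same, one_mul] using h1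
  have key : ∀ i, ∃ j, st (E i) = E j := by
    intro i
    obtain ⟨j, hj⟩ := hex (st (E i)) (hcen _ (hEc i)) (by rw [← hmul, hEE]) (fun h => hE0 i (hst0 _ h))
    have h1 : E i * st (E j) = st (E j) := by
      conv_rhs => rw [← hj, hmul, hinv]
    rcases hdich (st (E j)) (hcen _ (hEc j)) (by rw [← hmul, hEE]) i with h2 | h2
    · exact absurd (hst0 _ (h1.symm.trans h2)) (hE0 j)
    · exact ⟨j, by rw [← h2, h1, hinv]⟩
  choose τ hτ using key
  refine ⟨τ, hτ, fun i => ?_⟩
  have h1 : E (τ (τ i)) = E i := by rw [← hτ, ← hτ, hinv]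
  by_contra hn
  have h2 := congrFun h1 i
  simp only [E, Pi.single_eq_same, Pi.single_eq_of_ne (Ne.symm hn)] at h2
  exact zero_ne_one h2

/-- the sum over the pairs -/
theorem sum_pairs {M : Type*} [AddCommMonoid M] {τ : Fin k → Fin k} (hτ : ∀ i, τ (τ i) = i) (f : Fin k → M) :
    ∑ i : {i : Fin k // i ≤ τ i}, (f i + if τ i = i then 0 else f (τ i)) = ∑ i, f i := by
  classical
  rw [← Finset.sum_filter_add_sum_filter_not Finset.univ (fun i : Fin k => i ≤ τ i) f, Finset.sum_add_distrib]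
  congr 1
  · exact (Finset.sum_subtype _ (by simp only [_root_.Finset.mem_filter, _root_.Finset.mem_univ, _root_.true_and, _root_.implies_true]) f).symm
  · rw [← Finset.sum_subtype (Finset.univ.filter fun i : Fin k => i ≤ τ i) (by simp only [_root_.Finset.mem_filter, _root_.Finset.mem_univ, _root_.true_and, _root_.implies_true])
      (fun i => if τ i = i then 0 else f (τ i)), Finset.sum_ite, Finset.sum_const_zero, zero_add]
    refine Finset.sum_bij' (fun i _ => τ i) (fun i _ => τ i) ?_ ?_ ?_ ?_ ?_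
    · intro i hi
      rw [Finset.mem_filter, Finset.mem_filter] at hi
      rw [Finset.mem_filter, hτ, not_le]
      exact ⟨Finset.mem_univ _, lt_of_le_of_ne hi.1.2 (Ne.symm hi.2)⟩
    · intro i hi
      rw [Finset.mem_filter, not_le] at hi
      rw [Finset.mem_filter, Finset.mem_filter, hτ]
      exact ⟨⟨Finset.mem_univ _, hi.2.le⟩, hi.2.ne'⟩
    · exact fun i _ => hτ i
    · exact fun i _ => hτ i
    · exact fun i _ => rfl

end prod

/-- squares in the field with `q²` elements -/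
theorem isSquare_of_pow {K : Type u} [Field K] [Finite K] {q : ℕ} (hq : Nat.card K = q ^ 2) (h2 : (2 : K) ≠ 0) {c : K}
    (hc : c ^ (q + 1) = 1) : IsSquare c ∧ IsSquare (-c) := by
  have := Fintype.ofFinite K
  rw [Nat.card_eq_fintype_card] at hq
  have hchar : ringChar K ≠ 2 := by
    intro h
    apply h2
    have h3 := ringChar.Nat.cast_ringChar (R := K)
    rw [h] at h3
    exact_mod_cast h3
  have hodd : q % 2 = 1 := by
    have h3 : Fintype.card K % 2 ≠ 0 := fun h => hchar (FiniteField.even_card_iff_char_two.2 h)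
    rcases Nat.mod_two_eq_zero_or_one q with h | h
    · exfalso
      apply h3
      rw [hq, sq, Nat.mul_mod, h]
    · exact h
  obtain ⟨r, hr⟩ : ∃ r, q = 2 * r + 1 := ⟨q / 2, by omega⟩
  have hcard : Fintype.card K / 2 = (q + 1) * r := by
    have h3 : Fintype.card K = 2 * ((q + 1) * r) + 1 := by rw [hq, hr]; ring
    omega
  have hev : Even (q + 1) := ⟨r + 1, by omega⟩
  have key : ∀ c : K, c ^ (q + 1) = 1 → IsSquare c := by
    intro c hc
    have hc0 : c ≠ 0 := by
      rintro rfl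
      rw [zero_pow (Nat.succ_ne_zero q)] at hc
      exact zero_ne_one hc
    rw [FiniteField.isSquare_iff hchar hc0, hcard, pow_mul, hc, one_pow]
  exact ⟨key c hc, key (-c) (by rw [hev.neg_pow, hc])⟩

/-- `σ` is not the identity -/
theorem exists_ne {K : Type u} [Field K] [Finite K] {q : ℕ} (hq : Nat.card K = q ^ 2) {σ : K ≃+* K}
    (hσ : ∀ c, σ c = c ^ q) : ∃ a, σ a ≠ a := by
  by_contra hn
  push Not at hn
  have := Fintype.ofFinite K
  obtain ⟨g, hg⟩ := IsCyclic.exists_generator (α := Kˣ)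
  have h1 : orderOf g = q ^ 2 - 1 := by
    rw [orderOf_eq_card_of_forall_mem_zpowers hg, Nat.card_units, hq]
  have hq1 : 1 < q := by
    have h3 : 1 < Nat.card K := Finite.one_lt_card
    rw [hq] at h3
    by_contra h4
    interval_cases q <;> omega
  have h2 : g ^ (q - 1) = 1 := by
    have h3 : g ^ q = g := Units.ext (by rw [Units.val_pow_eq_pow_val, ← hσ, hn])
    have h4 : g ^ (q - 1) * g = g := by rw [← pow_succ, Nat.sub_add_cancel hq1.le, h3]
    exact mul_eq_right.1 h4
  have h3 := orderOf_dvd_of_pow_eq_one h2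
  rw [h1] at h3
  have h4 := Nat.le_of_dvd (by omega) h3
  have h5 : q ^ 2 = q * q := sq q
  have h6 : q * 2 ≤ q * q := Nat.mul_le_mul_left _ hq1
  omega

variable {K : Type u} [Field K] {V : Type v} [AddCommGroup V] [Module K V]

theorem Star.one {σ : K ≃+* K} {ad : Module.End K V → Module.End K V} (S : Star σ ad) : ad 1 = 1 := by
  have h3 : ad 1 * ad (ad 1) = ad (ad 1) := by rw [← S.mul, mul_one]
  rw [S.inv, mul_one] at h3
  exact h3

theorem Star.zero {σ : K ≃+* K} {ad : Module.End K V → Module.End K V} (S : Star σ ad) : ad 0 = 0 := by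
  have h3 := S.add 0 0
  rw [add_zero] at h3
  exact left_eq_add.1 h3

/-- **the decomposition of the commutant** -/
theorem exists_dec [Finite K] [FiniteDimensional K V] {q : ℕ} (hq : Nat.card K = q ^ 2) {σ : K ≃+* K}
    (hσ : ∀ c, σ c = c ^ q) (h2 : (2 : K) ≠ 0) {ad : Module.End K V → Module.End K V} (S : Star σ ad)
    (N : Subgroup (V ≃ₗ[K] V)) [Finite N] (hN : (Nat.card N : K) ≠ 0)
    (hu : ∀ g ∈ N, ad (g : V →ₗ[K] V) * (g : V →ₗ[K] V) = 1)
    {zh : V ≃ₗ[K] V} (zN : zh ∈ N) (z_sq : zh * zh = 1) (z_comm : ∀ n ∈ N, zh * n = n * zh)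
    (comm : ∀ n ∈ N, ∀ m ∈ N, ∃ c : K, (c = 1 ∨ c = -1) ∧
      ((∀ v, (n * m) v = c • (m * n) v) ∨ (∀ v, (n * m) v = c • (zh * m * n) v)))
    (sq : ∀ n ∈ N, ∃ c : K, c ≠ 0 ∧ ((∀ v, (n * n) v = c • v) ∨ (∀ v, (n * n) v = c • zh v))) :
    ∃ (ι : Type) (_ : Fintype ι) (m : ι → ℕ) (u : ι → Bool)
      (φ : ∀ i, Matrix (Fin (m i)) (Fin (m i)) K →ₗ[K] Module.End K V), Dec σ ad N u φ := by
  classical
  have h1 := exists_ne hq hσ
  have h22 : ∀ a, σ (σ a) = a := by
    intro a
    have := Fintype.ofFinite K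
    rw [hσ, hσ, ← pow_mul, ← _root_.sq, ← hq, Nat.card_eq_fintype_card, FiniteField.pow_card]
  -- squares
  have hsq' : ∀ n ∈ N, ∃ c : K, (IsSquare c ∧ IsSquare (-c)) ∧
      ((∀ v, (n * n) v = c • v) ∨ (∀ v, (n * n) v = c • zh v)) := by
    intro n hn
    obtain ⟨c, -, h3⟩ := sq n hn
    rcases subsingleton_or_nontrivial V with hV | hV
    · exact ⟨1, isSquare_of_pow hq h2 (one_pow _), Or.inl fun v => Subsingleton.elim _ _⟩
    · refine ⟨c, isSquare_of_pow hq h2 ?_, h3⟩
      have h4 : ad (((n : V →ₗ[K] V) * (n : V →ₗ[K] V) : Module.End K V)) * ((n : V →ₗ[K] V) * (n : V →ₗ[K] V)) = 1 := by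
        rw [S.mul, mul_assoc, ← mul_assoc _ (n : V →ₗ[K] V) (n : V →ₗ[K] V), hu n hn, one_mul, hu n hn]
      have h5 : (σ c * c) • (1 : Module.End K V) = 1 := by
        rcases h3 with h3 | h3
        · have h6 : ((n : V →ₗ[K] V) * (n : V →ₗ[K] V) : Module.End K V) = c • 1 := LinearMap.ext h3
          rw [h6, S.smul, S.one, smul_mul_smul_comm, one_mul] at h4
          exact h4
        · have h6 : ((n : V →ₗ[K] V) * (n : V →ₗ[K] V) : Module.End K V) = c • (zh : V →ₗ[K] V) := LinearMap.ext h3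
          rw [h6, S.smul, smul_mul_smul_comm, hu zh zN] at h4
          exact h4
      have h6 : (σ c * c - 1) • (1 : Module.End K V) = 0 := by rw [sub_smul, h5, one_smul, sub_self]
      rcases smul_eq_zero.1 h6 with h7 | h7
      · rw [pow_succ, ← hσ]
        exact sub_eq_zero.1 h7
      · exact absurd h7 one_ne_zero
  obtain ⟨k, m, hm, J, hJ, hJr⟩ := exists_wedK N hN h2 zN z_sq z_comm comm hsq'
  -- the involution on the product
  have hst : ∀ X, ∃ Y, J Y = ad (J X) := by
    intro X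
    refine (hJr _).1 fun g hg => ?_
    have h3 : ad ((g⁻¹ : V ≃ₗ[K] V) : V →ₗ[K] V) = (g : V →ₗ[K] V) := by
      have h4 := hu g⁻¹ (inv_mem hg)
      have h5 : (((g⁻¹ : V ≃ₗ[K] V) : V →ₗ[K] V) * (g : V →ₗ[K] V) : Module.End K V) = 1 :=
        LinearMap.ext fun v => g.symm_apply_apply v
      calc ad ((g⁻¹ : V ≃ₗ[K] V) : V →ₗ[K] V)
          = ad ((g⁻¹ : V ≃ₗ[K] V) : V →ₗ[K] V) * (((g⁻¹ : V ≃ₗ[K] V) : V →ₗ[K] V) * (g : V →ₗ[K] V)) := by
            rw [h5, mul_one]
        _ = (g : V →ₗ[K] V) := by rw [← mul_assoc, h4, one_mul]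
    rw [← h3, ← S.mul, ← S.mul, (hJr (J X)).2 ⟨X, rfl⟩ g⁻¹ (inv_mem hg)]
  choose st hst using hst
  have sadd : ∀ X Y, st (X + Y) = st X + st Y := fun X Y => hJ (by rw [hst, map_add, S.add, map_add, hst, hst])
  have ssmul : ∀ (c : K) X, st (c • X) = σ c • st X := fun c X => hJ (by rw [hst, map_smul, S.smul, map_smul, hst])
  have smul : ∀ X Y, st (X * Y) = st Y * st X := fun X Y => hJ (by rw [hst, map_mul, S.mul, map_mul, hst, hst])
  have sinv : ∀ X, st (st X) = X := fun X => hJ (by rw [hst, hst, S.inv])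
  have szero : st 0 = 0 := hJ (by rw [hst, map_zero, S.zero])
  obtain ⟨τ, hτE, hτ⟩ := exists_tau smul sinv szero
  -- supports
  have hsup : ∀ i (X : Matrix (Fin (m i)) (Fin (m i)) K), st (Pi.single i X) = Pi.single (τ i) (st (Pi.single i X) (τ i)) := by
    intro i X
    have h3 : st (Pi.single i X) = st (Pi.single i X) * Pi.single (τ i) 1 := by
      rw [← hτE, ← smul, ← Pi.single_mul, one_mul]
    funext l
    by_cases hl : l = τ i
    · subst hl
      rw [Pi.single_eq_same]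
    · rw [h3, Pi.mul_apply, Pi.single_eq_of_ne hl, mul_zero, Pi.single_eq_of_ne hl]
  have hsingle : ∀ i j, i ≠ j → ∀ (X : Matrix (Fin (m i)) (Fin (m i)) K) (Y : Matrix (Fin (m j)) (Fin (m j)) K),
      (Pi.single i X * Pi.single j Y : ∀ i, Matrix (Fin (m i)) (Fin (m i)) K) = 0 := by
    intro i j hij X Y
    funext l
    rw [Pi.mul_apply, Pi.zero_apply]
    by_cases hl : l = i
    · subst hl
      rw [Pi.single_eq_of_ne hij, mul_zero]
    · rw [Pi.single_eq_of_ne hl, zero_mul]
  -- standard coordinates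
  have hPQ : ∀ i, ∃ P Q : Matrix (Fin (m i)) (Fin (m i)) K, P * Q = 1 ∧ Q * P = 1 ∧
      (τ i = i → ∀ Y, st (Pi.single i (Q * Y * P)) = Pi.single i (Q * hc σ Y * P)) := by
    intro i
    by_cases hi : τ i = i
    · have hs' : ∀ X : Matrix (Fin (m i)) (Fin (m i)) K, st (Pi.single i X) = Pi.single i (st (Pi.single i X) i) := by
        intro X
        have h3 := hsup i X
        rw [hi] at h3
        exact h3
      obtain ⟨P, Q, hPQ, hQP, h3⟩ := std h1 h22 (fun X : Matrix (Fin (m i)) (Fin (m i)) K => st (Pi.single i X) i)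
        (fun X Y => by rw [Pi.single_add, sadd]; rfl)
        (fun c X => by rw [Pi.single_smul, ssmul]; rfl)
        (fun X Y => by rw [Pi.single_mul, smul]; rfl)
        (fun X => by
          rw [← hs', sinv, Pi.single_eq_same])
      refine ⟨P, Q, hPQ, hQP, fun _ Y => ?_⟩
      rw [hs', h3]
    · exact ⟨1, 1, mul_one _, mul_one _, fun h => absurd h hi⟩
  choose P Q hPQ hQP hPQs using hPQ
  let φ : ∀ i : Fin k, Matrix (Fin (m i)) (Fin (m i)) K →ₗ[K] Module.End K V := fun i =>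
    { toFun := fun X => J (Pi.single i (Q i * X * P i))
      map_add' := fun X Y => by rw [mul_add, add_mul, Pi.single_add, map_add]
      map_smul' := fun c X => by rw [mul_smul_comm, smul_mul_assoc, Pi.single_smul, map_smul]; rfl }
  have hφ : ∀ i X, φ i X = J (Pi.single i (Q i * X * P i)) := fun _ _ => rfl
  have hφ' : ∀ i (X : Matrix (Fin (m i)) (Fin (m i)) K), φ i (P i * X * Q i) = J (Pi.single i X) := by
    intro i X
    rw [hφ]
    congr 2
    calc Q i * (P i * X * Q i) * P i = (Q i * P i) * X * (Q i * P i) := by simp only [mul_assoc]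
      _ = X := by rw [hQP, one_mul, mul_one]
  have hadφ : ∀ i X, ad (φ i X) = J (Pi.single (τ i) (st (Pi.single i (Q i * X * P i)) (τ i))) := by
    intro i X
    rw [hφ, ← hst, hsup]
    congr 1
    rw [Pi.single_eq_same]
  refine ⟨{i : Fin k // i ≤ τ i}, inferInstance, fun i => m i, fun i => decide (τ i = i), fun i => φ i, ?_⟩
  have hne : ∀ i j : {i : Fin k // i ≤ τ i}, i ≠ j → (i : Fin k) ≠ τ j := by
    intro i j hij h
    apply hij
    have h3 : τ i = j := by rw [h, hτ]
    exact Subtype.ext (le_antisymm (h3 ▸ i.2) (h ▸ j.2))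
  have hne' : ∀ i j : {i : Fin k // i ≤ τ i}, i ≠ j → (i : Fin k) ≠ j := fun i j hij h => hij (Subtype.ext h)
  refine ⟨fun i => Nat.pos_of_ne_zero (NeZero.ne _), ?_, ?_, ?_, ?_, ?_, ?_, ?_, ?_⟩
  · intro i X Y
    rw [hφ, hφ, hφ, ← map_mul, ← Pi.single_mul]
    congr 2
    calc Q i * (X * Y) * P i = Q i * X * 1 * Y * P i := by rw [mul_one]; simp only [mul_assoc]
      _ = _ := by rw [← hPQ i]; simp only [mul_assoc]
  · intro i X Y h
    rw [hφ, hφ] at h
    have h3 := Pi.single_injective _ (hJ h)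
    have h4 := congrArg (fun Z => P i * Z * Q i) h3
    simp only [← mul_assoc, hPQ, one_mul] at h4
    simpa only [mul_assoc, hPQ, mul_one] using h4
  · intro i X g hg
    exact (hJr (φ i X)).2 ⟨_, rfl⟩ g hg
  · intro i j hij X Y
    rw [hφ, hφ, ← map_mul, hsingle _ _ (hne' i j hij), map_zero]
  · intro i j hij X Y
    constructor
    · rw [hφ, hadφ, ← map_mul, hsingle _ _ (hne i j hij), map_zero]
    · rw [hadφ, hφ, ← map_mul, hsingle _ _ (Ne.symm (hne j i (Ne.symm hij))), map_zero]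
  · intro i hi X
    have hi' : τ i = i := of_decide_eq_true hi
    rw [hφ, ← hst, hPQs i hi', hφ]
  · intro i hi X Y
    have hi' : τ i ≠ i := of_decide_eq_false hi
    constructor
    · rw [hφ, hadφ, ← map_mul, hsingle _ _ (Ne.symm hi'), map_zero]
    · rw [hadφ, hφ, ← map_mul, hsingle _ _ hi', map_zero]
  · intro T hT
    obtain ⟨X, rfl⟩ := (hJr T).1 hT
    refine ⟨fun i => P i * X i * Q i, fun i => P i * (st (Pi.single (τ i) (X (τ i))) i) * Q i, ?_⟩
    have h3 : J X = ∑ i, J (Pi.single i (X i)) := by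
      rw [← map_sum]
      congr 1
      exact (Finset.univ_sum_single X).symm
    rw [h3, ← sum_pairs hτ]
    refine Finset.sum_congr rfl fun i _ => ?_
    rw [hφ']
    congr 1
    by_cases hi : τ i = i
    · rw [if_pos hi, if_pos (decide_eq_true hi)]
    · rw [if_neg hi, if_neg (by rw [decide_eq_true_eq]; exact hi), hφ', ← hst]
      congr 1
      have h4 := hsup (τ i) (X (τ i))
      rw [hτ] at h4
      rw [← h4, sinv]

end Cfsg.Agent.H601.C3
end

-- part: H601/C3/RowPSU
section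
/-!
# S1920, case B: the row `PSU_n(q)`, `q` odd (helper601, with helper330, helper375)
-/

set_option autoImplicit false

open Subgroup Module

namespace Cfsg.Agent.H601.C3

open Cfsg.Agent.H415.C3
open Cfsg.Agent.H13.Co3 (CB)
open Cfsg.Agent.H375.C3 (card_ne psu_false_of)

/-- **`PSU_n(q)`, `q` odd, has no configuration `CB`.** -/
theorem psu_odd {G : Type*} [Group G] [Finite G] {F : Type*} [Field F] [Finite F] (h2 : (2 : F) ≠ 0) {n q : ℕ}
    (hF : Nat.card F = q ^ 2) (hn : 3 ≤ n)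
    (e : G ≃* Cfsg.PSU n F q) {P N0 : Subgroup G} {z s : G}
    {ψ : ↥(normalizer (P : Set G)) →* Equiv.Perm (Fin 6)} (C : CB P N0 z s ψ) : False := by
  obtain ⟨A, E, x, r, φ, Kt⟩ := exists_kit C
  obtain ⟨σ, ad, Gh, π, hσ, hσσ, hS, hdet, hGh, hL⟩ := exists_linU hF hn e
  have hVV : Finite ((Fin n → F) ≃ₗ[F] (Fin n → F)) :=
    Finite.of_injective (fun f : (Fin n → F) ≃ₗ[F] (Fin n → F) => (f : (Fin n → F) → (Fin n → F))) DFunLike.coe_injective
  obtain ⟨Nh, Eh, zh, sh, xh, rh, L⟩ := exists_lkit hL h2 Kt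
  have hu : ∀ g ∈ Nh, ad (g : (Fin n → F) →ₗ[F] (Fin n → F)) * (g : (Fin n → F) →ₗ[F] (Fin n → F)) = 1 := by
    intro g hg
    obtain ⟨hg1, -⟩ := (L.mem_Nh g).1 hg
    have h3 := ((hGh g).1 hg1).1
    exact mul_eq_one_comm.1 h3
  obtain ⟨ι, hι, m, u, φ', hD⟩ := exists_dec hF hσ h2 hS Nh (card_ne h2 Kt hL L) hu L.zN L.z_sq L.z_comm L.comm L.sq
  obtain ⟨d, hd⟩ := det_phi hD
  refine psu_false_of h2 Kt hL L hS hD hGh hF hσ hdet fun i h3 hui _ => ?_
  refine Cfsg.Agent.H330.C3.unitary_three h2 Kt hL L hS hF hσ (exists_ne hF hσ) hσσ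
    (fun g h4 h5 => (hGh g).2 ⟨mul_eq_one_comm.1 h4, h5⟩) h3 (hD.mul i) (hD.inj i) (hD.comm i) (hD.star i hui)
    (d := d i) fun X => ?_
  rw [← hd i X, map_sub]
  congr 1
  abel

universe u

open Cfsg in
/-- **The row `IsPSU`**, from the characteristic 2 case. -/
theorem row_psu_of (H : ∀ (G : Type u) [Group G] [Finite G] [IsSimpleGroup G] (P N0 : Subgroup G) (z s : G)
    (ψ : ↥(normalizer (P : Set G)) →* Equiv.Perm (Fin 6)), CB P N0 z s ψ → IsLieTypeChar 2 G → False) :
    Cfsg.Agent.H527.Co3.Row.{u} @IsPSU := by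
  intro G _ _ _ hG P N0 z s ψ C
  obtain ⟨F, hF, hFf, n, q, hc, hn, hn2, ⟨e⟩⟩ := hG
  by_cases h2 : (2 : F) = 0
  · have hch : CharP F 2 := CharTwo.of_one_ne_zero_of_two_eq_zero one_ne_zero h2
    exact H G P N0 z s ψ C (Or.inr (Or.inr (Or.inl ⟨F, hF, hFf, hch, n, q, hc, hn, hn2, ⟨e⟩⟩)))
  · exact psu_odd h2 (by rw [Nat.card_eq_fintype_card, hc]) hn e C

end Cfsg.Agent.H601.C3
end

private theorem dce_c5137061d975 : _root_.True := by
  try have : _root_.True := by simp only [_root_.Cfsg.Agent.H601.C3.adU.eq_1]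
  exact _root_.True.intro
end

-- part: H375/C3/RowPSL
section
set_option linter.all false

/-!
# S1920, case B: the row `PSL_n(F)`, `|F|` odd (helper375)
-/

set_option autoImplicit false

open Subgroup Module

namespace Cfsg.Agent.H375.C3

open Cfsg.Agent.H415.C3
open Cfsg.Agent.H13.Co3 (CB)

/-- **`PSL_n(F)`, `|F|` odd, has no configuration `CB`.** -/
theorem psl_odd {G : Type*} [Group G] [Finite G] {F : Type*} [Field F] [Finite F] (h2 : (2 : F) ≠ 0) {n : ℕ}
    (e : G ≃* Matrix.ProjectiveSpecialLinearGroup (Fin n) F) {P N0 : Subgroup G} {z s : G}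
    {ψ : ↥(normalizer (P : Set G)) →* Equiv.Perm (Fin 6)} (C : CB P N0 z s ψ) : False := by
  obtain ⟨A, E, x, r, φ, Kt⟩ := exists_kit C
  obtain ⟨π, hL⟩ := exists_lin e
  have hVV : Finite ((Fin n → F) ≃ₗ[F] (Fin n → F)) :=
    Finite.of_injective (fun f : (Fin n → F) ≃ₗ[F] (Fin n → F) => (f : (Fin n → F) → (Fin n → F))) DFunLike.coe_injective
  obtain ⟨Nh, Eh, zh, sh, xh, rh, L⟩ := exists_lkit hL h2 Kt
  exact psl_false h2 Kt hL L fun g hg => mem_slV.2 hg

universe u

open Cfsg in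
/-- **The row `IsPSL`**, from the characteristic 2 case (`H738/C3/Char2Rows.false_of_lieTwo`). -/
theorem row_psl_of (H : ∀ (G : Type u) [Group G] [Finite G] [IsSimpleGroup G] (P N0 : Subgroup G) (z s : G)
    (ψ : ↥(normalizer (P : Set G)) →* Equiv.Perm (Fin 6)), CB P N0 z s ψ → IsLieTypeChar 2 G → False) :
    Cfsg.Agent.H527.Co3.Row.{u} @IsPSL := by
  intro G _ _ _ hG P N0 z s ψ C
  obtain ⟨F, hF, hFf, n, hn, hn2, ⟨e⟩⟩ := hG
  by_cases h2 : (2 : F) = 0
  · have hch : CharP F 2 := CharTwo.of_one_ne_zero_of_two_eq_zero one_ne_zero h2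
    exact H G P N0 z s ψ C (Or.inl ⟨F, hF, hFf, hch, n, hn, hn2, ⟨e⟩⟩)
  · exact psl_odd h2 e C

end Cfsg.Agent.H375.C3
end

-- part: H129/Co3/Gen
section
prune_inst 0x54070044a40000000018000e0201c5282000020000804000403020406888c40048088e0900000054a00000500350808111000000200000000000000011801801050040000000008000010000080000000000000010000000000000000000000000000000
set_option linter.all false
open scoped Cfsg.Agent.FastGrp

-- part: H275/Co3/Lift
section
/-!
# S1920: the kit lifts to central extensions of odd order (helper275)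

`eq_of_two` : 2-elements with the same image are equal; `kit_lift` : the kit of `G` lifts to `Gh`.
-/

set_option autoImplicit false

open Subgroup Equiv.Perm
open scoped commutatorElement

namespace Cfsg.Agent.H275.Co3

open Cfsg.Agent.H415.C3

section lift

variable {G Gh : Type*} [Group G] [Group Gh] {f : Gh →* G}

/-- 2-elements with the same image are equal -/
theorem eq_of_two (hc : ∀ g, f g = 1 → ∀ x, g * x = x * g) (hodd : Odd (Nat.card f.ker)) {a b : Gh}
    (ha : ∃ k, a ^ 2 ^ k = 1) (hb : ∃ k, b ^ 2 ^ k = 1) (h : f a = f b) : a = b := by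
  obtain ⟨k, hk⟩ := ha
  obtain ⟨l, hl⟩ := hb
  have h1 : f (a * b⁻¹) = 1 := by rw [map_mul, map_inv, h, mul_inv_cancel]
  have hcom : Commute (a * b⁻¹) b := hc _ h1 b
  have h2 : a = (a * b⁻¹) * b := by group
  have h3 : (a * b⁻¹) ^ 2 ^ (k + l) = 1 := by
    have h4 : a ^ 2 ^ (k + l) = 1 := by rw [pow_add, pow_mul, hk, one_pow]
    have h5 : b ^ 2 ^ (k + l) = 1 := by rw [add_comm, pow_add, pow_mul, hl, one_pow]
    rw [h2, hcom.mul_pow, h5, mul_one] at h4
    exact h4
  have h4 : orderOf (a * b⁻¹) ∣ 2 ^ (k + l) := orderOf_dvd_of_pow_eq_one h3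
  have h5 : orderOf (⟨a * b⁻¹, h1⟩ : f.ker) ∣ Nat.card f.ker := _root_.orderOf_dvd_natCard _
  rw [← Subgroup.orderOf_coe] at h5
  have h6 : orderOf (a * b⁻¹) ∣ 1 := by
    have h7 : (Nat.card f.ker).Coprime (2 ^ (k + l)) := ((Nat.coprime_two_right).2 hodd).pow_right _
    exact h7 ▸ Nat.dvd_gcd h5 h4
  have h7 : a * b⁻¹ = 1 := orderOf_eq_one_iff.1 (Nat.dvd_one.1 h6)
  exact mul_inv_eq_one.1 h7

theorem two_conj {a : Gh} (ha : ∃ k, a ^ 2 ^ k = 1) (g : Gh) : ∃ k, (g * a * g⁻¹) ^ 2 ^ k = 1 := by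
  obtain ⟨k, hk⟩ := ha
  exact ⟨k, by rw [conj_pow, hk, mul_one, mul_inv_cancel]⟩

/-- a 2-element commutes with everything which commutes with it below -/
theorem comm_of_two (hc : ∀ g, f g = 1 → ∀ x, g * x = x * g) (hodd : Odd (Nat.card f.ker)) {a g : Gh}
    (ha : ∃ k, a ^ 2 ^ k = 1) (h : f g * f a = f a * f g) : g * a = a * g := by
  have h1 := eq_of_two hc hodd (two_conj ha g) ha (by rw [map_mul, map_mul, map_inv, h, mul_inv_cancel_right])
  rwa [mul_inv_eq_iff_eq_mul] at h1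

end lift

end Cfsg.Agent.H275.Co3
end

-- part: H275/Co3/LiftCB
section
/-!
# S1920: the configuration of case B lifts to central extensions of odd order (helper275)

`exists_syl` : a 2-subgroup of `G` lifts; `exists_cb` : `CB` lifts.
-/

set_option autoImplicit false

open Subgroup Equiv.Perm

namespace Cfsg.Agent.H275.Co3

open Cfsg.Agent.H13.Co3

section lift

variable {G Gh : Type*} [Group G] [Group Gh] {f : Gh →* G}

/-- a 2-subgroup lifts to a 2-subgroup, which contains all 2-elements above it -/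
theorem exists_syl [Finite Gh] (hf : Function.Surjective f) (hc : ∀ g, f g = 1 → ∀ x, g * x = x * g) (hodd : Odd (Nat.card f.ker))
    {N0 : Subgroup G} (h2 : IsPGroup 2 N0) : ∃ Nh : Subgroup Gh, IsPGroup 2 Nh ∧ Nh.map f = N0 ∧
      Nat.card Nh = Nat.card N0 ∧ (∀ g : Gh, (∃ k, g ^ 2 ^ k = 1) → f g ∈ N0 → g ∈ Nh) := by
  classical
  have h2p : Fact (Nat.Prime 2) := ⟨Nat.prime_two⟩
  have hG : Finite G := Finite.of_surjective f hf
  obtain ⟨e, hcard⟩ := (IsPGroup.iff_card (p := 2)).1 h2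
  set C : Subgroup Gh := N0.comap f with hC
  obtain ⟨S⟩ : Nonempty (Sylow 2 C) := inferInstance
  set Nh : Subgroup Gh := (S : Subgroup C).map C.subtype with hNh
  have hN2 : IsPGroup 2 Nh := S.isPGroup'.map _
  have htwo : ∀ n ∈ Nh, ∃ k, n ^ 2 ^ k = 1 := by
    intro n hn
    obtain ⟨k, hk⟩ := hN2 ⟨n, hn⟩
    exact ⟨k, congrArg Subtype.val hk⟩
  have hfN : ∀ n ∈ Nh, f n ∈ N0 := by
    rintro _ ⟨n, -, rfl⟩
    exact n.2
  have hinj : ∀ a ∈ Nh, ∀ b ∈ Nh, f a = f b → a = b := fun a ha b hb h => eq_of_two hc hodd (htwo a ha) (htwo b hb) h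
  have hcC : Nat.card C = 2 ^ e * Nat.card f.ker := by
    have h1 := (f.comp C.subtype).ker.card_mul_index
    rw [index_ker, MonoidHom.range_comp, range_subtype] at h1
    have h2 : (f.comp C.subtype).ker = f.ker.subgroupOf C := by
      ext x
      rfl
    have h3 : C.map f = N0 := by rw [hC, map_comap_eq_self_of_surjective hf]
    have hle : f.ker ≤ C := by
      intro x hx
      rw [hC, mem_comap, MonoidHom.mem_ker.1 hx]
      exact one_mem _
    rw [h2, Nat.card_congr (subgroupOfEquivOfLe hle).toEquiv, h3, hcard, mul_comm] at h1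
    exact h1.symm
  have hcS : Nat.card Nh = Nat.card N0 := by
    have h1 : Nat.card Nh = Nat.card (S : Subgroup C) :=
      (Nat.card_congr ((S : Subgroup C).equivMapOfInjective C.subtype C.subtype_injective).toEquiv).symm
    have h2 := S.card_eq_multiplicity
    have h3 : (Nat.card C).factorization 2 = e := by
      rw [hcC, Nat.factorization_mul (by positivity) Nat.card_pos.ne', Nat.Prime.factorization_pow Nat.prime_two]
      have h4 : (Nat.card f.ker).factorization 2 = 0 := by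
        apply Nat.factorization_eq_zero_of_not_dvd
        intro h5
        exact (Nat.not_even_iff_odd.2 hodd) (even_iff_two_dvd.2 h5)
      rw [Finsupp.add_apply, h4, add_zero, Finsupp.single_eq_same]
    rw [h3] at h2
    rw [h1, hcard]
    exact h2
  have hmap : Nh.map f = N0 := by
    refine Subgroup.eq_of_le_of_card_ge ?_ ?_
    · rintro _ ⟨n, hn, rfl⟩
      exact hfN n hn
    · have h1 : Nat.card (Nh.map f) = Nat.card Nh := by
        refine (Nat.card_congr (Equiv.ofBijective (fun n : Nh => (⟨f n, mem_map_of_mem f n.2⟩ : Nh.map f)) ⟨?_, ?_⟩)).symm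
        · intro a b hab
          exact Subtype.ext (hinj a a.2 b b.2 (congrArg Subtype.val hab))
        · rintro ⟨_, n, hn, rfl⟩
          exact ⟨⟨n, hn⟩, rfl⟩
      rw [h1, hcS]
  refine ⟨Nh, hN2, hmap, hcS, ?_⟩
  intro g hg hgN
  rw [← hmap] at hgN
  obtain ⟨m, hm, hmg⟩ := hgN
  rw [← eq_of_two hc hodd (htwo m hm) hg hmg]
  exact hm

/-- the normaliser of the lift -/
theorem normalizer_lift {P : Subgroup G} {Ph : Subgroup Gh} (h2 : IsPGroup 2 Ph)
    (hmap : Ph.map f = P) (hmem : ∀ g : Gh, (∃ k, g ^ 2 ^ k = 1) → f g ∈ P → g ∈ Ph) :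
    normalizer (Ph : Set Gh) = (normalizer (P : Set G)).comap f := by
  have htwo : ∀ n ∈ Ph, ∃ k, n ^ 2 ^ k = 1 := by
    intro n hn
    obtain ⟨k, hk⟩ := h2 ⟨n, hn⟩
    exact ⟨k, congrArg Subtype.val hk⟩
  have hfP : ∀ n ∈ Ph, f n ∈ P := fun n hn => hmap ▸ mem_map_of_mem f hn
  ext g
  rw [mem_comap, mem_normalizer_iff, mem_normalizer_iff]
  constructor
  · intro h p
    constructor
    · intro hp
      rw [← hmap] at hp
      obtain ⟨m, hm, rfl⟩ := hp
      have h1 := hfP _ ((h m).1 hm)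
      rwa [map_mul, map_mul, map_inv] at h1
    · intro hp
      rw [← hmap] at hp
      obtain ⟨m, hm, hmp⟩ := hp
      have h1 : g⁻¹ * m * g ∈ Ph := by
        rw [h]
        have e : g * (g⁻¹ * m * g) * g⁻¹ = m := by group
        rw [e]; exact hm
      have h2 := hfP _ h1
      rw [map_mul, map_mul, map_inv, hmp] at h2
      have e : (f g)⁻¹ * (f g * p * (f g)⁻¹) * f g = p := by group
      rwa [e] at h2
  · intro h p
    constructor
    · intro hp
      refine hmem _ (two_conj (htwo p hp) g) ?_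
      rw [map_mul, map_mul, map_inv]
      exact (h _).1 (hfP p hp)
    · intro hp
      have e : p = g⁻¹ * (g * p * g⁻¹) * g⁻¹⁻¹ := by group
      refine hmem _ ?_ ?_
      · rw [e]; exact two_conj (htwo _ hp) g⁻¹
      · have h2 := hfP _ hp
        rw [map_mul, map_mul, map_inv] at h2
        exact (h _).2 h2

end lift

/-- **The configuration of case B lifts.** -/
theorem exists_cb {G Gh : Type*} [Group G] [Group Gh] [Finite Gh] (f : Gh →* G) (hf : Function.Surjective f)
    (hc : ∀ g, f g = 1 → ∀ x, g * x = x * g) (hodd : Odd (Nat.card f.ker)) {P N0 : Subgroup G} {z s : G}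
    {ψ : ↥(normalizer (P : Set G)) →* Equiv.Perm (Fin 6)} (C : CB P N0 z s ψ) :
    ∃ (Ph Nh : Subgroup Gh) (zh sh : Gh) (ψh : ↥(normalizer (Ph : Set Gh)) →* Equiv.Perm (Fin 6)),
      CB Ph Nh zh sh ψh ∧ normalizer (Ph : Set Gh) = (normalizer (P : Set G)).comap f ∧ Ph.map f = P ∧ Nh.map f = N0 ∧
        f zh = z ∧ f sh = s ∧
        (∀ g (hg : f g ∈ normalizer (P : Set G)) (hg' : g ∈ normalizer (Ph : Set Gh)), ψh ⟨g, hg'⟩ = ψ ⟨f g, hg⟩) := by
  classical
  have h2p : Fact (Nat.Prime 2) := ⟨Nat.prime_two⟩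
  have hG : Finite G := Finite.of_surjective f hf
  obtain ⟨Nh, hN2, hmap, hcN, hmem⟩ := exists_syl hf hc hodd C.N_two
  obtain ⟨Ph, hP2, hmapP, -, hmemP⟩ := exists_syl hf hc hodd C.P_two
  have hnorm := normalizer_lift hP2 hmapP hmemP
  have htwo : ∀ n ∈ Nh, ∃ k, n ^ 2 ^ k = 1 := by
    intro n hn
    obtain ⟨k, hk⟩ := hN2 ⟨n, hn⟩
    exact ⟨k, congrArg Subtype.val hk⟩
  have htwoP : ∀ n ∈ Ph, ∃ k, n ^ 2 ^ k = 1 := by
    intro n hn
    obtain ⟨k, hk⟩ := hP2 ⟨n, hn⟩
    exact ⟨k, congrArg Subtype.val hk⟩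
  have hfN : ∀ n ∈ Nh, f n ∈ N0 := fun n hn => hmap ▸ mem_map_of_mem f hn
  have hfP : ∀ n ∈ Ph, f n ∈ P := fun n hn => hmapP ▸ mem_map_of_mem f hn
  have hinj : ∀ a ∈ Nh, ∀ b ∈ Nh, f a = f b → a = b := fun a ha b hb h => eq_of_two hc hodd (htwo a ha) (htwo b hb) h
  have hex : ∀ n ∈ N0, ∃ m ∈ Nh, f m = n := by
    intro n hn
    rw [← hmap] at hn
    obtain ⟨m, hm, hmn⟩ := hn
    exact ⟨m, hm, hmn⟩
  have hPN : Ph ≤ Nh := fun p hp => hmem p (htwoP p hp) (C.PN (hfP p hp))
  obtain ⟨sh, hsN, hfs⟩ := hex s C.sN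
  have hfz : f (sh * sh) = z := by rw [map_mul, hfs, C.s_sq]
  have hzN : sh * sh ∈ Nh := mul_mem hsN hsN
  have hzP : sh * sh ∈ Ph := hmemP _ (htwo _ hzN) (by rw [hfz]; exact C.zP)
  -- the homomorphism
  have hle : normalizer (Ph : Set Gh) ≤ (normalizer (P : Set G)).comap f := hnorm.le
  let g0 : ↥(normalizer (Ph : Set Gh)) →* ↥(normalizer (P : Set G)) :=
    (f.comp (normalizer (Ph : Set Gh)).subtype).codRestrict _ (fun x => hle x.2)
  have hg0 : Function.Surjective g0 := by
    rintro ⟨y, hy⟩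
    obtain ⟨x, rfl⟩ := hf y
    exact ⟨⟨x, by rw [hnorm]; exact hy⟩, rfl⟩
  have hg0f : ∀ x, ((g0 x : ↥(normalizer (P : Set G))) : G) = f x := fun _ => rfl
  -- lifts of normalising elements
  have hnN : ∀ g : Gh, f g ∈ normalizer (N0 : Set G) → g ∈ normalizer (Nh : Set Gh) := by
    intro g hg
    rw [normalizer_lift hN2 hmap hmem]
    exact hg
  have hnN' : ∀ g : Gh, g ∈ normalizer (Nh : Set Gh) → f g ∈ normalizer (N0 : Set G) := by
    intro g hg
    rw [normalizer_lift hN2 hmap hmem] at hg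
    exact hg
  refine ⟨Ph, Nh, sh * sh, sh, ψ.comp g0,
    { P_two := hP2
      zP := hzP
      PN := hPN
      NH := ?_
      N_two := hN2
      card := by rw [hcN, C.card]
      sN := hsN
      s_sq := rfl
      z_sq := ?_
      z_ne := ?_
      s_cen := ?_
      sq := ?_
      comm := ?_
      cen := ?_
      z_cen := ?_
      surj := C.surj.comp hg0
      psi_N := ?_
      ker_card := ?_
      ker_solv := ?_
      ker_eq := ?_
      even := ?_
      frat := ?_
      inv_s := ?_ }, hnorm, hmapP, hmap, hfz, hfs, fun g hg hg' => rfl⟩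
  · intro n hn
    rw [hnorm]
    exact C.NH (hfN n hn)
  · exact hinj _ (mul_mem hzN hzN) _ (one_mem _) (by rw [map_mul, hfz, C.z_sq, map_one])
  · intro h
    apply C.z_ne
    rw [← hfz, h, map_one]
  · intro n hn
    exact comm_of_two hc hodd (htwo sh hsN) (by rw [hfs]; exact C.s_cen _ (hfN n hn))
  · intro n hn
    rcases C.sq _ (hfN n hn) with h | h
    · left
      exact hinj _ (mul_mem hn hn) _ (one_mem _) (by rw [map_mul, h, map_one])
    · right
      exact hinj _ (mul_mem hn hn) _ hzN (by rw [map_mul, h, hfz])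
  · intro n hn m hm'
    rcases C.comm _ (hfN n hn) _ (hfN m hm') with h | h
    · left
      exact hinj _ (mul_mem hn hm') _ (mul_mem hm' hn) (by rw [map_mul, h, map_mul])
    · right
      exact hinj _ (mul_mem hn hm') _ (mul_mem hzN (mul_mem hm' hn)) (by rw [map_mul, h, map_mul, hfz, map_mul])
  · intro n hn h
    have h1 : f n ∈ zpowers s := by
      apply C.cen _ (hfN n hn)
      intro m hm'
      obtain ⟨m', hm'', rfl⟩ := hex m hm'
      rw [← map_mul, h m' hm'', map_mul]
    obtain ⟨i, hi⟩ := mem_zpowers_iff.1 h1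
    exact mem_zpowers_iff.2 ⟨i, hinj _ (zpow_mem hsN i) _ hn (by rw [map_zpow, hfs, hi])⟩
  · intro h hh
    rw [hnorm] at hh
    exact comm_of_two hc hodd (htwo _ hzN) (by rw [hfz]; exact C.z_cen _ hh)
  · intro n hn
    exact C.psi_N (f n) (hfN n hn)
  · obtain ⟨m', hm', hcard⟩ := C.ker_card
    refine ⟨m' * Nat.card f.ker, hm'.mul hodd, ?_⟩
    have h1 : Nat.card (ψ.comp g0).ker = Nat.card ψ.ker * Nat.card g0.ker := by
      have h3 := card_mul_index g0.ker
      rw [index_ker, MonoidHom.range_eq_top.2 hg0, card_top] at h3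
      have h4 := card_mul_index ((ψ.comp g0).ker)
      have h5 : (ψ.comp g0).ker.index = ψ.ker.index := by
        rw [← MonoidHom.comap_ker, index_comap_of_surjective _ hg0]
      have h6 := card_mul_index ψ.ker
      have h7 : ψ.ker.index ≠ 0 := index_ne_zero_of_finite
      rw [h5, ← h3, ← h6] at h4
      apply mul_right_cancel₀ h7
      rw [h4]; ring
    have h2 : Nat.card g0.ker = Nat.card f.ker := by
      refine Nat.card_congr ⟨fun a => ⟨a.1.1, ?_⟩, fun a => ⟨⟨a.1, ?_⟩, ?_⟩, fun _ => rfl, fun _ => rfl⟩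
      · exact congrArg Subtype.val (MonoidHom.mem_ker.1 a.2)
      · rw [hnorm, mem_comap, MonoidHom.mem_ker.1 a.2]; exact one_mem _
      · exact Subtype.ext (MonoidHom.mem_ker.1 a.2)
    rw [h1, h2, hcard]
    ring
  · have h0 : Group.IsSolvable ψ.ker := C.ker_solv
    have hcomm : ∀ a b : g0.ker, a * b = b * a := by
      intro a b
      apply Subtype.ext
      apply Subtype.ext
      exact hc _ (congrArg Subtype.val (MonoidHom.mem_ker.1 a.2)) _
    have h1 : Group.IsSolvable g0.ker := Group.isSolvable_of_comm hcomm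
    let i : g0.ker →* (ψ.comp g0).ker := Subgroup.inclusion (fun y hy => by
      rw [MonoidHom.mem_ker, MonoidHom.comp_apply, MonoidHom.mem_ker.1 hy, map_one])
    let g' : (ψ.comp g0).ker →* ψ.ker :=
      (g0.comp (ψ.comp g0).ker.subtype).codRestrict ψ.ker (fun y => y.2)
    refine Group.isSolvable_of_ker_le_range i g' ?_
    rintro ⟨y, hy⟩ hyk
    have h3 : g0 y = 1 := congrArg Subtype.val hyk
    exact ⟨⟨y, h3⟩, rfl⟩
  · -- the kernel
    intro h hh
    obtain ⟨n, hn, o, hno, ho⟩ := C.ker_eq (g0 h) hh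
    obtain ⟨n', hn', rfl⟩ := hex n hn
    refine ⟨n', hn', n'⁻¹ * h, by group, ?_⟩
    have h1 : f (n'⁻¹ * h) = o := by
      rw [map_mul, map_inv]
      rw [hg0f] at hno
      rw [hno]; group
    -- the order divides `orderOf o * |ker f|`
    have h2 : (n'⁻¹ * (h : Gh)) ^ orderOf o ∈ f.ker := by
      rw [MonoidHom.mem_ker, map_pow, h1, pow_orderOf_eq_one]
    have h3 : orderOf ((n'⁻¹ * (h : Gh)) ^ orderOf o) ∣ Nat.card f.ker := by
      have h4 : orderOf (⟨_, h2⟩ : f.ker) ∣ Nat.card f.ker := _root_.orderOf_dvd_natCard _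
      rwa [← Subgroup.orderOf_coe] at h4
    have h4 : (n'⁻¹ * (h : Gh)) ^ (orderOf o * Nat.card f.ker) = 1 := by
      rw [pow_mul]
      exact orderOf_dvd_iff_pow_eq_one.1 h3
    exact (ho.mul hodd).of_dvd_nat (orderOf_dvd_of_pow_eq_one h4)
  · intro π hπ
    obtain ⟨h, hh, hhπ⟩ := C.even π hπ
    obtain ⟨h', rfl⟩ := hg0 h
    refine ⟨h', ?_, hhπ⟩
    intro n hn
    exact comm_of_two hc hodd (htwo n hn) (hh _ (hfN n hn))
  · intro π
    obtain ⟨h, hh, hhπ⟩ := C.frat π
    obtain ⟨h', rfl⟩ := hg0 h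
    exact ⟨h', hnN _ hh, hhπ⟩
  · intro h hh
    have h1 := C.inv_s (g0 h) (hnN' _ hh)
    change Equiv.Perm.sign (ψ (g0 h)) = 1 ↔ _
    rw [h1, hg0f]
    constructor
    · intro h2
      exact comm_of_two hc hodd (htwo sh hsN) (by rw [hfs]; exact h2)
    · intro h2
      rw [← hfs, ← map_mul, h2, map_mul]

end Cfsg.Agent.H275.Co3
end

-- part: H512/DFive/Cliff
section
/-!
# `D₅ T₁ ≤ E₆` on the 27-dimensional module: Clifford relations (helper512, for S1920)

The 27 coordinates split as `1 + 10 + 16` (`ty x = 0, 2, 1`); `cr v s` is the product with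
`T3 v s w = ∑ x, cr v s x * w x`; `til` the duality of the 10-dimensional part, `BB u w = T3 e₀ u w` its form.

* `cliff` : `u × (w~ × y) + w × (u~ × y) = BB u w • y` for `u, w` in the 10-dimensional, `y` in the 16-dimensional part.
-/

set_option autoImplicit false

namespace Cfsg.Agent.H512.DFive

open Cfsg Cfsg.Lie Matrix
open Cfsg.Agent.ChevalleyStructure.E6Min Cfsg.Agent.ChevalleyStructure.E6Min.Tables
  Cfsg.Agent.ChevalleyStructure.E6Min.Basic Cfsg.Agent.ChevalleyStructure.E6Min.Forms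
  Cfsg.Agent.ChevalleyStructure.E6Min.Inv Cfsg.Agent.ChevalleyStructure.E6Min.Elim

/-- the first weight -/
def i0 : I27 := dec 0

/-- type of a coordinate: `0` the first weight, `2` the 10-dimensional part, `1` the 16-dimensional part -/
def ty (x : I27) : ℕ := relN 0 (code x)

/-- the opposite coordinate in the 10-dimensional part -/
def opp (x : I27) : I27 := dec (thN 0 (code x))

/-- its sign -/
def sgm (x : I27) : ℤ := tsN (tnN 0 (code x))

theorem code_i0 : code i0 = 0 := code_dec (by norm_num)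

theorem ty_eq (x : I27) : ty x = rel i0 x := by unfold ty rel; rw [code_i0]

theorem opp_eq (x : I27) : opp x = th i0 x := by unfold opp th; rw [code_i0]

theorem ty_cases (x : I27) : (x = i0 ∧ ty x = 0) ∨ ty x = 1 ∨ ty x = 2 := by
  rcases rel_cases i0 x with h | h | h
  · left
    refine ⟨h.symm, ?_⟩
    rw [ty_eq, rel_eq_zero_iff, h]
  · right; left; rw [ty_eq, h]
  · right; right; rw [ty_eq, h]

theorem ty_i0 : ty i0 = 0 := by rw [ty_eq, rel_eq_zero_iff]

theorem tab_opp : allLt 27 (fun k => !(relN 0 k == 2) || (Nat.blt (thN 0 k) 27 && (relN 0 (thN 0 k) == 2) &&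
    (thN 0 (thN 0 k) == k) && (tsN (tnN 0 (thN 0 k)) == tsN (tnN 0 k)) && ((tsN (tnN 0 k)) * (tsN (tnN 0 k)) == 1) &&
    !(thN 0 k == k))) = true := by
  decide +kernel

theorem opp_spec {x : I27} (h : ty x = 2) : ty (opp x) = 2 ∧ opp (opp x) = x ∧ sgm (opp x) = sgm x ∧
    sgm x * sgm x = 1 ∧ opp x ≠ x := by
  have h1 := allLt_spec tab_opp _ (code_lt x)
  simp only [Bool.or_eq_true, Bool.and_eq_true, Nat.blt_eq, beq_iff_eq, Bool.not_eq_true', beq_eq_false_iff_ne] at h1
  rcases h1 with h1 | h1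
  · exact absurd h h1
  · obtain ⟨⟨⟨⟨⟨h1, h2⟩, h3⟩, h4⟩, h5⟩, h6⟩ := h1
    have hc : code (opp x) = thN 0 (code x) := code_dec h1
    refine ⟨?_, ?_, ?_, h5, ?_⟩
    · unfold ty; rw [hc]; exact h2
    · unfold opp
      rw [show code (dec (thN 0 (code x))) = thN 0 (code x) from code_dec h1, h3, dec_code]
    · unfold sgm; rw [hc]; exact h4
    · intro h7
      apply h6
      rw [← hc, h7]

variable {F : Type*} [Field F]

/-! ### the product -/

theorem T3_add_left (u u' v w : I27 → F) : T3 (u + u') v w = T3 u v w + T3 u' v w := by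
  unfold T3
  rw [← Finset.sum_add_distrib]
  refine Finset.sum_congr rfl fun n _ => ?_
  simp only [Pi.add_apply]
  ring

/-- the product -/
def cr (v s : I27 → F) : I27 → F := fun x => T3 v s (e F x)

theorem cr_comm (v s : I27 → F) : cr v s = cr s v := funext fun _ => T3_swap _ _ _

theorem cr_add_left (v v' s : I27 → F) : cr (v + v') s = cr v s + cr v' s := funext fun _ => T3_add_left _ _ _ _

theorem cr_smul_left (c : F) (v s : I27 → F) : cr (c • v) s = c • cr v s := funext fun _ => T3_smul_left _ _ _ _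

theorem cr_add_right (v s s' : I27 → F) : cr v (s + s') = cr v s + cr v s' := by
  rw [cr_comm, cr_add_left, cr_comm s, cr_comm s']

theorem cr_smul_right (c : F) (v s : I27 → F) : cr v (c • s) = c • cr v s := by
  rw [cr_comm, cr_smul_left, cr_comm s]

theorem cr_zero_left (s : I27 → F) : cr 0 s = 0 := by
  have := cr_smul_left (0 : F) 0 s
  rwa [zero_smul, zero_smul] at this

theorem cr_zero_right (s : I27 → F) : cr s 0 = 0 := by rw [cr_comm, cr_zero_left]

theorem T3_eq (u v w : I27 → F) : T3 u v w = cr u v ⬝ᵥ w := by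
  have h1 : w = ∑ x, w x • e F x := by
    funext y
    rw [Finset.sum_apply, Finset.sum_eq_single y]
    · simp [e_apply]
    · intro x _ hxy
      simp [e_apply, Ne.symm hxy]
    · intro h; exact absurd (Finset.mem_univ _) h
  have h2 : T3 u v w = T3L u v w := rfl
  rw [h2]
  conv_lhs => rw [h1, map_sum]
  unfold dotProduct
  refine Finset.sum_congr rfl fun x _ => ?_
  rw [map_smul, smul_eq_mul, mul_comm]
  rfl

theorem T3_rot (u v w : I27 → F) : T3 u v w = T3 v w u := by
  rw [T3_swap u v w, T3_symm v u w]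

theorem cr_basis_zero {k x : I27} (h : rel k x ≠ 2) : cr (e F k) (e F x) = 0 := by
  funext y
  show T3 (e F k) (e F x) (e F y) = 0
  rw [T3_symm]
  exact T3_basis_eq_zero h _

theorem cr_basis {k x : I27} (h : rel k x = 2) :
    cr (e F k) (e F x) = ((tsN (tn k x) : ℤ) : F) • e F (th k x) := by
  funext y
  show T3 (e F k) (e F x) (e F y) = _
  rw [T3_symm, T3_basis h, Pi.smul_apply, smul_eq_mul, e_apply, e_apply]
  congr 1
  exact if_congr eq_comm rfl rfl

/-! ### the parts -/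

/-- the 10-dimensional part -/
def p10 (v : I27 → F) : I27 → F := fun x => if ty x = 2 then v x else 0

/-- the 16-dimensional part -/
def p16 (v : I27 → F) : I27 → F := fun x => if ty x = 1 then v x else 0

/-- the duality on the 10-dimensional part -/
def til (v : I27 → F) : I27 → F := fun x => if ty x = 2 then ((sgm x : ℤ) : F) * v (opp x) else 0

/-- the form on the 10-dimensional part -/
def BB (u w : I27 → F) : F := til u ⬝ᵥ w

theorem p10_add (u v : I27 → F) : p10 (u + v) = p10 u + p10 v := by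
  funext x
  simp only [p10, Pi.add_apply]
  split_ifs
  · rfl
  · rw [add_zero]

theorem p10_smul (c : F) (v : I27 → F) : p10 (c • v) = c • p10 v := by
  funext x
  simp only [p10, Pi.smul_apply, smul_eq_mul]
  split_ifs
  · rfl
  · rw [mul_zero]

theorem p16_add (u v : I27 → F) : p16 (u + v) = p16 u + p16 v := by
  funext x
  simp only [p16, Pi.add_apply]
  split_ifs
  · rfl
  · rw [add_zero]

theorem p16_smul (c : F) (v : I27 → F) : p16 (c • v) = c • p16 v := by
  funext x
  simp only [p16, Pi.smul_apply, smul_eq_mul]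
  split_ifs
  · rfl
  · rw [mul_zero]

theorem til_add (u v : I27 → F) : til (u + v) = til u + til v := by
  funext x
  simp only [til, Pi.add_apply]
  split_ifs
  · rw [mul_add]
  · rw [add_zero]

theorem til_smul (c : F) (v : I27 → F) : til (c • v) = c • til v := by
  funext x
  simp only [til, Pi.smul_apply, smul_eq_mul]
  split_ifs
  · ring
  · rw [mul_zero]

theorem p10_p10 (v : I27 → F) : p10 (p10 v) = p10 v := by
  funext x
  simp only [p10]
  split_ifs <;> rfl

theorem p16_p16 (v : I27 → F) : p16 (p16 v) = p16 v := by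
  funext x
  simp only [p16]
  split_ifs <;> rfl

theorem p10_til (v : I27 → F) : p10 (til v) = til v := by
  funext x
  simp only [p10, til]
  split_ifs <;> rfl

theorem til_p10 (v : I27 → F) : til (p10 v) = til v := by
  funext x
  simp only [p10, til]
  split_ifs with h1 h2
  · rfl
  · exact absurd (opp_spec h1).1 h2
  · rfl

theorem til_til (v : I27 → F) : til (til v) = p10 v := by
  funext x
  simp only [p10, til]
  split_ifs with h1 h2
  · obtain ⟨-, h3, h4, h5, -⟩ := opp_spec h1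
    rw [h3, h4, ← mul_assoc, ← Int.cast_mul, h5, Int.cast_one, one_mul]
  · exact absurd (opp_spec h1).1 h2
  · rfl

theorem decomp (v : I27 → F) : v = v i0 • e F i0 + p10 v + p16 v := by
  funext x
  simp only [Pi.add_apply, Pi.smul_apply, smul_eq_mul, e_apply, p10, p16]
  rcases ty_cases x with ⟨h, h1⟩ | h | h
  · rw [h, ty_i0]; simp
  · have : x ≠ i0 := by rintro rfl; rw [ty_i0] at h; omega
    simp [h, this]
  · have : x ≠ i0 := by rintro rfl; rw [ty_i0] at h; omega
    simp [h, this]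

theorem p10_e (k : I27) : p10 (e F k) = if ty k = 2 then e F k else 0 := by
  funext x
  simp only [p10, e_apply]
  by_cases h : x = k
  · subst h
    by_cases h2 : ty x = 2 <;> simp [e_apply, h2]
  · split_ifs <;> simp [e_apply, h]

theorem p16_e (k : I27) : p16 (e F k) = if ty k = 1 then e F k else 0 := by
  funext x
  simp only [p16, e_apply]
  by_cases h : x = k
  · subst h
    by_cases h2 : ty x = 1 <;> simp [e_apply, h2]
  · split_ifs <;> simp [e_apply, h]

theorem til_e {k : I27} (hk : ty k = 2) : til (e F k) = ((sgm k : ℤ) : F) • e F (opp k) := by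
  obtain ⟨h1, h2, h3, h4, h5⟩ := opp_spec hk
  funext x
  simp only [til, Pi.smul_apply, smul_eq_mul, e_apply]
  by_cases hx : x = opp k
  · subst hx
    rw [if_pos h1, h2, h3, if_pos rfl, if_pos rfl]
  · rw [if_neg hx, mul_zero]
    split_ifs with h6 h7
    · exfalso
      apply hx
      rw [← h7, (opp_spec h6).2.1]
    · rw [mul_zero]
    · rfl

theorem til_e_zero {k : I27} (hk : ty k ≠ 2) : til (e F k) = 0 := by
  funext x
  simp only [til, e_apply, Pi.zero_apply]
  split_ifs with h6 h7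
  · exfalso
    rw [← h7] at hk
    exact hk (opp_spec h6).1
  · rw [mul_zero]
  · rfl

/-- a linear map vanishing on the basis is zero -/
theorem lin_zero {f : (I27 → F) → (I27 → F)} (hadd : ∀ u v, f (u + v) = f u + f v) (hsmul : ∀ (c : F) v, f (c • v) = c • f v)
    (h : ∀ x, f (e F x) = 0) (v : I27 → F) : f v = 0 := by
  let f' : (I27 → F) →ₗ[F] (I27 → F) := { toFun := f, map_add' := hadd, map_smul' := hsmul }
  have h1 : f' = 0 := by
    refine LinearMap.pi_ext' fun x => LinearMap.ext_ring ?_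
    exact h x
  have h2 := LinearMap.congr_fun h1 v
  exact h2

/-! ### the relations -/

/-- the value of `e_k × (e_l~ × e_x)`: coefficient -/
def fc (k l x : ℕ) : ℤ :=
  if relN (thN 0 l) x = 2 ∧ relN k (thN (thN 0 l) x) = 2 then
    tsN (tnN 0 l) * (tsN (tnN (thN 0 l) x) * tsN (tnN k (thN (thN 0 l) x))) else 0

/-- and place -/
def fp (k l x : ℕ) : ℕ := thN k (thN (thN 0 l) x)

theorem tab_cliff : (allLt 27 fun k => !(relN 0 k == 2) || allLt 27 fun l => !(relN 0 l == 2) || allLt 27 fun x =>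
    !(relN 0 x == 1) || (if l = thN 0 k then
      ((fc k l x == 0) || (fp k l x == x)) && ((fc l k x == 0) || (fp l k x == x)) &&
        (fc k l x + fc l k x == tsN (tnN 0 k))
      else ((fc k l x == 0) || (fp k l x == fp l k x)) && (fc k l x + fc l k x == 0))) = true := by
  decide +kernel

theorem thN_lt_all : (allLt 27 fun x => allLt 27 fun y => !(relN x y == 2) || Nat.blt (thN x y) 27) = true := by
  decide +kernel

theorem thN_lt {x y : ℕ} (hx : x < 27) (hy : y < 27) (h : relN x y = 2) : thN x y < 27 := by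
  have := allLt_spec (allLt_spec thN_lt_all _ hx) _ hy
  simp only [Bool.or_eq_true, Nat.blt_eq, Bool.not_eq_true', beq_eq_false_iff_ne] at this
  exact this.resolve_left fun h1 => h1 h

theorem code_th {x y : I27} (h : rel x y = 2) : code (th x y) = thN (code x) (code y) :=
  code_dec (thN_lt (code_lt x) (code_lt y) h)

theorem cr_cr {k l x : I27} (hl : ty l = 2) :
    cr (e F k) (cr (til (e F l)) (e F x)) = ((fc (code k) (code l) (code x) : ℤ) : F) •
      e F (dec (fp (code k) (code l) (code x))) := by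
  have ho : code (opp l) = thN 0 (code l) := by
    have := opp_spec hl
    rw [opp_eq]
    rw [code_th (by rw [← ty_eq]; exact hl), code_i0]
  rw [til_e hl, cr_smul_left, cr_smul_right]
  unfold fc fp
  by_cases h1 : rel (opp l) x = 2
  · have h1' : relN (thN 0 (code l)) (code x) = 2 := by rw [← ho]; exact h1
    have hc : code (th (opp l) x) = thN (thN 0 (code l)) (code x) := by rw [code_th h1, ho]
    rw [cr_basis h1, cr_smul_right]
    by_cases h2 : rel k (th (opp l) x) = 2
    · have h2' : relN (code k) (thN (thN 0 (code l)) (code x)) = 2 := by rw [← hc]; exact h2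
      rw [cr_basis h2, if_pos ⟨h1', h2'⟩, smul_smul, smul_smul]
      have e1 : tsN (tn (opp l) x) = tsN (tnN (thN 0 (code l)) (code x)) := by unfold tn; rw [ho]
      have e2 : tsN (tn k (th (opp l) x)) = tsN (tnN (code k) (thN (thN 0 (code l)) (code x))) := by
        unfold tn; rw [hc]
      have e3 : th k (th (opp l) x) = dec (thN (code k) (thN (thN 0 (code l)) (code x))) := by
        unfold th
        rw [show code (dec (thN (code (opp l)) (code x))) = thN (thN 0 (code l)) (code x) by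
          rw [← hc]; rfl]
      rw [e1, e2, e3]
      congr 1
      unfold sgm
      push_cast
      ring
    · have h2' : ¬ relN (code k) (thN (thN 0 (code l)) (code x)) = 2 := by rw [← hc]; exact h2
      rw [cr_basis_zero h2, if_neg fun h => h2' h.2]
      simp
  · have h1' : ¬ relN (thN 0 (code l)) (code x) = 2 := by rw [← ho]; exact h1
    rw [cr_basis_zero h1, cr_zero_right, if_neg fun h => h1' h.1]
    simp

theorem BB_e {k l : I27} (hk : ty k = 2) : BB (e F k) (e F l) = if l = opp k then ((sgm k : ℤ) : F) else 0 := by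
  unfold BB
  rw [til_e hk, smul_dotProduct]
  unfold e
  rw [single_dotProduct, one_mul, Pi.single_apply, smul_eq_mul]
  simp only [eq_comm (a := opp k)]
  split_ifs <;> simp

theorem cliff_basis {k l x : I27} (hk : ty k = 2) (hl : ty l = 2) (hx : ty x = 1) :
    cr (e F k) (cr (til (e F l)) (e F x)) + cr (e F l) (cr (til (e F k)) (e F x)) = BB (e F k) (e F l) • e F x := by
  rw [cr_cr hl, cr_cr hk, BB_e hk]
  have h1 := allLt_spec tab_cliff _ (code_lt k)
  simp only [Bool.or_eq_true, Bool.not_eq_true', beq_eq_false_iff_ne] at h1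
  have h2 := allLt_spec (h1.resolve_left fun h => h hk) _ (code_lt l)
  simp only [Bool.or_eq_true, Bool.not_eq_true', beq_eq_false_iff_ne] at h2
  have h3 := allLt_spec (h2.resolve_left fun h => h hl) _ (code_lt x)
  simp only [Bool.or_eq_true, Bool.not_eq_true', beq_eq_false_iff_ne] at h3
  have h4 := h3.resolve_left fun h => h hx
  have hlk : l = opp k ↔ code l = thN 0 (code k) := by
    have ho : code (opp k) = thN 0 (code k) := by
      rw [opp_eq, code_th (by rw [← ty_eq]; exact hk), code_i0]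
    rw [← ho, code_eq_iff]
  by_cases h5 : l = opp k
  · have h6 := hlk.1 h5
    rw [if_pos h6] at h4
    simp only [Bool.and_eq_true, Bool.or_eq_true, beq_iff_eq] at h4
    obtain ⟨⟨h7, h8⟩, h9⟩ := h4
    rw [if_pos h5]
    have e1 : ((fc (code k) (code l) (code x) : ℤ) : F) • e F (dec (fp (code k) (code l) (code x))) =
        ((fc (code k) (code l) (code x) : ℤ) : F) • e F x := by
      rcases h7 with h7 | h7
      · rw [h7]; simp
      · rw [h7, dec_code]
    have e2 : ((fc (code l) (code k) (code x) : ℤ) : F) • e F (dec (fp (code l) (code k) (code x))) =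
        ((fc (code l) (code k) (code x) : ℤ) : F) • e F x := by
      rcases h8 with h8 | h8
      · rw [h8]; simp
      · rw [h8, dec_code]
    rw [e1, e2, ← add_smul, ← Int.cast_add, h9]
    rfl
  · have h6 : ¬ code l = thN 0 (code k) := fun h => h5 (hlk.2 h)
    rw [if_neg h6] at h4
    simp only [Bool.and_eq_true, Bool.or_eq_true, beq_iff_eq] at h4
    obtain ⟨h7, h9⟩ := h4
    rw [if_neg h5, zero_smul]
    rcases h7 with h7 | h7
    · have h8 : fc (code l) (code k) (code x) = 0 := by rw [h7, zero_add] at h9; exact h9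
      rw [h7, h8]; simp
    · rw [h7, ← add_smul, ← Int.cast_add, h9]; simp

theorem BB_add_left (u u' w : I27 → F) : BB (u + u') w = BB u w + BB u' w := by
  unfold BB; rw [til_add, add_dotProduct]

theorem BB_smul_left (c : F) (u w : I27 → F) : BB (c • u) w = c * BB u w := by
  unfold BB; rw [til_smul, smul_dotProduct, smul_eq_mul]

theorem BB_add_right (u w w' : I27 → F) : BB u (w + w') = BB u w + BB u w' := by
  unfold BB; rw [dotProduct_add]

theorem BB_smul_right (c : F) (u w : I27 → F) : BB u (c • w) = c * BB u w := by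
  unfold BB; rw [dotProduct_smul, smul_eq_mul]

theorem BB_zero_left (w : I27 → F) : BB 0 w = 0 := by
  have := BB_smul_left (0 : F) 0 w
  rwa [zero_smul, zero_mul] at this

/-- **The Clifford relations.** -/
theorem cliff' (u w y : I27 → F) : cr (p10 u) (cr (til w) (p16 y)) + cr (p10 w) (cr (til u) (p16 y)) -
    BB (p10 u) (p10 w) • p16 y = 0 := by
  refine lin_zero (f := fun u => cr (p10 u) (cr (til w) (p16 y)) + cr (p10 w) (cr (til u) (p16 y)) -
    BB (p10 u) (p10 w) • p16 y) (fun a b => ?_) (fun c a => ?_) (fun k => ?_) u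
  · simp only [p10_add, til_add, cr_add_left, cr_add_right, BB_add_left, add_smul]
    abel
  · simp only [p10_smul, til_smul, cr_smul_left, cr_smul_right, BB_smul_left, mul_smul, smul_sub, smul_add]
  by_cases hk : ty k = 2
  swap
  · rw [p10_e, if_neg hk, til_e_zero hk, cr_zero_left, cr_zero_left, cr_zero_right, BB_zero_left]
    simp
  rw [p10_e, if_pos hk]
  refine lin_zero (f := fun w => cr (e F k) (cr (til w) (p16 y)) + cr (p10 w) (cr (til (e F k)) (p16 y)) -
    BB (e F k) (p10 w) • p16 y) (fun a b => ?_) (fun c a => ?_) (fun l => ?_) w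
  · simp only [p10_add, til_add, cr_add_left, cr_add_right, BB_add_right, add_smul]
    abel
  · simp only [p10_smul, til_smul, cr_smul_left, cr_smul_right, BB_smul_right, mul_smul, smul_sub, smul_add]
  by_cases hl : ty l = 2
  swap
  · rw [p10_e, if_neg hl, til_e_zero hl, cr_zero_left, cr_zero_left, cr_zero_right]
    unfold BB
    simp
  rw [p10_e, if_pos hl]
  refine lin_zero (f := fun y => cr (e F k) (cr (til (e F l)) (p16 y)) + cr (e F l) (cr (til (e F k)) (p16 y)) -
    BB (e F k) (e F l) • p16 y) (fun a b => ?_) (fun c a => ?_) (fun x => ?_) y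
  · simp only [p16_add, cr_add_right, smul_add]
    abel
  · simp only [p16_smul, cr_smul_right, smul_sub, smul_add, smul_comm c]
  by_cases hx : ty x = 1
  swap
  · rw [p16_e, if_neg hx, cr_zero_right, cr_zero_right, cr_zero_right, cr_zero_right]
    simp
  rw [p16_e, if_pos hx, cliff_basis hk hl hx, sub_self]

theorem BB_til (u w : I27 → F) : BB (til u) (til w) = BB u w := by
  unfold BB
  rw [til_til]
  unfold dotProduct
  have h1 : ∀ x, p10 u x * til w x = if ty x = 2 then ((sgm x : ℤ) : F) * (u x * w (opp x)) else 0 := by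
    intro x
    simp only [p10, til]
    split_ifs
    · ring
    · rw [zero_mul]
  have h2 : ∀ x, til u x * w x = if ty x = 2 then ((sgm x : ℤ) : F) * (u (opp x) * w x) else 0 := by
    intro x
    simp only [til]
    split_ifs
    · ring
    · rw [zero_mul]
  rw [Finset.sum_congr rfl fun x _ => h1 x, Finset.sum_congr rfl fun x _ => h2 x, ← Finset.sum_filter,
    ← Finset.sum_filter]
  refine Finset.sum_bij (fun x _ => opp x) ?_ ?_ ?_ ?_
  · intro x hx
    rw [Finset.mem_filter] at hx ⊢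
    exact ⟨Finset.mem_univ _, (opp_spec hx.2).1⟩
  · intro x hx y hy h
    rw [Finset.mem_filter] at hx hy
    rw [← (opp_spec hx.2).2.1, h, (opp_spec hy.2).2.1]
  · intro y hy
    rw [Finset.mem_filter] at hy
    exact ⟨opp y, by rw [Finset.mem_filter]; exact ⟨Finset.mem_univ _, (opp_spec hy.2).1⟩, (opp_spec hy.2).2.1⟩
  · intro x hx
    rw [Finset.mem_filter] at hx
    rw [(opp_spec hx.2).2.1, (opp_spec hx.2).2.2.1]

theorem BB_symm (u w : I27 → F) : BB u w = BB w u := by
  unfold BB dotProduct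
  have h2 : ∀ (u w : I27 → F) x, til u x * w x = if ty x = 2 then ((sgm x : ℤ) : F) * (u (opp x) * w x) else 0 := by
    intro u w x
    simp only [til]
    split_ifs
    · ring
    · rw [zero_mul]
  rw [Finset.sum_congr rfl fun x _ => h2 u w x, Finset.sum_congr rfl fun x _ => h2 w u x, ← Finset.sum_filter,
    ← Finset.sum_filter]
  refine Finset.sum_bij (fun x _ => opp x) ?_ ?_ ?_ ?_
  · intro x hx
    rw [Finset.mem_filter] at hx ⊢
    exact ⟨Finset.mem_univ _, (opp_spec hx.2).1⟩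
  · intro x hx y hy h
    rw [Finset.mem_filter] at hx hy
    rw [← (opp_spec hx.2).2.1, h, (opp_spec hy.2).2.1]
  · intro y hy
    rw [Finset.mem_filter] at hy
    exact ⟨opp y, by rw [Finset.mem_filter]; exact ⟨Finset.mem_univ _, (opp_spec hy.2).1⟩, (opp_spec hy.2).2.1⟩
  · intro x hx
    rw [Finset.mem_filter] at hx
    rw [(opp_spec hx.2).2.1, (opp_spec hx.2).2.2.1, mul_comm (w x)]

theorem BB_p10 (u w : I27 → F) : BB (p10 u) (p10 w) = BB u w := by
  have h : ∀ u w : I27 → F, BB (p10 u) w = BB u w := fun u w => by unfold BB; rw [til_p10]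
  rw [h, BB_symm, h, BB_symm]

/-- `u × (w~ × y) + w × (u~ × y) = B(u, w) y` -/
theorem cliff {u w y : I27 → F} (hu : p10 u = u) (hw : p10 w = w) (hy : p16 y = y) :
    cr u (cr (til w) y) + cr w (cr (til u) y) = BB u w • y := by
  have := cliff' u w y
  rw [hu, hw, hy] at this
  exact sub_eq_zero.1 this

/-- `u~ × (w × y) + w~ × (u × y) = B(u, w) y` -/
theorem cliff_til {u w y : I27 → F} (hu : p10 u = u) (hw : p10 w = w) (hy : p16 y = y) :
    cr (til u) (cr w y) + cr (til w) (cr u y) = BB u w • y := by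
  have := cliff (p10_til u) (p10_til w) hy
  rwa [til_til, til_til, hu, hw, BB_til] at this

end Cfsg.Agent.H512.DFive
end

-- part: H512/DFive/Lift
section
/-!
# `D₅ T₁ ≤ E₆` on the 27-dimensional module (helper512, for S1920)

* `two_cubicT` : `2 T(x) = x₀ B(x, x) + T3(x₁₀, x₁₆, x₁₆)`;
* `exists_lift` : a product of two reflections of the 10-dimensional part with `Q(u) Q(v)` a square is induced by an
  isometry of `T` commuting with the involution `z0`;
* `act_e`, `act_ten` : an isometry commuting with `z0` acts by similarities on the 10-dimensional part;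
* `ker_ten` : trivially only for `1` and `z0`.
-/

set_option autoImplicit false

namespace Cfsg.Agent.H512.DFive

open Cfsg Cfsg.Lie Matrix
open Cfsg.Agent.ChevalleyStructure.E6Min Cfsg.Agent.ChevalleyStructure.E6Min.Tables
  Cfsg.Agent.ChevalleyStructure.E6Min.Basic Cfsg.Agent.ChevalleyStructure.E6Min.Forms
  Cfsg.Agent.ChevalleyStructure.E6Min.Inv Cfsg.Agent.ChevalleyStructure.E6Min.Elim

variable {F : Type*} [Field F]

/-! ### the cubic form -/

theorem cr_e0 (u : I27 → F) : cr (e F i0) u = til u := by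
  have h := lin_zero (f := fun u : I27 → F => cr (e F i0) u - til u) (fun a b => by
    simp only [cr_add_right, til_add]; abel) (fun c a => by
    simp only [cr_smul_right, til_smul, smul_sub]) (fun k => ?_) u
  · exact sub_eq_zero.1 h
  · by_cases hk : ty k = 2
    · rw [til_e hk, cr_basis (by rw [← ty_eq]; exact hk), opp_eq]
      have : tsN (tn i0 k) = sgm k := by unfold tn sgm; rw [code_i0]
      rw [this, sub_self]
    · rw [til_e_zero hk, cr_basis_zero (by rw [← ty_eq]; exact hk), sub_self]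

theorem T3_e0 (u w : I27 → F) : T3 (e F i0) u w = BB u w := by rw [T3_eq, cr_e0]; rfl

theorem tab_types : allLt 45 (fun n => let a := relN 0 (t1N n); let b := relN 0 (t2N n); let c := relN 0 (t3N n)
    (a == 0 && b == 2 && c == 2) || (a == 2 && b == 0 && c == 2) || (a == 2 && b == 2 && c == 0) ||
    (a == 2 && b == 1 && c == 1) || (a == 1 && b == 2 && c == 1) || (a == 1 && b == 1 && c == 2)) = true := by
  decide +kernel

theorem ty_t {n : ℕ} (hn : n < 45) : ty (t1 n) = relN 0 (t1N n) ∧ ty (t2 n) = relN 0 (t2N n) ∧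
    ty (t3 n) = relN 0 (t3N n) := by
  obtain ⟨h1, h2, h3, -⟩ := tri_lt hn
  unfold ty t1 t2 t3
  rw [code_dec h1, code_dec h2, code_dec h3]
  exact ⟨rfl, rfl, rfl⟩

theorem types {n : ℕ} (hn : n < 45) :
    (ty (t1 n) = 0 ∧ ty (t2 n) = 2 ∧ ty (t3 n) = 2) ∨ (ty (t1 n) = 2 ∧ ty (t2 n) = 0 ∧ ty (t3 n) = 2) ∨
    (ty (t1 n) = 2 ∧ ty (t2 n) = 2 ∧ ty (t3 n) = 0) ∨ (ty (t1 n) = 2 ∧ ty (t2 n) = 1 ∧ ty (t3 n) = 1) ∨
    (ty (t1 n) = 1 ∧ ty (t2 n) = 2 ∧ ty (t3 n) = 1) ∨ (ty (t1 n) = 1 ∧ ty (t2 n) = 1 ∧ ty (t3 n) = 2) := by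
  obtain ⟨h1, h2, h3⟩ := ty_t hn
  rw [h1, h2, h3]
  have h := allLt_spec tab_types n hn
  simp only [Bool.or_eq_true, Bool.and_eq_true, beq_iff_eq] at h
  rcases h with ((((h | h) | h) | h) | h) | h
  · exact Or.inl ⟨h.1.1, h.1.2, h.2⟩
  · exact Or.inr (Or.inl ⟨h.1.1, h.1.2, h.2⟩)
  · exact Or.inr (Or.inr (Or.inl ⟨h.1.1, h.1.2, h.2⟩))
  · exact Or.inr (Or.inr (Or.inr (Or.inl ⟨h.1.1, h.1.2, h.2⟩)))
  · exact Or.inr (Or.inr (Or.inr (Or.inr (Or.inl ⟨h.1.1, h.1.2, h.2⟩))))
  · exact Or.inr (Or.inr (Or.inr (Or.inr (Or.inr ⟨h.1.1, h.1.2, h.2⟩))))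

/-- the component along the first weight -/
def p0 (v : I27 → F) : I27 → F := fun x => if ty x = 0 then v x else 0

theorem ty_zero {x : I27} (h : ty x = 0) : x = i0 := by
  rcases ty_cases x with ⟨h1, -⟩ | h1 | h1
  · exact h1
  · omega
  · omega

theorem p0_eq (v : I27 → F) : p0 v = v i0 • e F i0 := by
  funext x
  simp only [p0, Pi.smul_apply, smul_eq_mul, e_apply]
  by_cases h : x = i0
  · subst h; simp [ty_i0]
  · rw [if_neg (fun h1 => h (ty_zero h1)), if_neg h, mul_zero]

theorem two_cubicT (x : I27 → F) : 2 * cubicT x = x i0 * BB x x + T3 (p10 x) (p16 x) (p16 x) := by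
  have h1 : x i0 * BB x x = T3 (p0 x) (p10 x) (p10 x) := by
    rw [p0_eq, T3_smul_left, T3_e0, BB_p10]
  rw [h1, cubicT_eq_sum, T3, T3, Finset.mul_sum, ← Finset.sum_add_distrib]
  refine Finset.sum_congr rfl fun n hn => ?_
  have hn := Finset.mem_range.mp hn
  simp only [p0, p10, p16]
  rcases types hn with ⟨a, b, c⟩ | ⟨a, b, c⟩ | ⟨a, b, c⟩ | ⟨a, b, c⟩ | ⟨a, b, c⟩ | ⟨a, b, c⟩ <;>
  · rw [a, b, c]
    simp only [↓ _root_.reduceIte, _root_.OfNat.ofNat_ne_zero, _root_.OfNat.zero_ne_ofNat, _root_.MulZeroClass.mul_zero, _root_.MulZeroClass.zero_mul, _root_.add_zero, _root_.OfNat.ofNat_ne_one, _root_.zero_ne_one, _root_.zero_add, _root_.OfNat.one_ne_ofNat, _root_.one_ne_zero]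
    ring

/-! ### types of the products -/

theorem tab_prod : (allLt 27 fun x => allLt 27 fun y => !(relN x y == 2) ||
    ((!(relN 0 x == 2) || !(relN 0 y == 1) || (relN 0 (thN x y) == 1)) &&
     (!(relN 0 x == 2) || !(relN 0 y == 2) || (relN 0 (thN x y) == 0)))) = true := by
  decide +kernel

theorem p16_cr {w s : I27 → F} (hw : p10 w = w) (hs : p16 s = s) : p16 (cr w s) = cr w s := by
  rw [← hw, ← hs]
  have h := lin_zero (f := fun w : I27 → F => p16 (cr (p10 w) (p16 s)) - cr (p10 w) (p16 s)) (fun a b => by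
    simp only [p10_add, cr_add_left, p16_add]; abel) (fun c a => by
    simp only [p10_smul, cr_smul_left, p16_smul, smul_sub]) (fun k => ?_) w
  · exact sub_eq_zero.1 h
  · show p16 (cr (p10 (e F k)) (p16 s)) - cr (p10 (e F k)) (p16 s) = 0
    by_cases hk : ty k = 2
    swap
    · rw [p10_e, if_neg hk, cr_zero_left]
      funext x
      simp [p16]
    rw [p10_e, if_pos hk]
    refine lin_zero (f := fun s : I27 → F => p16 (cr (e F k) (p16 s)) - cr (e F k) (p16 s)) (fun a b => by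
      simp only [p16_add, cr_add_right]; abel) (fun c a => by
      simp only [p16_smul, cr_smul_right, smul_sub]) (fun l => ?_) s
    show p16 (cr (e F k) (p16 (e F l))) - cr (e F k) (p16 (e F l)) = 0
    by_cases hl : ty l = 1
    swap
    · rw [p16_e, if_neg hl, cr_zero_right]
      funext x
      simp [p16]
    rw [p16_e, if_pos hl]
    by_cases h : rel k l = 2
    · have h1 := allLt_spec (allLt_spec tab_prod _ (code_lt k)) _ (code_lt l)
      simp only [Bool.or_eq_true, Bool.and_eq_true, beq_iff_eq, Bool.not_eq_true', beq_eq_false_iff_ne] at h1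
      have h2 := (h1.resolve_left fun h1 => h1 h).1
      have h3 : relN 0 (thN (code k) (code l)) = 1 := by
        rcases h2 with (h2 | h2) | h2
        · exact absurd hk h2
        · exact absurd hl h2
        · exact h2
      have h4 : ty (th k l) = 1 := by unfold ty; rw [code_th h]; exact h3
      rw [cr_basis h, p16_smul, p16_e, if_pos h4, sub_self]
    · rw [cr_basis_zero h]
      funext x
      simp [p16]

theorem tab_ten : (allLt 27 fun x => allLt 27 fun y => !(relN x y == 2) || (relN 0 x == 0) || !(relN 0 y == 2) ||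
    !(relN 0 (thN x y) == 2)) = true := by
  decide +kernel

/-- the product of two vectors of the 10-dimensional part -/
theorem cr_ten (u w : I27 → F) : cr (p10 u) (p10 w) = BB u w • e F i0 := by
  funext x
  rw [Pi.smul_apply, smul_eq_mul, e_apply]
  show T3 (p10 u) (p10 w) (e F x) = _
  rw [← T3_rot]
  by_cases hx : x = i0
  · subst hx
    rw [if_pos rfl, mul_one, T3_e0, BB_p10]
  rw [if_neg hx, mul_zero, T3_eq]
  refine Finset.sum_eq_zero fun l _ => ?_
  show T3 (e F x) (p10 u) (e F l) * p10 w l = 0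
  by_cases hl : ty l = 2
  swap
  · simp [p10, hl]
  by_cases h : rel x l = 2
  · rw [T3_basis h]
    have h1 := allLt_spec (allLt_spec tab_ten _ (code_lt x)) _ (code_lt l)
    simp only [Bool.or_eq_true, beq_iff_eq, Bool.not_eq_true', beq_eq_false_iff_ne] at h1
    have h2 : relN 0 (thN (code x) (code l)) ≠ 2 := by
      rcases h1 with ((h1 | h1) | h1) | h1
      · exact absurd h h1
      · exact absurd (ty_zero h1) hx
      · exact absurd hl h1
      · exact h1
    have h3 : ty (th x l) ≠ 2 := by unfold ty; rw [code_th h]; exact h2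
    simp [p10, h3]
  · rw [T3_basis_eq_zero h, zero_mul]

/-! ### the lifts of products of two reflections -/

/-- the reflection -/
def rf (u w : I27 → F) : I27 → F := w - (2 * BB u w / BB u u) • u

theorem p10_sub (u v : I27 → F) : p10 (u - v) = p10 u - p10 v := by
  rw [sub_eq_add_neg, ← neg_one_smul F v, p10_add, p10_smul, neg_one_smul, ← sub_eq_add_neg]

theorem p10_rf {u w : I27 → F} (hu : p10 u = u) (hw : p10 w = w) : p10 (rf u w) = rf u w := by
  unfold rf
  rw [p10_sub, p10_smul, hu, hw]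

theorem rf_add (u w w' : I27 → F) : rf u (w + w') = rf u w + rf u w' := by
  unfold rf
  rw [BB_add_right, mul_add, add_div, add_smul]
  abel

theorem rf_smul (c : F) (u w : I27 → F) : rf u (c • w) = c • rf u w := by
  unfold rf
  rw [BB_smul_right, smul_sub, smul_smul]
  congr 2
  ring

theorem BB_sub_right (u w w' : I27 → F) : BB u (w - w') = BB u w - BB u w' := by
  rw [sub_eq_add_neg, ← neg_one_smul F w', BB_add_right, BB_smul_right]; ring

theorem BB_sub_left (u w w' : I27 → F) : BB (w - w') u = BB w u - BB w' u := by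
  rw [BB_symm, BB_sub_right, BB_symm u, BB_symm u]

theorem BB_rf {u : I27 → F} (hu : BB u u ≠ 0) (w w' : I27 → F) : BB (rf u w) (rf u w') = BB w w' := by
  unfold rf
  rw [BB_sub_left, BB_sub_right, BB_sub_right, BB_smul_left, BB_smul_right, BB_smul_left, BB_smul_right, BB_symm w u]
  field_simp
  ring

theorem rf_rf {u : I27 → F} (hu : BB u u ≠ 0) (w : I27 → F) : rf u (rf u w) = w := by
  have h : BB u (rf u w) = - BB u w := by
    unfold rf
    rw [BB_sub_right, BB_smul_right]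
    field_simp
    ring
  have h1 : rf u (rf u w) = rf u w - (2 * BB u (rf u w) / BB u u) • u := rfl
  rw [h1, h]
  unfold rf
  rw [sub_sub, ← add_smul]
  have : 2 * BB u w / BB u u + 2 * -BB u w / BB u u = 0 := by field_simp; ring
  rw [this, zero_smul, sub_zero]

theorem til_sub (u v : I27 → F) : til (u - v) = til u - til v := by
  rw [sub_eq_add_neg, ← neg_one_smul F v, til_add, til_smul, neg_one_smul, ← sub_eq_add_neg]

theorem cr_sub_left (u v s : I27 → F) : cr (u - v) s = cr u s - cr v s := by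
  rw [sub_eq_add_neg, ← neg_one_smul F v, cr_add_left, cr_smul_left, neg_one_smul, ← sub_eq_add_neg]

theorem cr_self (h2 : (2 : F) ≠ 0) {u y : I27 → F} (hu : p10 u = u) (hy : p16 y = y) :
    cr u (cr (til u) y) = (BB u u / 2) • y := by
  have h := cliff hu hu hy
  rw [← two_smul F, ← eq_inv_smul_iff₀ h2, smul_smul] at h
  rw [h]
  congr 1
  ring

theorem cr_self_til (h2 : (2 : F) ≠ 0) {u y : I27 → F} (hu : p10 u = u) (hy : p16 y = y) :
    cr (til u) (cr u y) = (BB u u / 2) • y := by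
  have h := cliff_til hu hu hy
  rw [← two_smul F, ← eq_inv_smul_iff₀ h2, smul_smul] at h
  rw [h]
  congr 1
  ring

theorem step1 (h2 : (2 : F) ≠ 0) {u w y : I27 → F} (hu : p10 u = u) (hw : p10 w = w) (hy : p16 y = y)
    (huu : BB u u ≠ 0) : cr (til u) (cr w (cr (til u) y)) = (-(BB u u / 2)) • cr (til (rf u w)) y := by
  have hz : p16 (cr (til u) y) = cr (til u) y := p16_cr (p10_til u) hy
  have h := cliff_til hu hw hz
  rw [cr_self h2 hu hy, cr_smul_right] at h
  rw [eq_sub_of_add_eq h]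
  unfold rf
  rw [til_sub, til_smul, cr_sub_left, cr_smul_left, smul_sub, smul_smul, neg_smul]
  have : -(BB u u / 2) * (2 * BB u w / BB u u) = - BB u w := by field_simp
  rw [this, neg_smul]
  abel

theorem step2 (h2 : (2 : F) ≠ 0) {v w s : I27 → F} (hv : p10 v = v) (hw : p10 w = w) (hs : p16 s = s)
    (hvv : BB v v ≠ 0) : cr v (cr (til w) (cr v s)) = (-(BB v v / 2)) • cr (rf v w) s := by
  have hz : p16 (cr v s) = cr v s := p16_cr hv hs
  have h := cliff hv hw hz
  rw [cr_self_til h2 hv hs, cr_smul_right] at h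
  rw [eq_sub_of_add_eq h]
  unfold rf
  rw [cr_sub_left, cr_smul_left, smul_sub, smul_smul, neg_smul]
  have : -(BB v v / 2) * (2 * BB v w / BB v v) = - BB v w := by field_simp
  rw [this, neg_smul]
  abel

/-- the cubic form on the transformed vectors -/
theorem T3_lift (h2 : (2 : F) ≠ 0) {u v w s : I27 → F} (hu : p10 u = u) (hv : p10 v = v) (hw : p10 w = w)
    (hs : p16 s = s) (huu : BB u u ≠ 0) (hvv : BB v v ≠ 0) :
    T3 (rf u (rf v w)) (cr (til u) (cr v s)) (cr (til u) (cr v s)) = (BB u u / 2) * (BB v v / 2) * T3 w s s := by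
  have hy : p16 (cr v s) = cr v s := p16_cr hv hs
  have hw'' := p10_rf hv hw
  have hw' := p10_rf hu hw''
  have h1 : T3 (rf u (rf v w)) (cr (til u) (cr v s)) (cr (til u) (cr v s)) =
      cr (til u) (cr (rf u (rf v w)) (cr (til u) (cr v s))) ⬝ᵥ cr v s := by
    rw [T3_eq, dotProduct_comm, ← T3_eq, T3_symm, T3_eq]
  rw [h1, step1 h2 hu hw' hy huu, rf_rf huu, smul_dotProduct, smul_eq_mul]
  have h3 : cr (til (rf v w)) (cr v s) ⬝ᵥ cr v s = cr v (cr (til (rf v w)) (cr v s)) ⬝ᵥ s := by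
    rw [dotProduct_comm, ← T3_eq, T3_symm, T3_eq]
  rw [h3, step2 h2 hv hw'' hs hvv, rf_rf hvv, smul_dotProduct, smul_eq_mul, T3_eq]
  ring

/-- components -/
theorem comps {t : F} {w s : I27 → F} (hw : p10 w = w) (hs : p16 s = s) :
    (t • e F i0 + w + s) i0 = t ∧ p10 (t • e F i0 + w + s) = w ∧ p16 (t • e F i0 + w + s) = s := by
  have h1 : w i0 = 0 := by rw [← hw]; simp [p10, ty_i0]
  have h2 : s i0 = 0 := by rw [← hs]; simp [p16, ty_i0]
  have h3 : p10 s = 0 := by
    rw [← hs]; funext x; simp only [p10, p16]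
    split_ifs with a b
    · omega
    · rfl
    · rfl
  have h4 : p16 w = 0 := by
    rw [← hw]; funext x; simp only [p10, p16]
    split_ifs with a b
    · omega
    · rfl
    · rfl
  refine ⟨?_, ?_, ?_⟩
  · simp [h1, h2, e_apply]
  · rw [p10_add, p10_add, p10_smul, p10_e, ty_i0, if_neg (by norm_num), hw, h3]
    simp
  · rw [p16_add, p16_add, p16_smul, p16_e, ty_i0, if_neg (by norm_num), hs, h4]
    simp

/-- the linear map -/
def GL0 (u v : I27 → F) (c : F) : (I27 → F) →ₗ[F] (I27 → F) where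
  toFun x := x i0 • e F i0 + rf u (rf v (p10 x)) + c⁻¹ • cr (til u) (cr v (p16 x))
  map_add' x y := by
    simp only [Pi.add_apply, add_smul, p10_add, rf_add, p16_add, cr_add_right, smul_add]
    abel
  map_smul' a x := by
    simp only [Pi.smul_apply, smul_eq_mul, p10_smul, rf_smul, p16_smul, cr_smul_right, smul_add, RingHom.id_apply,
      mul_smul, smul_comm c⁻¹ a]

theorem GL0_apply (u v : I27 → F) (c : F) (x : I27 → F) :
    GL0 u v c x = x i0 • e F i0 + rf u (rf v (p10 x)) + c⁻¹ • cr (til u) (cr v (p16 x)) := rfl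

theorem GL0_comp (h2 : (2 : F) ≠ 0) {u v : I27 → F} (hu : p10 u = u) (hv : p10 v = v) {c : F} (hc : c ≠ 0)
    (hcc : 4 * (c * c) = BB u u * BB v v) (x : I27 → F) : GL0 u v c (GL0 v u c x) = x := by
  have hprod : BB u u * BB v v ≠ 0 := by
    rw [← hcc, show (4 : F) = 2 * 2 by norm_num]
    exact mul_ne_zero (mul_ne_zero h2 h2) (mul_ne_zero hc hc)
  have huu := left_ne_zero_of_mul hprod
  have hvv := right_ne_zero_of_mul hprod
  have hx16 := p16_p16 x
  have hy : p16 (cr u (p16 x)) = cr u (p16 x) := p16_cr hu hx16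
  have hz : p16 (cr (til v) (cr u (p16 x))) = cr (til v) (cr u (p16 x)) := p16_cr (p10_til v) hy
  have hs : p16 (c⁻¹ • cr (til v) (cr u (p16 x))) = c⁻¹ • cr (til v) (cr u (p16 x)) := by rw [p16_smul, hz]
  have hw : p10 (rf v (rf u (p10 x))) = rf v (rf u (p10 x)) := p10_rf hv (p10_rf hu (p10_p10 x))
  rw [GL0_apply v u c x, GL0_apply]
  obtain ⟨e1, e2, e3⟩ := comps (t := x i0) hw hs
  rw [e1, e2, e3, rf_rf hvv, rf_rf huu, cr_smul_right, cr_smul_right, cr_self h2 hv hy, cr_smul_right,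
    cr_self_til h2 hu hx16, smul_smul, smul_smul, smul_smul]
  have h3 : c⁻¹ * (c⁻¹ * (BB v v / 2 * (BB u u / 2))) = 1 := by
    have h4 : BB v v / 2 * (BB u u / 2) = c * c := by
      field_simp
      linear_combination -hcc
    rw [h4]
    field_simp
  have h5 : c⁻¹ * (c⁻¹ * (BB v v / 2)) * (BB u u / 2) = 1 := by rw [← h3]; ring
  first
    | rw [h5, one_smul]
    | (rw [show c⁻¹ * c⁻¹ * (BB v v / 2) * (BB u u / 2) = 1 by rw [← h3]; ring, one_smul])
  exact (decomp x).symm

theorem cubicT_GL0 (h2 : (2 : F) ≠ 0) {u v : I27 → F} (hu : p10 u = u) (hv : p10 v = v) {c : F} (hc : c ≠ 0)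
    (hcc : 4 * (c * c) = BB u u * BB v v) (x : I27 → F) : cubicT (GL0 u v c x) = cubicT x := by
  have hprod : BB u u * BB v v ≠ 0 := by
    rw [← hcc, show (4 : F) = 2 * 2 by norm_num]
    exact mul_ne_zero (mul_ne_zero h2 h2) (mul_ne_zero hc hc)
  have huu := left_ne_zero_of_mul hprod
  have hvv := right_ne_zero_of_mul hprod
  have hx16 := p16_p16 x
  have hy : p16 (cr v (p16 x)) = cr v (p16 x) := p16_cr hv hx16
  have hz : p16 (cr (til u) (cr v (p16 x))) = cr (til u) (cr v (p16 x)) := p16_cr (p10_til u) hy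
  have hs : p16 (c⁻¹ • cr (til u) (cr v (p16 x))) = c⁻¹ • cr (til u) (cr v (p16 x)) := by rw [p16_smul, hz]
  have hw : p10 (rf u (rf v (p10 x))) = rf u (rf v (p10 x)) := p10_rf hu (p10_rf hv (p10_p10 x))
  apply mul_left_cancel₀ h2
  rw [two_cubicT, two_cubicT, GL0_apply]
  obtain ⟨e1, e2, e3⟩ := comps (t := x i0) hw hs
  rw [← BB_p10 (x i0 • e F i0 + rf u (rf v (p10 x)) + c⁻¹ • cr (til u) (cr v (p16 x))), e1, e2, e3, BB_rf huu,
    BB_rf hvv, BB_p10, T3_smul_right, T3_symm, T3_smul_right, T3_symm, T3_lift h2 hu hv (p10_p10 x) hx16 huu hvv]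
  have h4 : BB u u / 2 * (BB v v / 2) = c * c := by
    field_simp
    linear_combination -hcc
  rw [h4]
  field_simp

/-- an invertible linear map as an element of `GL` -/
noncomputable def toGL (f g : (I27 → F) →ₗ[F] (I27 → F)) (h1 : ∀ x, f (g x) = x) (h2 : ∀ x, g (f x) = x) : GL I27 F where
  val := LinearMap.toMatrix' f
  inv := LinearMap.toMatrix' g
  val_inv := by
    rw [← LinearMap.toMatrix'_comp, show f ∘ₗ g = LinearMap.id from LinearMap.ext h1, LinearMap.toMatrix'_id]
  inv_val := by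
    rw [← LinearMap.toMatrix'_comp, show g ∘ₗ f = LinearMap.id from LinearMap.ext h2, LinearMap.toMatrix'_id]

theorem toGL_mulVec (f g : (I27 → F) →ₗ[F] (I27 → F)) (h1 : ∀ x, f (g x) = x) (h2 : ∀ x, g (f x) = x) (x : I27 → F) :
    ((toGL f g h1 h2 : GL I27 F) : Matrix I27 I27 F) *ᵥ x = f x := by
  show LinearMap.toMatrix' f *ᵥ x = f x
  rw [← Matrix.toLin'_apply, Matrix.toLin'_toMatrix']

/-- **The lift of a product of two reflections.** -/
theorem exists_lift (h2 : (2 : F) ≠ 0) {u v : I27 → F} (hu : p10 u = u) (hv : p10 v = v) {c : F} (hc : c ≠ 0)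
    (hcc : 4 * (c * c) = BB u u * BB v v) : ∃ g ∈ E6univ F, ∀ x, (g : Matrix I27 I27 F) *ᵥ x =
      x i0 • e F i0 + rf u (rf v (p10 x)) + c⁻¹ • cr (til u) (cr v (p16 x)) := by
  refine ⟨toGL (GL0 u v c) (GL0 v u c) (GL0_comp h2 hu hv hc hcc)
    (GL0_comp h2 hv hu hc (by rw [hcc, mul_comm])), ?_, fun x => ?_⟩
  · rw [mem_E6univ_iff]
    intro x
    rw [toGL_mulVec, cubicT_GL0 h2 hu hv hc hcc]
  · rw [toGL_mulVec, GL0_apply]

/-! ### the involution -/

/-- `1` on the parts of dimension 1 and 10, `-1` on the part of dimension 16 -/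
def zL (F : Type*) [Field F] : (I27 → F) →ₗ[F] (I27 → F) where
  toFun x := fun i => if ty i = 1 then - x i else x i
  map_add' x y := by
    funext i
    simp only [Pi.add_apply]
    split_ifs
    · rw [neg_add]
    · rfl
  map_smul' a x := by
    funext i
    simp only [Pi.smul_apply, smul_eq_mul, RingHom.id_apply]
    split_ifs
    · rw [mul_neg]
    · rfl

theorem zL_apply (x : I27 → F) : zL F x = x - (2 : F) • p16 x := by
  funext i
  show (if ty i = 1 then - x i else x i) = x i - 2 * p16 x i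
  simp only [p16]
  split_ifs
  · ring
  · ring

theorem zL_zL (x : I27 → F) : zL F (zL F x) = x := by
  funext i
  show (if ty i = 1 then - (if ty i = 1 then - x i else x i) else (if ty i = 1 then - x i else x i)) = x i
  split_ifs
  · rw [neg_neg]
  · rfl

/-- the involution -/
noncomputable def z0 (F : Type*) [Field F] : GL I27 F := toGL (zL F) (zL F) zL_zL zL_zL

theorem z0_mulVec (x : I27 → F) : ((z0 F : GL I27 F) : Matrix I27 I27 F) *ᵥ x = x - (2 : F) • p16 x := by
  unfold z0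
  rw [toGL_mulVec, zL_apply]

end Cfsg.Agent.H512.DFive
end

-- part: H512/DFive/Cent
section
/-!
# The centraliser of the involution `z0` of `E₆` (helper512, for S1920)

* `cent_act` : an isometry `g` of `T` commuting with `z0` acts on the parts: `g e₀ = a e₀`, `g V₁₀ = V₁₀`,
  `a B(g w, g w') = B(w, w')`;
* `cent_ker` : if `g` is trivial on the 10-dimensional part then `g = 1` or `g = z0`.
-/

set_option autoImplicit false

namespace Cfsg.Agent.H512.DFive

open Cfsg Cfsg.Lie Matrix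
open Cfsg.Agent.ChevalleyStructure.E6Min Cfsg.Agent.ChevalleyStructure.E6Min.Tables
  Cfsg.Agent.ChevalleyStructure.E6Min.Basic Cfsg.Agent.ChevalleyStructure.E6Min.Forms
  Cfsg.Agent.ChevalleyStructure.E6Min.Inv Cfsg.Agent.ChevalleyStructure.E6Min.Elim

variable {F : Type*} [Field F]

theorem cent_p16 (h2 : (2 : F) ≠ 0) {g : GL I27 F} (hz : g * z0 F = z0 F * g) (x : I27 → F) :
    p16 ((g : Matrix I27 I27 F) *ᵥ x) = (g : Matrix I27 I27 F) *ᵥ p16 x := by
  have h1 : ((g : Matrix I27 I27 F) * (z0 F : Matrix I27 I27 F)) *ᵥ x =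
      ((z0 F : Matrix I27 I27 F) * (g : Matrix I27 I27 F)) *ᵥ x := by
    have := congrArg (fun y : GL I27 F => (y : Matrix I27 I27 F) *ᵥ x) hz
    exact this
  rw [← Matrix.mulVec_mulVec, ← Matrix.mulVec_mulVec, z0_mulVec, z0_mulVec, Matrix.mulVec_sub, Matrix.mulVec_smul] at h1
  have h3 : (2 : F) • p16 ((g : Matrix I27 I27 F) *ᵥ x) = (2 : F) • ((g : Matrix I27 I27 F) *ᵥ p16 x) := by
    rw [sub_right_inj] at h1
    exact h1.symm
  exact smul_right_injective _ h2 h3

/-- the trilinear form on the sum of the parts of dimension 1 and 10 -/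
theorem T3_plus (a b c : F) {u v w : I27 → F} (hu : p10 u = u) (hv : p10 v = v) (hw : p10 w = w) :
    T3 (a • e F i0 + u) (b • e F i0 + v) (c • e F i0 + w) = a * BB v w + b * BB u w + c * BB u v := by
  have e0 : ∀ x y : I27 → F, T3 (e F i0) x y = BB x y := T3_e0
  have et : til (e F i0) = 0 := til_e_zero (by rw [ty_i0]; norm_num)
  have f1 : ∀ x : I27 → F, BB (e F i0) x = 0 := fun x => by unfold BB; rw [et, zero_dotProduct]
  have f2 : ∀ x : I27 → F, BB x (e F i0) = 0 := fun x => by rw [BB_symm, f1]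
  have h3 : T3 u v w = 0 := by
    rw [T3_eq, ← hu, ← hv, cr_ten, smul_dotProduct, ← hw]
    unfold e
    rw [single_dotProduct, one_mul]
    simp [p10, ty_i0]
  have addr : ∀ x y y' z : I27 → F, T3 x (y + y') z = T3 x y z + T3 x y' z := fun x y y' z => by
    rw [T3_swap, T3_add_left, T3_swap y, T3_swap y']
  have addz : ∀ x y z z' : I27 → F, T3 x y (z + z') = T3 x y z + T3 x y z' := fun x y z z' => by
    rw [T3_rot, T3_rot, T3_add_left, T3_rot, T3_rot z']
  have smr : ∀ (c : F) (x y z : I27 → F), T3 x (c • y) z = c * T3 x y z := fun c x y z => by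
    rw [T3_swap, T3_smul_left, T3_swap]
  simp only [T3_add_left, addr, addz, T3_smul_left, smr, T3_smul_right, e0, f1, f2, h3]
  have g1 : T3 u (e F i0) w = BB u w := by rw [T3_swap, e0]
  have g2 : T3 u (e F i0) (e F i0) = 0 := by rw [T3_swap, e0, f2]
  have g3 : T3 u v (e F i0) = BB u v := by rw [← T3_rot, e0]
  rw [g1, g2, g3]
  ring

/-- non-degeneracy -/
theorem eq_zero_of_BB {u : I27 → F} (hu : p10 u = u) (h : ∀ w, p10 w = w → BB u w = 0) : u = 0 := by
  have h1 : til u = 0 := by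
    funext x
    by_cases hx : ty x = 2
    · have := h (e F x) (by rw [p10_e, if_pos hx])
      unfold BB e at this
      rw [dotProduct_single, mul_one] at this
      exact this
    · simp [til, hx]
  rw [← hu, ← til_til, h1]
  funext x
  simp [til]

/-- the hyperbolic vectors -/
def hv (F : Type*) [Field F] (k : ℕ) : I27 → F := e F (dec k) + e F (opp (dec k))

theorem hv_spec {k l : ℕ} (hk : ty (dec k) = 2) (hl : ty (dec l) = 2) (hne : dec k ≠ dec l)
    (hne2 : dec k ≠ opp (dec l)) :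
    p10 (hv F k) = hv F k ∧ BB (hv F k) (hv F k) = 2 * ((sgm (dec k) : ℤ) : F) ∧ BB (hv F k) (hv F l) = 0 := by
  obtain ⟨a1, a2, a3, -, a5⟩ := opp_spec hk
  obtain ⟨b1, b2, b3, -, b5⟩ := opp_spec hl
  unfold hv
  refine ⟨?_, ?_, ?_⟩
  · rw [p10_add, p10_e, p10_e, if_pos hk, if_pos a1]
  · rw [BB_add_left, BB_add_right, BB_add_right, BB_e hk, BB_e hk, BB_e a1, BB_e a1, a2, a3, if_neg a5.symm,
      if_pos rfl, if_pos rfl, if_neg a5]
    ring
  · have c1 : dec l ≠ opp (dec k) := fun h => hne2 (by rw [h, a2])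
    have c2 : opp (dec l) ≠ opp (dec k) := fun h => hne (by rw [← a2, ← h, b2])
    rw [BB_add_left, BB_add_right, BB_add_right, BB_e hk, BB_e hk, BB_e a1, BB_e a1, a2, if_neg c1, if_neg c2,
      if_neg hne.symm, if_neg (fun h => hne2 h.symm)]
    ring

/-- the relation of three ratios -/
theorem no_three (h2 : (2 : F) ≠ 0) {p r : Fin 3 → F} (h : ∀ i, p i * r i ≠ 0)
    (h' : ∀ i j, i ≠ j → p i * r j + p j * r i = 0) : False := by
  have h01 := h' 0 1 (by decide)
  have h02 := h' 0 2 (by decide)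
  have h12 := h' 1 2 (by decide)
  have p0 := left_ne_zero_of_mul (h 0)
  have r0 := right_ne_zero_of_mul (h 0)
  have p1 := left_ne_zero_of_mul (h 1)
  have p2 := left_ne_zero_of_mul (h 2)
  -- `p0 r1 = - p1 r0`, `p0 r2 = - p2 r0`, `p1 r2 = - p2 r1`
  have e1 : p 0 * (p 1 * r 2 + p 2 * r 1) = -(2 * (p 1 * p 2 * r 0)) := by
    linear_combination p 1 * h02 + p 2 * h01
  rw [h12, mul_zero] at e1
  exact mul_ne_zero h2 (mul_ne_zero (mul_ne_zero p1 p2) r0) (neg_eq_zero.1 e1.symm)

/-- **The action of the centraliser of `z0`.** -/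
theorem cent_act (h2 : (2 : F) ≠ 0) {g : GL I27 F} (hg : g ∈ E6univ F) (hz : g * z0 F = z0 F * g) :
    ∃ a : F, a ≠ 0 ∧ (g : Matrix I27 I27 F) *ᵥ e F i0 = a • e F i0 ∧
      (∀ w, p10 w = w → p10 ((g : Matrix I27 I27 F) *ᵥ w) = (g : Matrix I27 I27 F) *ᵥ w) ∧
      (∀ w w', p10 w = w → p10 w' = w' →
        a * BB ((g : Matrix I27 I27 F) *ᵥ w) ((g : Matrix I27 I27 F) *ᵥ w') = BB w w') := by
  set M : Matrix I27 I27 F := (g : Matrix I27 I27 F) with hM
  have hp16 : ∀ x, p16 x = 0 → p16 (M *ᵥ x) = 0 := fun x hx => by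
    rw [hM, cent_p16 h2 hz, hx, Matrix.mulVec_zero]
  have hdec : ∀ x, p16 x = 0 → M *ᵥ x = (M *ᵥ x) i0 • e F i0 + p10 (M *ᵥ x) := fun x hx => by
    conv_lhs => rw [decomp (M *ᵥ x)]
    rw [hp16 x hx, add_zero]
  have h16e : p16 (e F i0) = 0 := by rw [p16_e, ty_i0, if_neg (by norm_num)]
  have h1610 : ∀ w : I27 → F, p10 w = w → p16 w = 0 := fun w hw => by
    rw [← hw]; funext i; simp only [p10, p16]
    split_ifs with a b
    · omega
    · rfl
    · rfl
  have hinv : ∀ x : I27 → F, M *ᵥ (((g⁻¹ : GL I27 F) : Matrix I27 I27 F) *ᵥ x) = x := fun x => by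
    rw [Matrix.mulVec_mulVec, hM, ← Units.val_mul, mul_inv_cancel, Units.val_one, Matrix.one_mulVec]
  -- the image of `e`
  obtain ⟨a, u, hu, hae⟩ : ∃ (a : F) (u : I27 → F), p10 u = u ∧ M *ᵥ e F i0 = a • e F i0 + u :=
    ⟨_, _, p10_p10 _, hdec _ h16e⟩
  have hr1 : ∀ x, T3 (M *ᵥ e F i0) (M *ᵥ e F i0) x = 0 := by
    intro x
    rw [← hinv x, T3_inv hg, T3_e0]
    unfold BB
    rw [til_e_zero (by rw [ty_i0]; norm_num), zero_dotProduct]
  have hr2 : ∀ w, p10 w = w → 2 * (a * BB u w) = 0 := by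
    intro w hw
    have h3 := hr1 ((0 : F) • e F i0 + w)
    rw [hae, T3_plus a a 0 hu hu hw] at h3
    linear_combination h3
  have ha : a ≠ 0 := by
    intro ha
    rw [ha, zero_smul, zero_add] at hae
    have key : ∀ w w', p10 w = w → p10 w' = w' →
        BB w w' = (M *ᵥ w) i0 * BB u (M *ᵥ w') + (M *ᵥ w') i0 * BB u (M *ᵥ w) := by
      intro w w' hw hw'
      rw [← T3_e0 w w', ← T3_inv hg (e F i0) w w', ← hM, hae, hdec w (h1610 w hw), hdec w' (h1610 w' hw')]
      have h4 := T3_plus (0 : F) ((M *ᵥ w) i0) ((M *ᵥ w') i0) hu (p10_p10 (M *ᵥ w)) (p10_p10 (M *ᵥ w'))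
      rw [zero_smul, zero_add] at h4
      rw [h4, zero_mul, zero_add]
      have h5 : ∀ y : I27 → F, BB u (p10 y) = BB u y := fun y => by rw [← BB_p10 u y, hu]
      have h6 : ∀ y : I27 → F, ∀ t : F, BB u (t • e F i0 + p10 y) = BB u (p10 y) := fun y t => by
        rw [BB_add_right, BB_smul_right, BB_symm u (e F i0)]
        unfold BB
        rw [til_e_zero (by rw [ty_i0]; norm_num), zero_dotProduct, mul_zero, zero_add]
      have h7 : ∀ y : I27 → F, ∀ t : F, (t • e F i0 + p10 y) i0 = t := fun y t => by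
        simp [e_apply, p10, ty_i0]
      rw [h6, h6, h7, h7]
    have t4 : ty (dec 4) = 2 := by decide +kernel
    have t5 : ty (dec 5) = 2 := by decide +kernel
    have t9 : ty (dec 9) = 2 := by decide +kernel
    have q1 : (dec 4 ≠ dec 5 ∧ dec 4 ≠ opp (dec 5)) ∧ (dec 4 ≠ dec 9 ∧ dec 4 ≠ opp (dec 9)) ∧
        (dec 5 ≠ dec 9 ∧ dec 5 ≠ opp (dec 9)) ∧ (dec 9 ≠ dec 4 ∧ dec 9 ≠ opp (dec 4)) := by decide +kernel
    obtain ⟨⟨a1, a2⟩, ⟨b1, b2⟩, ⟨c1, c2⟩, ⟨d1, d2⟩⟩ := q1
    obtain ⟨x1, x2, x3⟩ := hv_spec (F := F) t4 t5 a1 a2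
    obtain ⟨-, -, y3⟩ := hv_spec (F := F) t4 t9 b1 b2
    obtain ⟨y1, y2, w3⟩ := hv_spec (F := F) t5 t9 c1 c2
    obtain ⟨w1, w2, -⟩ := hv_spec (F := F) t9 t4 d1 d2
    have sg : ∀ k : ℕ, ((sgm (dec k) : ℤ) : F) ≠ 0 := fun k => by unfold sgm; exact tsN_ne_zero _
    refine no_three h2 (p := ![(M *ᵥ hv F 4) i0, (M *ᵥ hv F 5) i0, (M *ᵥ hv F 9) i0])
      (r := ![BB u (M *ᵥ hv F 4), BB u (M *ᵥ hv F 5), BB u (M *ᵥ hv F 9)]) ?_ ?_
    · intro i hi
      have h5 : ∀ k, p10 (hv F k) = hv F k → (M *ᵥ hv F k) i0 * BB u (M *ᵥ hv F k) = 0 →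
          BB (hv F k) (hv F k) = 0 := fun k hk h => by
        rw [key _ _ hk hk, h, add_zero]
      fin_cases i
      · exact mul_ne_zero h2 (sg 4) (x2.symm.trans (h5 4 x1 hi))
      · exact mul_ne_zero h2 (sg 5) (y2.symm.trans (h5 5 y1 hi))
      · exact mul_ne_zero h2 (sg 9) (w2.symm.trans (h5 9 w1 hi))
    · intro i j hij
      have k1 := (key _ _ x1 y1).symm.trans x3
      have k2 := (key _ _ x1 w1).symm.trans y3
      have k3 := (key _ _ y1 w1).symm.trans w3
      fin_cases i <;> fin_cases j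
      · exact absurd rfl hij
      · exact k1
      · exact k2
      · rw [add_comm]; exact k1
      · exact absurd rfl hij
      · exact k3
      · rw [add_comm]; exact k2
      · rw [add_comm]; exact k3
      · exact absurd rfl hij
  have hu0 : u = 0 := eq_zero_of_BB hu fun w hw => by
    have := hr2 w hw
    exact (mul_eq_zero.1 ((mul_eq_zero.1 this).resolve_left h2)).resolve_left ha
  rw [hu0, add_zero] at hae
  -- the form
  have hform : ∀ w w', p10 w = w → p10 w' = w' → a * BB (p10 (M *ᵥ w)) (p10 (M *ᵥ w')) = BB w w' := by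
    intro w w' hw hw'
    rw [← T3_e0 w w', ← T3_inv hg (e F i0) w w', ← hM, hae, hdec w (h1610 w hw), hdec w' (h1610 w' hw')]
    have h4 := T3_plus a ((M *ᵥ w) i0) ((M *ᵥ w') i0) (u := 0) (by funext x; simp [p10]) (p10_p10 (M *ᵥ w))
      (p10_p10 (M *ᵥ w'))
    rw [add_zero, BB_zero_left, BB_zero_left, mul_zero, mul_zero, add_zero, add_zero] at h4
    rw [h4]
    have h7 : ∀ y : I27 → F, ∀ t : F, p10 (t • e F i0 + p10 y) = p10 y := fun y t => by
      rw [p10_add, p10_smul, p10_e, ty_i0, if_neg (by norm_num), smul_zero, zero_add, p10_p10]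
    rw [h7, h7]
  have hbeta : ∀ w, p10 w = w → (M *ᵥ w) i0 = 0 := by
    intro w hw
    by_cases hww : BB w w = 0
    · by_cases hw0 : w = 0
      · rw [hw0, Matrix.mulVec_zero]; rfl
      obtain ⟨w', hw', hne⟩ : ∃ w', p10 w' = w' ∧ BB w w' ≠ 0 := by
        by_contra hcon
        push Not at hcon
        exact hw0 (eq_zero_of_BB hw hcon)
      have h3 : T3 (M *ᵥ w) (M *ᵥ w) (M *ᵥ w') = 0 := by
        rw [T3_inv hg]
        have := T3_plus (0 : F) 0 0 hw hw hw'
        rw [zero_smul, zero_add, zero_add] at this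
        rw [this]
        ring
      rw [hdec w (h1610 w hw), hdec w' (h1610 w' hw'), T3_plus _ _ _ (p10_p10 _) (p10_p10 _) (p10_p10 _)] at h3
      have h4 := hform w w' hw hw'
      have h5 := hform w w hw hw
      rw [hww] at h5
      have h6 : BB (p10 (M *ᵥ w)) (p10 (M *ᵥ w)) = 0 := (mul_eq_zero.1 h5).resolve_left ha
      have h7 : BB (p10 (M *ᵥ w)) (p10 (M *ᵥ w')) ≠ 0 := by
        intro h; rw [h, mul_zero] at h4; exact hne h4.symm
      have h9 : ∀ (y y' : I27 → F), (y i0 • e F i0 + p10 y) i0 = y i0 := fun y _ => by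
        simp [e_apply, p10, ty_i0]
      rw [h6, mul_zero, add_zero] at h3
      have h8 : 2 * ((M *ᵥ w) i0 * BB (p10 (M *ᵥ w)) (p10 (M *ᵥ w'))) = 0 := by
        linear_combination h3
      exact (mul_eq_zero.1 ((mul_eq_zero.1 h8).resolve_left h2)).resolve_right h7
    · have h3 : 2 * cubicT (M *ᵥ w) = 2 * cubicT w := by rw [(mem_E6univ_iff g).1 hg w]
      rw [two_cubicT, two_cubicT, h1610 w hw, hp16 w (h1610 w hw)] at h3
      have h4 : ∀ y : I27 → F, T3 y 0 0 = 0 := fun y => by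
        have := T3_smul_right (0 : F) y 0 0
        rwa [zero_smul, zero_mul] at this
      have h5 : w i0 = 0 := by rw [← hw]; simp [p10, ty_i0]
      rw [h4, h4, h5, zero_mul, add_zero, add_zero, ← BB_p10] at h3
      have h6 := hform w w hw hw
      rcases mul_eq_zero.1 h3 with h7 | h7
      · exact h7
      · exfalso
        rw [h7, mul_zero] at h6
        exact hww h6.symm
  have hten : ∀ w, p10 w = w → p10 (M *ᵥ w) = M *ᵥ w := by
    intro w hw
    conv_rhs => rw [hdec w (h1610 w hw)]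
    rw [hbeta w hw, zero_smul, zero_add]
  refine ⟨a, ha, hae, hten, fun w w' hw hw' => ?_⟩
  have := hform w w' hw hw'
  rwa [hten w hw, hten w' hw'] at this

/-! ### the kernel -/

theorem tab_sep : (allLt 27 fun x => !(relN 0 x == 1) || allLt 27 fun y => !(relN 0 y == 1) || (x == y) ||
    !(allLt 27 fun k => !(relN 0 k == 2) || !(relN k x == 1) || !(relN k y == 2))) = true := by
  decide +kernel

/-- paths of length 1 or 2 from the coordinate 1 -/
theorem tab_path : (allLt 27 fun x => !(relN 0 x == 1) || (relN 1 x == 2) ||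
    [3, 6, 12, 13, 14].any fun a => relN a x == 2) = true := by
  decide +kernel

theorem tab_th1 : (allLt 27 fun x => allLt 27 fun y => !(relN 0 x == 1) || !(relN 0 y == 1) || !(relN x y == 2) ||
    (relN 0 (thN x y) == 2)) = true := by
  decide +kernel

theorem not_allLt' {n : ℕ} {p : ℕ → Bool} (h : (!(allLt n p)) = true) : ∃ k < n, p k = false := not_allLt h

/-- **The kernel of the action on the 10-dimensional part.** -/
theorem cent_ker (h2 : (2 : F) ≠ 0) {g : GL I27 F} (hg : g ∈ E6univ F) (hz : g * z0 F = z0 F * g)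
    (hten : ∀ w, p10 w = w → (g : Matrix I27 I27 F) *ᵥ w = w) : g = 1 ∨ g = z0 F := by
  obtain ⟨a, ha, hae, -, hform⟩ := cent_act h2 hg hz
  set M : Matrix I27 I27 F := (g : Matrix I27 I27 F) with hM
  have t4 : ty (dec 4) = 2 := by decide +kernel
  have t5 : ty (dec 5) = 2 := by decide +kernel
  have q1 : dec 4 ≠ dec 5 ∧ dec 4 ≠ opp (dec 5) := by decide +kernel
  obtain ⟨x1, x2, -⟩ := hv_spec (F := F) t4 t5 q1.1 q1.2
  have sg : ∀ k : ℕ, ((sgm (dec k) : ℤ) : F) ≠ 0 := fun k => by unfold sgm; exact tsN_ne_zero _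
  have ha1 : a = 1 := by
    have h3 := hform _ _ x1 x1
    rw [hten _ x1, x2] at h3
    have h4 : (2 : F) * ((sgm (dec 4) : ℤ) : F) ≠ 0 := mul_ne_zero h2 (sg 4)
    have h5 : (a - 1) * ((2 : F) * ((sgm (dec 4) : ℤ) : F)) = 0 := by linear_combination h3
    exact sub_eq_zero.1 ((mul_eq_zero.1 h5).resolve_right h4)
  rw [ha1, one_smul] at hae
  have hp16 := cent_p16 h2 hz
  rw [← hM] at hp16
  -- coordinates of the images of the basis vectors of type 1
  have hcoord : ∀ x : I27, ty x = 1 → ∀ y : I27, y ≠ x → (M *ᵥ e F x) y = 0 := by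
    intro x hx y hyx
    have h16 : p16 (M *ᵥ e F x) = M *ᵥ e F x := by rw [hp16, p16_e, if_pos hx]
    by_cases hy : ty y = 1
    swap
    · rw [← h16]; simp [p16, hy]
    have h3 := allLt_spec tab_sep _ (code_lt x)
    rw [Bool.or_eq_true] at h3
    have h4 := h3.resolve_left (by simp only [Bool.not_eq_true', beq_eq_false_iff_ne]; exact fun h => h hx)
    have h5 := allLt_spec h4 _ (code_lt y)
    rw [Bool.or_eq_true, Bool.or_eq_true] at h5
    have h6 := (h5.resolve_left (by
      simp only [Bool.not_eq_true', beq_eq_false_iff_ne, beq_iff_eq, not_or]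
      exact ⟨fun h => h hy, fun h => hyx (code_injective h.symm)⟩))
    obtain ⟨k, hk, h7⟩ := not_allLt h6
    simp only [Bool.or_eq_false_iff, Bool.not_eq_false', beq_iff_eq] at h7
    obtain ⟨⟨h8, h9⟩, h10⟩ := h7
    have hck : code (dec k) = k := code_dec hk
    have hk2 : ty (dec k) = 2 := by unfold ty; rw [hck]; exact h8
    have hkx : rel (dec k) x = 1 := by unfold rel; rw [hck]; exact h9
    have hky : rel (dec k) y = 2 := by unfold rel; rw [hck]; exact h10
    -- `e_k × e_x = 0`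
    have h11 : T3 (e F (dec k)) (M *ᵥ e F x) (M *ᵥ (((g⁻¹ : GL I27 F) : Matrix I27 I27 F) *ᵥ e F (th (dec k) y))) = 0 := by
      have h12 := T3_inv hg (e F (dec k)) (e F x) (((g⁻¹ : GL I27 F) : Matrix I27 I27 F) *ᵥ e F (th (dec k) y))
      rw [← hM, hten _ (by rw [p10_e, if_pos hk2])] at h12
      rw [h12, T3_eq, cr_basis_zero (by omega), zero_dotProduct]
    have hinv : ∀ x : I27 → F, M *ᵥ (((g⁻¹ : GL I27 F) : Matrix I27 I27 F) *ᵥ x) = x := fun x => by
      rw [Matrix.mulVec_mulVec, hM, ← Units.val_mul, mul_inv_cancel, Units.val_one, Matrix.one_mulVec]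
    rw [hinv] at h11
    have h13 := th_spec hky
    have h14 : T3 (e F (dec k)) (M *ᵥ e F x) (e F (th (dec k) y)) =
        ((tsN (tn (dec k) (th (dec k) y)) : ℤ) : F) * (M *ᵥ e F x) y := by
      rw [T3_basis h13.2.2.2.2.1, h13.2.2.2.2.2.2]
    rw [h14] at h11
    exact (mul_eq_zero.1 h11).resolve_left (tsN_ne_zero _)
  obtain ⟨d, hd⟩ : ∃ d : I27 → F, ∀ x, d x = (M *ᵥ e F x) x := ⟨_, fun _ => rfl⟩
  have hMe : ∀ x : I27, ty x = 1 → M *ᵥ e F x = d x • e F x := by
    intro x hx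
    funext y
    rw [Pi.smul_apply, smul_eq_mul, e_apply]
    by_cases h : y = x
    · subst h; rw [if_pos rfl, mul_one, hd]
    · rw [if_neg h, mul_zero, hcoord x hx y h]
  have hdd : ∀ x y : I27, ty x = 1 → ty y = 1 → rel x y = 2 → d x * d y = 1 := by
    intro x y hx hy h
    have h3 := allLt_spec (allLt_spec tab_th1 _ (code_lt x)) _ (code_lt y)
    simp only [Bool.or_eq_true, beq_iff_eq, Bool.not_eq_true', beq_eq_false_iff_ne] at h3
    have h4 : ty (th x y) = 2 := by
      unfold ty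
      rw [code_th h]
      rcases h3 with ((h3 | h3) | h3) | h3
      · exact absurd hx h3
      · exact absurd hy h3
      · exact absurd h h3
      · exact h3
    have h5 := T3_inv hg (e F x) (e F (th x y)) (e F y)
    rw [← hM, hten (e F (th x y)) (by rw [p10_e, if_pos h4]), hMe x hx, hMe y hy, T3_smul_left, T3_smul_right, T3_basis h,
      e_apply, if_pos rfl, mul_one] at h5
    have h6 : (d x * d y - 1) * ((tsN (tn x y) : ℤ) : F) = 0 := by linear_combination h5
    exact sub_eq_zero.1 ((mul_eq_zero.1 h6).resolve_right (tsN_ne_zero _))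
  have t1 : ty (dec 1) = 1 := by decide +kernel
  have t2 : ty (dec 2) = 1 := by decide +kernel
  have t15 : ty (dec 15) = 1 := by decide +kernel
  have ta : ∀ a ∈ [3, 6, 12, 13, 14], ty (dec a) = 1 ∧ rel (dec 1) (dec a) = 2 := by decide +kernel
  have hn : ∀ a ∈ [3, 6, 12, 13, 14], d (dec 1) * d (dec a) = 1 := fun a ha =>
    hdd _ _ t1 (ta a ha).1 (ta a ha).2
  have hn3 := hn 3 (by decide)
  have hn13 := hn 13 (by decide)
  have r32 : rel (dec 3) (dec 2) = 2 := by decide +kernel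
  have r1315 : rel (dec 13) (dec 15) = 2 := by decide +kernel
  have r215 : rel (dec 2) (dec 15) = 2 := by decide +kernel
  have h32 := hdd _ _ (ta 3 (by decide)).1 t2 r32
  have h1315 := hdd _ _ (ta 13 (by decide)).1 t15 r1315
  have h215 := hdd _ _ t2 t15 r215
  have e2 : d (dec 2) = d (dec 1) := by
    linear_combination d (dec 1) * h32 - d (dec 2) * hn3
  have e15 : d (dec 15) = d (dec 1) := by
    linear_combination d (dec 1) * h1315 - d (dec 15) * hn13
  have hsq : d (dec 1) * d (dec 1) = 1 := by rw [e2, e15] at h215; exact h215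
  have hinv' : ∀ b : F, d (dec 1) * b = 1 → b = d (dec 1) := fun b hb => by
    linear_combination d (dec 1) * hb - b * hsq
  have hconst : ∀ x : I27, ty x = 1 → d x = d (dec 1) := by
    intro x hx
    have h3 := allLt_spec tab_path _ (code_lt x)
    simp only [Bool.or_eq_true, beq_iff_eq, Bool.not_eq_true', beq_eq_false_iff_ne, List.any_eq_true] at h3
    rcases h3 with (h3 | h3) | ⟨a, ha, h3⟩
    · exact absurd hx h3
    · refine hinv' _ (hdd _ _ t1 hx ?_)
      unfold rel
      rw [code_dec (by norm_num)]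
      exact h3
    · have h4 : rel (dec a) x = 2 := by
        unfold rel
        rw [code_dec (by
          have : ∀ a ∈ [3, 6, 12, 13, 14], a < 27 := by decide
          exact this a ha)]
        exact h3
      have h5 := hdd _ _ (ta a ha).1 hx h4
      have h6 := hn a ha
      linear_combination d (dec 1) * h5 - d x * h6
  -- conclusion
  have hfin : ∀ x, M *ᵥ x = x i0 • e F i0 + p10 x + d (dec 1) • p16 x := by
    intro x
    have h16 : ∀ y : I27 → F, M *ᵥ p16 y - d (dec 1) • p16 y = 0 := by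
      intro y
      refine lin_zero (f := fun y : I27 → F => M *ᵥ p16 y - d (dec 1) • p16 y) (fun a b => by
        simp only [p16_add, Matrix.mulVec_add, smul_add]; abel) (fun c a => by
        simp only [p16_smul, Matrix.mulVec_smul, smul_sub, smul_comm c]) (fun k => ?_) y
      show M *ᵥ p16 (e F k) - d (dec 1) • p16 (e F k) = 0
      rw [p16_e]
      split_ifs with hk
      · rw [hMe k hk, hconst k hk, sub_self]
      · simp
    conv_lhs => rw [decomp x]
    rw [Matrix.mulVec_add, Matrix.mulVec_add, Matrix.mulVec_smul, hae, hten _ (p10_p10 x),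
      sub_eq_zero.1 (h16 x)]
  have hext : ∀ g' : GL I27 F, (∀ x, (g' : Matrix I27 I27 F) *ᵥ x = M *ᵥ x) → g = g' := by
    intro g' h
    apply Units.ext
    apply Matrix.toLin'.injective
    refine LinearMap.ext fun x => ?_
    rw [Matrix.toLin'_apply, Matrix.toLin'_apply]
    exact (h x).symm
  have h7 : (d (dec 1) - 1) * (d (dec 1) + 1) = 0 := by linear_combination hsq
  rcases mul_eq_zero.1 h7 with h8 | h8
  · left
    refine hext 1 fun x => ?_
    rw [hfin, sub_eq_zero.1 h8, one_smul, Units.val_one, Matrix.one_mulVec]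
    exact decomp x
  · right
    refine hext (z0 F) fun x => ?_
    rw [hfin, z0_mulVec, eq_neg_of_add_eq_zero_left h8]
    conv_lhs => rw [decomp x]
    rw [p16_add, p16_add, p16_p16, p16_smul, p16_e, ty_i0, if_neg (by norm_num), smul_zero, zero_add]
    have h3 : p16 (p10 x) = 0 := by
      funext i; simp only [p10, p16]
      split_ifs with a b
      · omega
      · rfl
      · rfl
    rw [h3, zero_add, two_smul, neg_one_smul]
    abel

end Cfsg.Agent.H512.DFive
end

-- part: H512/DFive/Conj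
section
/-!
# Involutions of `E₆` with `dim [V₂₇, z] = 16` are conjugate to `z0` (helper512, for S1920)
-/

set_option autoImplicit false

namespace Cfsg.Agent.H512.DFive

open Cfsg Cfsg.Lie Matrix
open Cfsg.Agent.ChevalleyStructure.E6Min Cfsg.Agent.ChevalleyStructure.E6Min.Tables
  Cfsg.Agent.ChevalleyStructure.E6Min.Basic Cfsg.Agent.ChevalleyStructure.E6Min.Forms
  Cfsg.Agent.ChevalleyStructure.E6Min.Inv Cfsg.Agent.ChevalleyStructure.E6Min.Elim
  Cfsg.Agent.ChevalleyStructure.E6Min.Torus Cfsg.Agent.ChevalleyStructure.E6Min.Adjoint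
  Cfsg.Agent.ChevalleyStructure.E6Min.Checks2
open Cfsg.Agent.H318.Four Cfsg.Agent.H318.Four.E6Inv

variable {F : Type*} [Field F]

/-- the sign pattern of the involution attached to the weight `i` -/
def sgi (F : Type*) [Field F] (i x : I27) : F := if rel i x = 1 then -1 else 1

theorem tab_pat : (allLt 64 fun n => !(cnt (Xr n 6) 27 == 16) ||
    !(allLt 27 fun i => !(allLt 27 fun y => (Xr n 6).testBit y == (relN i y == 1)))) = true := by
  decide +kernel

theorem tab_weyl : (allLt 27 fun i => allLt 27 fun j => !(relN i j == 1) || (Nat.blt (rtN i j) 72 &&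
    allLt 27 fun x =>
      (!(indN (rtN i j) x == 0) || !(indN (71 - rtN i j) x == 0) || ((relN i x == 1) == (relN j x == 1))) &&
      ((sgN (rtN i j) x == 0) || ((relN i (srN (rtN i j) x) == 1) == (relN j x == 1))) &&
      ((sgN (71 - rtN i j) x == 0) || ((relN i (srN (71 - rtN i j) x) == 1) == (relN j x == 1))))) = true := by
  have h1 : ∀ r x, (sgN r x == 0) = Nat.blt (ent r x) 32 := by
    intro r x
    unfold sgN
    by_cases h : ent r x < 32
    · rw [if_pos h, Nat.blt_eq.mpr h]; rfl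
    · rw [if_neg h, Bool.eq_false_iff.2 (fun h' => h (Nat.blt_eq.mp h'))]
      split <;> rfl
  have h2 : ∀ r x, (indN r x == 0) = Nat.blt (ent r x) 32 := by
    intro r x
    rw [← h1]
    unfold indN
    by_cases h : sgN r x = 0
    · rw [if_pos h, h]
    · rw [if_neg h, beq_eq_false_iff_ne.2 h]; rfl
  have h3 : ∀ a b : ℕ, (a == b) = Nat.beq a b := by
    intro a b
    cases h : Nat.beq a b
    · exact beq_eq_false_iff_ne.2 (Nat.ne_of_beq_eq_false h)
    · exact beq_iff_eq.2 (Nat.eq_of_beq_eq_true h)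
  have h4 : ∀ a b : Bool, (a == b) = Bool.rec (Bool.rec true false b) b a := by
    intro a b; cases a <;> cases b <;> rfl
  have h5 : ∀ a b : Bool, (a || b) = Bool.rec b true a := by
    intro a b; cases a <;> rfl
  have h6 : ∀ a b : Bool, (a && b) = Bool.rec false b a := by
    intro a b; cases a <;> rfl
  have h7 : ∀ a : Bool, (!a) = Bool.rec true false a := by
    intro a; cases a <;> rfl
  have e1 : relN = fun i j => Nat.land (Nat.shiftRight REL (Nat.mul 2 (Nat.add (Nat.mul 27 i) j))) 3 := rfl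
  have e2 : srN = fun r j => Nat.land (ent r j) 31 := rfl
  have e3 : ent = fun r j => Nat.land (Nat.shiftRight TR (Nat.mul 7 (Nat.add (Nat.mul 27 r) j))) 127 := rfl
  simp only [h1, h2, h3, h4, h5, h6, h7]
  rewrite [e2, e1, e3]
  decide +kernel

/-- one Weyl element -/
theorem weyl_step {i j : I27} (h : rel i j = 1) : ∃ n ∈ Zgrp F,
    (n : Matrix I27 I27 F) * Matrix.diagonal (sgi F i) = Matrix.diagonal (sgi F j) * (n : Matrix I27 I27 F) := by
  have h1 := allLt_spec (allLt_spec tab_weyl _ (code_lt i)) _ (code_lt j)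
  rw [Bool.or_eq_true] at h1
  have h2 := h1.resolve_left (by simp only [Bool.not_eq_true', beq_eq_false_iff_ne]; exact fun h' => h' h)
  rw [Bool.and_eq_true, Nat.blt_eq] at h2
  obtain ⟨hr, h3⟩ := h2
  have hr' : 71 - rtN (code i) (code j) < 72 := by omega
  refine ⟨zU (rtN (code i) (code j)) (1 : F) * zU (71 - rtN (code i) (code j)) (-(1 : F)⁻¹) *
    zU (rtN (code i) (code j)) 1, mul_mem (mul_mem (zU_mem _ _) (zU_mem _ _)) (zU_mem _ _), ?_⟩
  simp only [Units.val_mul]
  rw [coe_zU hr, coe_zU hr', nM_eq hr one_ne_zero, Nm_mul_opp hr, Nm_opp_mul hr]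
  ext x y
  rw [Matrix.mul_diagonal, Matrix.diagonal_mul]
  simp only [Matrix.sub_apply, Matrix.add_apply, Matrix.smul_apply, smul_eq_mul, one_mul, inv_one, Nm_apply,
    Matrix.diagonal_apply, Matrix.one_apply]
  have h4 := allLt_spec h3 _ (code_lt x)
  simp only [Bool.and_eq_true, Bool.or_eq_true, beq_iff_eq, Bool.not_eq_true', beq_eq_false_iff_ne] at h4
  obtain ⟨⟨a1, a2⟩, a3⟩ := h4
  set r := rtN (code i) (code j) with hrdef
  have key : ∀ (b : Prop) [Decidable b] (t : F), (b → t ≠ 0 → sgi F i y = sgi F j x) →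
      (if b then t else 0) * sgi F i y = sgi F j x * (if b then t else 0) := by
    intro b _ t hb
    split_ifs with h'
    · by_cases ht : t = 0
      · rw [ht, zero_mul, mul_zero]
      · rw [hb h' ht, mul_comm]
    · rw [zero_mul, mul_zero]
  have hs : ∀ x' : I27, ((relN (code i) (code x') == 1) = (relN (code j) (code x) == 1)) →
      sgi F i x' = sgi F j x := by
    intro x' h5
    unfold sgi rel
    by_cases h6 : relN (code i) (code x') = 1
    · have h7 : relN (code j) (code x) = 1 := by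
        rw [← beq_iff_eq, ← h5, beq_iff_eq]; exact h6
      rw [if_pos h6, if_pos h7]
    · have h7 : ¬ relN (code j) (code x) = 1 := by
        rw [← beq_iff_eq, ← h5, beq_iff_eq]; exact h6
      rw [if_neg h6, if_neg h7]
  have hN : (if y = sr r x then ((sg r x : ℤ) : F) else 0) * sgi F i y =
      sgi F j x * (if y = sr r x then ((sg r x : ℤ) : F) else 0) := by
    refine key _ _ fun h5 h6 => ?_
    rw [h5]
    refine hs _ ?_
    rw [code_sr hr]
    refine a2.resolve_left fun h7 => h6 ?_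
    have : sg r x = 0 := h7
    rw [this, Int.cast_zero]
  have hN' : (if y = sr (71 - r) x then ((sg (71 - r) x : ℤ) : F) else 0) * sgi F i y =
      sgi F j x * (if y = sr (71 - r) x then ((sg (71 - r) x : ℤ) : F) else 0) := by
    refine key _ _ fun h5 h6 => ?_
    rw [h5]
    refine hs _ ?_
    rw [code_sr hr']
    refine a3.resolve_left fun h7 => h6 ?_
    have : sg (71 - r) x = 0 := h7
    rw [this, Int.cast_zero]
  have hD : ((if x = y then (1 : F) else 0) - (if x = y then ((ind r x : ℤ) : F) else 0) -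
      (if x = y then ((ind (71 - r) x : ℤ) : F) else 0)) * sgi F i y =
      sgi F j x * ((if x = y then (1 : F) else 0) - (if x = y then ((ind r x : ℤ) : F) else 0) -
      (if x = y then ((ind (71 - r) x : ℤ) : F) else 0)) := by
    by_cases hxy : x = y
    swap
    · simp [hxy]
    subst hxy
    rw [if_pos rfl, if_pos rfl, if_pos rfl]
    by_cases b1 : ind r x = 0
    · by_cases b2 : ind (71 - r) x = 0
      · rw [hs x ?_, mul_comm]
        rcases a1 with (a1 | a1) | a1
        · exact absurd b1 a1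
        · exact absurd b2 a1
        · exact a1
      · have b3 : ind (71 - r) x = 1 := by
          have := b2
          unfold ind indN at this ⊢
          split_ifs at this ⊢ <;> first | rfl | exact absurd rfl this
        rw [b1, b3]; simp
    · have b3 : ind r x = 1 := by
        have := b1
        unfold ind indN at this ⊢
        split_ifs at this ⊢ <;> first | rfl | exact absurd rfl this
      by_cases b2 : ind (71 - r) x = 0
      · rw [b2, b3]; simp
      · exfalso
        -- both non-zero is impossible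
        have h6 : sg r x ≠ 0 := by
          intro h; exact b1 (ind_of_eq h)
        have h7 : sg (71 - r) x ≠ 0 := by
          intro h; exact b2 (ind_of_eq h)
        exact h7 (row_opp hr h6).2.2
  linear_combination hD + hN - hN'

theorem tab_two : (allLt 27 fun i => (i == 0) || (relN i 0 == 1) ||
    [1, 2, 3, 6, 12, 13, 14, 15, 16, 17, 19, 20, 22, 23, 25, 26].any fun j =>
      (relN i j == 1) && (relN j 0 == 1)) = true := by
  decide +kernel

/-- every sign pattern is conjugate to the one of the first weight -/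
theorem weyl_conj (i : I27) : ∃ n ∈ Zgrp F,
    (n : Matrix I27 I27 F) * Matrix.diagonal (sgi F i) = Matrix.diagonal (sgi F i0) * (n : Matrix I27 I27 F) := by
  have h := allLt_spec tab_two _ (code_lt i)
  simp only [Bool.or_eq_true, Bool.and_eq_true, beq_iff_eq, List.any_eq_true] at h
  rcases h with (h | h) | ⟨j, hj, h1, h3⟩
  · have : i = i0 := code_injective (by rw [h, code_i0])
    refine ⟨1, one_mem _, ?_⟩
    rw [this, Units.val_one, one_mul, mul_one]
  · refine weyl_step ?_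
    unfold rel
    rw [code_i0]
    exact h
  · have hc : code (dec j) = j := code_dec (by
      have : ∀ j ∈ [1, 2, 3, 6, 12, 13, 14, 15, 16, 17, 19, 20, 22, 23, 25, 26], j < 27 := by decide
      exact this j hj)
    obtain ⟨n, hn, e1⟩ := weyl_step (F := F) (i := i) (j := dec j) (by unfold rel; rw [hc]; exact h1)
    obtain ⟨m, hm, e2⟩ := weyl_step (F := F) (i := dec j) (j := i0) (by unfold rel; rw [hc, code_i0]; exact h3)
    refine ⟨m * n, mul_mem hm hn, ?_⟩
    rw [Units.val_mul, mul_assoc, e1, ← mul_assoc, e2, mul_assoc]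

theorem coe_z0 : ((z0 F : GL I27 F) : Matrix I27 I27 F) = Matrix.diagonal (sgi F i0) := by
  apply Matrix.toLin'.injective
  refine LinearMap.ext fun x => ?_
  rw [Matrix.toLin'_apply, Matrix.toLin'_apply, z0_mulVec]
  funext y
  rw [Matrix.mulVec_diagonal]
  show x y - 2 * p16 x y = _
  unfold sgi p16
  rw [← ty_eq]
  split_ifs
  · ring
  · ring

/-- **Involutions with `dim [V₂₇, z] = 16`.** -/
theorem conj_z0 {F : Type} [Field F] [Fintype F] (ho : Odd (Fintype.card F)) (h2 : (2 : F) ≠ 0) {g : Zgrp F}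
    (hgg : g * g = 1) (hrk : (((g : GL I27 F) : Matrix I27 I27 F) - 1).rank = 16) :
    ∃ x : Zgrp F, ((x * g * x⁻¹ : Zgrp F) : GL I27 F) = z0 F := by
  classical
  have ht : ad F g * ad F g = 1 := by rw [← map_mul, hgg, map_one]
  obtain ⟨y, hy⟩ := E6Tor.toral_E6 F ho ht
  obtain ⟨x, rfl⟩ := ad_surjective y
  have hs : ((ad F (x * g * x⁻¹) : ↥(chevE6.group F)) : GL chevE6.Idx F) ∈ chevE6.diagonalSubgroup F := by
    rw [map_mul, map_mul, map_inv]
    exact Subgroup.mem_subgroupOf.1 hy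
  have hss : (x * g * x⁻¹) * (x * g * x⁻¹) = 1 := by
    rw [show (x * g * x⁻¹) * (x * g * x⁻¹) = x * (g * g) * x⁻¹ by group, hgg, mul_one, mul_inv_cancel]
  obtain ⟨c, hc⟩ := Cfsg.Agent.H351.SpSix.RankE8.exists_dmat' chevE6 (by simp) _ hs
  have hcomm : ∀ i < 6, (((x * g * x⁻¹ : Zgrp F) : GL I27 F) : Matrix I27 I27 F) * Hm F i =
      Hm F i * (((x * g * x⁻¹ : Zgrp F) : GL I27 F) : Matrix I27 I27 F) := by
    intro i hi
    have h1 := (P_def _ _).1 (ad_P (x * g * x⁻¹)) (Sum.inl ⟨i, hi⟩)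
    rw [B_inl, hc, comb_def, Finset.sum_eq_single (Sum.inl ⟨i, hi⟩)] at h1
    · rw [h1, B_inl, ChevalleyStructure.HDiag.dmat_def, Matrix.diagonal_apply_eq]
      show ((1 : F) • Hm F i) * _ = _
      rw [one_smul]
    · intro row _ hrow
      rw [ChevalleyStructure.HDiag.dmat_def, Matrix.diagonal_apply_ne _ hrow, zero_smul]
    · intro h; exact absurd (Finset.mem_univ _) h
  have h4 : (((x * g * x⁻¹ : Zgrp F) : GL I27 F) : Matrix I27 I27 F) - 1 =
      ((x : GL I27 F) : Matrix I27 I27 F) * ((((g : GL I27 F) : Matrix I27 I27 F) - 1) *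
          (((x : GL I27 F)⁻¹ : GL I27 F) : Matrix I27 I27 F)) := by
    rw [Matrix.sub_mul, Matrix.mul_sub, one_mul, ← Units.val_mul (x : GL I27 F), mul_inv_cancel, Units.val_one,
      ← Units.val_mul, ← Units.val_mul, ← mul_assoc]
    rfl
  have hd : ∀ x : GL I27 F, IsUnit (x : Matrix I27 I27 F).det := fun x =>
    (Matrix.isUnit_iff_isUnit_det _).1 x.isUnit
  have h5 : ((((x * g * x⁻¹ : Zgrp F) : GL I27 F) : Matrix I27 I27 F) - 1).rank = 16 := by
    rw [h4, Matrix.rank_mul_eq_right_of_isUnit_det _ _ (hd _), Matrix.rank_mul_eq_left_of_isUnit_det _ _ (hd _), hrk]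
  -- the diagonal form
  obtain ⟨g', hg'⟩ : ∃ g' : GL I27 F, g' = ((x * g * x⁻¹ : Zgrp F) : GL I27 F) := ⟨_, rfl⟩
  have hgm : g' ∈ Zgrp F := by rw [hg']; exact (x * g * x⁻¹).2
  have hgg' : g' * g' = 1 := by rw [hg']; exact congrArg Subtype.val hss
  rw [← hg'] at hcomm h5
  obtain ⟨d, hd⟩ : ∃ d : I27 → F, ∀ x, d x = (g' : Matrix I27 I27 F) x x := ⟨_, fun _ => rfl⟩
  have hgd : (g' : Matrix I27 I27 F) = Matrix.diagonal d := by
    ext x y
    by_cases hxy : x = y
    · subst hxy; rw [Matrix.diagonal_apply_eq, hd]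
    · rw [Matrix.diagonal_apply_ne _ hxy]; exact diag_of_comm h2 hcomm hxy
  have he : ∀ x, (g' : Matrix I27 I27 F) *ᵥ e F x = d x • e F x := by
    intro x
    rw [hgd]
    funext y
    rw [Matrix.mulVec_diagonal, e_apply, Pi.smul_apply, e_apply]
    by_cases h : y = x
    · rw [if_pos h, h, smul_eq_mul]
    · rw [if_neg h, mul_zero, smul_zero]
  have hdd : ∀ x, d x * d x = 1 := by
    intro x
    have h1 := congrArg (fun g : GL I27 F => (g : Matrix I27 I27 F) x x) hgg'
    simp only [Units.val_mul, Units.val_one, hgd, Matrix.diagonal_mul_diagonal, Matrix.diagonal_apply_eq,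
      Matrix.one_apply_eq] at h1
    exact h1
  obtain ⟨n, hn, hsn⟩ := exists_signs hdd fun m k h => diag_rel (Zgrp_le F hgm) he h
  have hmat : (g' : Matrix I27 I27 F) - 1 =
      Matrix.diagonal (fun x => if (Xr n 6).testBit (code x) then (-2 : F) else 0) := by
    rw [hgd, ← Matrix.diagonal_one, Matrix.diagonal_sub]
    congr 1
    funext x
    rw [hsn x]
    cases (Xr n 6).testBit (code x)
    · simp [sb]
    · simp only [sb, if_true]; ring
  have hcard : ((g' : Matrix I27 I27 F) - 1).rank = cnt (Xr n 6) 27 := by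
    rw [hmat, Matrix.rank_diagonal, cnt_eq, Fintype.card_subtype]
    symm
    refine Finset.card_bij (fun s _ => dec s) ?_ ?_ ?_
    · intro s hs
      rw [Finset.mem_filter, Finset.mem_range] at hs
      rw [Finset.mem_filter]
      refine ⟨Finset.mem_univ _, ?_⟩
      rw [code_dec hs.1, if_pos hs.2]
      exact neg_ne_zero.2 h2
    · intro s hs s' hs' h
      rw [Finset.mem_filter, Finset.mem_range] at hs hs'
      rw [← code_dec hs.1, ← code_dec hs'.1, h]
    · intro x hx
      rw [Finset.mem_filter] at hx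
      refine ⟨code x, ?_, dec_code x⟩
      rw [Finset.mem_filter, Finset.mem_range]
      refine ⟨code_lt x, ?_⟩
      by_contra h4
      exact hx.2 (if_neg h4)
  rw [hcard] at h5
  have h6 := allLt_spec tab_pat n hn
  rw [Bool.or_eq_true] at h6
  have h7 := h6.resolve_left (by simp only [Bool.not_eq_true', beq_eq_false_iff_ne]; exact fun h => h h5)
  obtain ⟨i, hi, h8⟩ := not_allLt h7
  rw [Bool.not_eq_false'] at h8
  have hdi : d = sgi F (dec i) := by
    funext y
    rw [hsn y]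
    have h9 := allLt_spec h8 _ (code_lt y)
    rw [beq_iff_eq] at h9
    rw [h9]
    unfold sgi rel sb
    rw [code_dec hi]
    by_cases h10 : relN i (code y) = 1
    · simp [h10]
    · simp [h10]
  obtain ⟨m, hm, hmd⟩ := weyl_conj (F := F) (dec i)
  refine ⟨⟨m, hm⟩ * x, ?_⟩
  have h11 : m * g' = z0 F * m := by
    apply Units.ext
    rw [Units.val_mul, Units.val_mul, hgd, hdi, hmd, coe_z0]
  have h12 : (((⟨m, hm⟩ * x : Zgrp F) * g * (⟨m, hm⟩ * x : Zgrp F)⁻¹ : Zgrp F) : GL I27 F) = m * g' * m⁻¹ := by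
    rw [hg']
    show m * (x : GL I27 F) * (g : GL I27 F) * (m * (x : GL I27 F))⁻¹ =
      m * ((x : GL I27 F) * (g : GL I27 F) * (x : GL I27 F)⁻¹) * m⁻¹
    group
  rw [h12, h11, mul_inv_cancel_right]

end Cfsg.Agent.H512.DFive
end

-- part: H129/Co3/Faith
section
/-!
# S1920: the centralizer of an involution of type `D₅T₁` acts faithfully on the 16-dimensional part (helper129)

* `core_faith` : an isometry commuting with `z0` and trivial on the 16-dimensional part is trivial;
* `faith` : the same for an involution `z` of `Zgrp F` with `rank (z - 1) = 16`.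
-/

set_option autoImplicit false

namespace Cfsg.Agent.H129.Co3

open Cfsg Cfsg.Lie Matrix
open Cfsg.Agent.ChevalleyStructure.E6Min Cfsg.Agent.ChevalleyStructure.E6Min.Tables
  Cfsg.Agent.ChevalleyStructure.E6Min.Basic Cfsg.Agent.ChevalleyStructure.E6Min.Forms
  Cfsg.Agent.ChevalleyStructure.E6Min.Inv Cfsg.Agent.ChevalleyStructure.E6Min.Elim
  Cfsg.Agent.H512.DFive

variable {F : Type*} [Field F]

theorem tab_xy : (allLt 27 fun k => !(relN 0 k == 2) ||
    !(allLt 27 fun x => allLt 27 fun y => !((relN 0 x == 1) && (relN 0 y == 1) && (relN x y == 2) && (thN x y == k)))) =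
      true := by
  decide +kernel

theorem exists_xy {k : I27} (hk : ty k = 2) : ∃ x y : I27, ty x = 1 ∧ ty y = 1 ∧ rel x y = 2 ∧ th x y = k := by
  have h1 := allLt_spec tab_xy (code k) (code_lt k)
  rw [Bool.or_eq_true] at h1
  have h2 := h1.resolve_left (by
    have : relN 0 (code k) = 2 := hk
    simp [this])
  obtain ⟨x, hx, h3⟩ := not_allLt' h2
  obtain ⟨y, hy, h4⟩ := not_allLt' (p := fun y => !((relN 0 x == 1) && (relN 0 y == 1) && (relN x y == 2) &&
    (thN x y == code k))) (by rw [h3]; rfl)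
  simp only [Bool.not_eq_false', Bool.and_eq_true, beq_iff_eq] at h4
  obtain ⟨⟨⟨a, b⟩, c⟩, d⟩ := h4
  refine ⟨dec x, dec y, ?_, ?_, ?_, ?_⟩
  · unfold ty; rw [code_dec hx]; exact a
  · unfold ty; rw [code_dec hy]; exact b
  · unfold rel; rw [code_dec hx, code_dec hy]; exact c
  · unfold th; rw [code_dec hx, code_dec hy, d, dec_code]

theorem core_faith (h2 : (2 : F) ≠ 0) {g : GL I27 F} (hg : g ∈ E6univ F) (hz : g * z0 F = z0 F * g)
    (h16 : ∀ w, p16 w = w → (g : Matrix I27 I27 F) *ᵥ w = w) : g = 1 := by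
  obtain ⟨a, ha, hae, hten, hform⟩ := cent_act h2 hg hz
  have h10 : ∀ w, p10 w = w → (g : Matrix I27 I27 F) *ᵥ w = w := by
    intro w hw
    obtain ⟨u, hu⟩ : ∃ u, u = (g : Matrix I27 I27 F) *ᵥ w - w := ⟨_, rfl⟩
    have hu10 : p10 u = u := by
      rw [hu, p10_sub, hten w hw, hw]
    have h3 : ∀ k : I27, ty k = 2 → u k = 0 := by
      intro k hk
      obtain ⟨x, y, hx, hy, hxy, hth⟩ := exists_xy hk
      have ex : p16 (e F x) = e F x := by rw [p16_e, if_pos hx]
      have ey : p16 (e F y) = e F y := by rw [p16_e, if_pos hy]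
      have h4 : T3 (e F x) ((g : Matrix I27 I27 F) *ᵥ w) (e F y) = T3 (e F x) w (e F y) := by
        have h5 := T3_inv hg (e F x) w (e F y)
        rwa [h16 _ ex, h16 _ ey] at h5
      rw [T3_basis hxy, T3_basis hxy, hth] at h4
      have h6 := mul_left_cancel₀ (tsN_ne_zero (F := F) _) h4
      rw [hu, Pi.sub_apply, h6, sub_self]
    have h4 : u = 0 := by
      funext k
      by_cases hk : ty k = 2
      · exact h3 k hk
      · rw [← hu10]
        unfold p10
        rw [if_neg hk]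
        rfl
    rw [hu] at h4
    exact sub_eq_zero.1 h4
  rcases cent_ker h2 hg hz h10 with h | h
  · exact h
  · exfalso
    have t1 : ty (dec 1) = 1 ∨ ty (dec 2) = 1 ∨ ty (dec 3) = 1 := by decide +kernel
    obtain ⟨x, hx⟩ : ∃ x, ty x = 1 := by
      rcases t1 with h | h | h
      · exact ⟨_, h⟩
      · exact ⟨_, h⟩
      · exact ⟨_, h⟩
    have ex : p16 (e F x) = e F x := by rw [p16_e, if_pos hx]
    have h3 := h16 _ ex
    rw [h, z0_mulVec, ex, sub_eq_self, smul_eq_zero] at h3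
    rcases h3 with h3 | h3
    · exact h2 h3
    · have h4 := congrFun h3 x
      rw [e_apply, if_pos rfl] at h4
      exact one_ne_zero h4

/-- **Faithfulness on the 16-dimensional part.** -/
theorem faith {F : Type} [Field F] [Fintype F] (ho : Odd (Fintype.card F)) (h2 : (2 : F) ≠ 0) {z g : Zgrp F}
    (hzz : z * z = 1) (hrk : (((z : GL I27 F) : Matrix I27 I27 F) - 1).rank = 16) (hgz : g * z = z * g)
    (h : ∀ v : I27 → F, ((z : GL I27 F) : Matrix I27 I27 F) *ᵥ v = -v →
      ((g : GL I27 F) : Matrix I27 I27 F) *ᵥ v = v) : g = 1 := by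
  obtain ⟨x, hx⟩ := conj_z0 ho h2 hzz hrk
  have h1 : ((x * g * x⁻¹ : Zgrp F) : GL I27 F) = 1 := by
    refine core_faith h2 (Zgrp_le F (x * g * x⁻¹).2) ?_ ?_
    · rw [← hx, ← Subgroup.coe_mul, ← Subgroup.coe_mul]
      congr 1
      calc x * g * x⁻¹ * (x * z * x⁻¹) = x * (g * z) * x⁻¹ := by group
        _ = x * z * x⁻¹ * (x * g * x⁻¹) := by rw [hgz]; group
    · intro w hw
      have h3 : ((z0 F : GL I27 F) : Matrix I27 I27 F) *ᵥ w = -w := by
        rw [z0_mulVec, hw, two_smul]; abel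
      have h4 : ((z : GL I27 F) : Matrix I27 I27 F) *ᵥ ((((x⁻¹ : Zgrp F) : GL I27 F) : Matrix I27 I27 F) *ᵥ w) =
          -((((x⁻¹ : Zgrp F) : GL I27 F) : Matrix I27 I27 F) *ᵥ w) := by
        rw [Matrix.mulVec_mulVec, ← Units.val_mul, ← Subgroup.coe_mul]
        have h5 : z * x⁻¹ = x⁻¹ * (x * z * x⁻¹) := by group
        rw [h5, Subgroup.coe_mul, Units.val_mul, hx, ← Matrix.mulVec_mulVec, h3, Matrix.mulVec_neg]
      have h6 := h _ h4
      rw [Subgroup.coe_mul, Subgroup.coe_mul, Units.val_mul, Units.val_mul, ← Matrix.mulVec_mulVec,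
        ← Matrix.mulVec_mulVec, h6, Matrix.mulVec_mulVec, ← Units.val_mul, ← Subgroup.coe_mul, mul_inv_cancel,
        Subgroup.coe_one, Units.val_one, Matrix.one_mulVec]
  have h2 : x * g * x⁻¹ = 1 := Subtype.ext h1
  have h3 : g = x⁻¹ * (x * g * x⁻¹) * x := by group
  rw [h3, h2]; group

end Cfsg.Agent.H129.Co3
end

-- part: H129/Co3/Gen
section
/-!
# S1920: the groups covered by subgroups of the 27-dimensional group of type `E₆` (helper129)

* `eigRep` : the representation of `C(z)` on an eigenspace of `z`;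
* `setup` : if a subgroup `S` of `Zgrp K` contains a kit, then the `(-1)`-eigenspace of `z` on the 27-dimensional module
  has dimension 16, and `C_S(z)` is faithful on it;
* `lift_cb` : the configuration lifts to `S` if `G` is a quotient of `S` by central scalars;
* `kill5` : no configuration in `G` if `p ≥ 5`.
-/

set_option autoImplicit false
set_option linter.unusedSectionVars false

open Subgroup Module

namespace Cfsg.Agent.H129.Co3

open Cfsg Cfsg.Lie
open Cfsg.Agent.ChevalleyStructure.E6Min.Tables Cfsg.Agent.ChevalleyStructure.E6Min.Basic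
  Cfsg.Agent.ChevalleyStructure.E6Min.Adjoint
open Cfsg.Agent.H163.E6 (V)
open Cfsg.Agent.H944.E6T (jm coe_jm jm_injective ev_V)
open Cfsg.Agent.H952.F4 (ev)
open Cfsg.Agent.H415.C3 (Kit)
open Cfsg.Agent.H13.Co3 (CB)

/-! ### the representation on an eigenspace -/

section eig

variable {k M G : Type*} [Field k] [AddCommGroup M] [Module k M] [Group G] (R : Representation k G M) (z : G) (μ : k)

theorem eig_mem {g : G} (hg : g ∈ centralizer ({z} : Set G)) {v : M} (hv : v ∈ Module.End.eigenspace (R z) μ) :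
    R g v ∈ Module.End.eigenspace (R z) μ := by
  rw [Module.End.mem_eigenspace_iff] at hv ⊢
  rw [mem_centralizer_singleton_iff] at hg
  have h1 : R z (R g v) = R g (R z v) := by
    rw [← Module.End.mul_apply, ← map_mul, ← hg, map_mul, Module.End.mul_apply]
  rw [h1, hv, map_smul]

/-- the representation of the centralizer of `z` on an eigenspace of `z` -/
noncomputable def eigRep : ↥(centralizer ({z} : Set G)) →*
    (↥(Module.End.eigenspace (R z) μ) ≃ₗ[k] ↥(Module.End.eigenspace (R z) μ)) where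
  toFun g := LinearEquiv.ofLinearMap ((R g).restrict fun _ hv => eig_mem R z μ g.2 hv)
    ((R g⁻¹).restrict fun _ hv => eig_mem R z μ (inv_mem g.2) hv)
    (by
      ext v
      show R g (R (g⁻¹ : G) v) = v
      rw [← Module.End.mul_apply, ← map_mul, mul_inv_cancel, map_one, Module.End.one_apply])
    (by
      ext v
      show R (g⁻¹ : G) (R g v) = v
      rw [← Module.End.mul_apply, ← map_mul, inv_mul_cancel, map_one, Module.End.one_apply])
  map_one' := by
    ext v
    show R 1 (v : M) = v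
    rw [map_one, Module.End.one_apply]
  map_mul' a b := by
    ext v
    show R (a * b : G) (v : M) = R (a : G) (R (b : G) v)
    rw [map_mul, Module.End.mul_apply]

theorem eigRep_apply (g : ↥(centralizer ({z} : Set G))) (v : ↥(Module.End.eigenspace (R z) μ)) :
    ((eigRep R z μ g v : ↥(Module.End.eigenspace (R z) μ)) : M) = R (g : G) (v : M) := rfl

/-- eigenvalues of a root of `z` on the `(-1)`-eigenspace of `z` -/
theorem eig_transfer {g : ↥(centralizer ({z} : Set G))} {m : ℕ} (hm : (g : G) ^ m = z) {e : ℤ} (heo : Odd e)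
    (hself : ∀ l, Module.End.HasEigenvalue (R (g : G)) l → Module.End.HasEigenvalue (R (g : G)) (l ^ e)) {l : k}
    (hl : Module.End.HasEigenvalue ((eigRep R z (-1) g : ↥(Module.End.eigenspace (R z) (-1)) ≃ₗ[k] ↥(Module.End.eigenspace (R z) (-1))) :
      ↥(Module.End.eigenspace (R z) (-1)) →ₗ[k] ↥(Module.End.eigenspace (R z) (-1))) l) :
    Module.End.HasEigenvalue ((eigRep R z (-1) g : ↥(Module.End.eigenspace (R z) (-1)) ≃ₗ[k] ↥(Module.End.eigenspace (R z) (-1))) :
      ↥(Module.End.eigenspace (R z) (-1)) →ₗ[k] ↥(Module.End.eigenspace (R z) (-1))) (l ^ e) := by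
  obtain ⟨v, hv⟩ := hl.exists_hasEigenvector
  obtain ⟨hv1, hv0⟩ := hv
  rw [Module.End.mem_eigenspace_iff] at hv1
  have hv2 : R (g : G) (v : M) = l • (v : M) := congrArg Subtype.val hv1
  have hv0' : (v : M) ≠ 0 := fun h => hv0 (Subtype.ext h)
  have hpow : ∀ (c : k) (u : M), R (g : G) u = c • u → R z u = c ^ m • u := by
    intro c u hu
    rw [← hm, map_pow]
    clear hm
    induction m with
    | zero => rw [pow_zero, pow_zero, one_smul, Module.End.one_apply]
    | succ m ih => rw [pow_succ', Module.End.mul_apply, ih, map_smul, hu, smul_smul, pow_succ]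
  have hlm : l ^ m = -1 := by
    have h6 := hpow l v hv2
    rw [Module.End.mem_eigenspace_iff.1 v.2] at h6
    exact (smul_left_injective k hv0' h6).symm
  obtain ⟨w, hw⟩ := (hself l (Module.End.hasEigenvalue_of_hasEigenvector
    ⟨Module.End.mem_eigenspace_iff.2 hv2, hv0'⟩)).exists_hasEigenvector
  obtain ⟨hw1, hw0⟩ := hw
  rw [Module.End.mem_eigenspace_iff] at hw1
  have hwz : w ∈ Module.End.eigenspace (R z) (-1) := by
    rw [Module.End.mem_eigenspace_iff, hpow _ w hw1, ← zpow_natCast, ← zpow_mul, mul_comm, zpow_mul, zpow_natCast, hlm,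
      heo.neg_one_zpow]
  refine Module.End.hasEigenvalue_of_hasEigenvector (x := ⟨w, hwz⟩) ⟨?_, fun h => hw0 (congrArg Subtype.val h)⟩
  rw [Module.End.mem_eigenspace_iff]
  exact Subtype.ext hw1

end eig

/-! ### the dimension -/

section dim

variable {K : Type} [Field K]

theorem eq_zero_of_rank {n : Type*} [Fintype n] [DecidableEq n] {M : Matrix n n K} (h : M.rank = 0) : M = 0 := by
  have h1 : LinearMap.range M.mulVecLin = ⊥ := Submodule.finrank_eq_zero.1 h
  have h2 := LinearMap.range_eq_bot.1 h1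
  ext i j
  have h3 := congrFun (LinearMap.congr_fun h2 (Pi.single j 1)) i
  simpa using h3

/-- for an involution the dimension of the `(-1)`-eigenspace is the rank of `z - 1` -/
theorem ev_neg (h2 : (2 : K) ≠ 0) {z : Zgrp K} (hzz : z * z = 1) :
    ev (V K z) (-1) = (((z : GL I27 K) : Matrix I27 I27 K) - 1).rank := by
  have hz : ∀ v, V K z (V K z v) = v := by
    intro v
    rw [← Module.End.mul_apply, ← map_mul, hzz, map_one, Module.End.one_apply]
  have h1 : Module.End.eigenspace (V K z) (-1) = LinearMap.range ((V K z : Module.End K (I27 → K)) - 1) := by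
    ext v
    rw [Module.End.mem_eigenspace_iff, LinearMap.mem_range]
    constructor
    · intro h
      refine ⟨(-(2 : K)⁻¹) • v, ?_⟩
      rw [LinearMap.sub_apply, map_smul, h, Module.End.one_apply, smul_smul, ← sub_smul]
      have : -(2 : K)⁻¹ * -1 - -(2 : K)⁻¹ = 1 := by
        field_simp
        ring
      rw [this, one_smul]
    · rintro ⟨w, rfl⟩
      rw [LinearMap.sub_apply, Module.End.one_apply, map_sub, hz, neg_one_smul]
      abel
  unfold ev
  rw [h1]
  have h3 : ((V K z : Module.End K (I27 → K)) - 1) =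
      Matrix.toLin' (((z : GL I27 K) : Matrix I27 I27 K) - 1) := by
    rw [map_sub, Matrix.toLin'_one]
    rfl
  rw [h3, Matrix.rank, Matrix.toLin'_apply']

end dim

/-! ### the kill -/

section kill

/-- the 27-dimensional module over the algebraic closure -/
noncomputable abbrev RR (K : Type) [Field K] (S : Subgroup ↥(Zgrp K)) :
    Representation (AlgebraicClosure K) ↥S (I27 → AlgebraicClosure K) :=
  MonoidHom.comp (V (AlgebraicClosure K)) ((jm (algebraMap K (AlgebraicClosure K))).comp S.subtype)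

variable {K : Type} [Field K]

theorem RR_map (S : Subgroup ↥(Zgrp K)) (g : ↥S) (v : I27 → K) :
    RR K S g (fun i => algebraMap K (AlgebraicClosure K) (v i)) =
      fun i => algebraMap K (AlgebraicClosure K) ((((g : ↥(Zgrp K)) : GL I27 K) : Matrix I27 I27 K).mulVec v i) := by
  show (((jm (algebraMap K (AlgebraicClosure K)) (g : ↥(Zgrp K)) : ↥(Zgrp (AlgebraicClosure K))) :
    GL I27 (AlgebraicClosure K)) : Matrix I27 I27 (AlgebraicClosure K)).mulVec _ = _
  rw [coe_jm]
  funext i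
  rw [Matrix.mulVec, Matrix.mulVec, dotProduct, dotProduct, map_sum]
  exact Finset.sum_congr rfl fun j _ => by rw [Matrix.map_apply, map_mul]

theorem finrank_eig (h2 : (2 : K) ≠ 0) (S : Subgroup ↥(Zgrp K)) {z : ↥S} (hzz : z * z = 1) :
    finrank (AlgebraicClosure K) ↥(Module.End.eigenspace (RR K S z) (-1)) =
      ((((z : ↥(Zgrp K)) : GL I27 K) : Matrix I27 I27 K) - 1).rank := by
  rw [← ev_neg h2 (z := (z : ↥(Zgrp K))) (by rw [← Subgroup.coe_mul, hzz, Subgroup.coe_one]),
    ← ev_V (algebraMap K (AlgebraicClosure K)), map_neg, map_one]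
  rfl

variable [Fintype K] (p : ℕ) [Fact p.Prime] [CharP K p]

theorem cast_ne {m : ℕ} (hm : m.Prime) (hne : p ≠ m) : (m : K) ≠ 0 := fun h =>
  hne ((Nat.prime_dvd_prime_iff_eq Fact.out hm).1 ((CharP.cast_eq_zero_iff K p m).1 h))

theorem cast_ne' {m : ℕ} (hm : m.Prime) (hne : p ≠ m) : (m : AlgebraicClosure K) ≠ 0 := fun h => by
  apply cast_ne (K := K) p hm hne
  apply (algebraMap K (AlgebraicClosure K)).injective
  rw [map_natCast, map_zero, h]

/-- **The dimension is 16 and the representation on the eigenspace is faithful.** -/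
theorem setup (hp2 : p ≠ 2) {S : Subgroup ↥(Zgrp K)} {N0 A E : Subgroup ↥S} {z s x r : ↥S}
    {ψ : ↥A →* Equiv.Perm (Fin 6)} (Kt : Kit N0 A E z s x r ψ) :
    finrank (AlgebraicClosure K) ↥(Module.End.eigenspace (RR K S z) (-1)) = 16 ∧
      (∀ h v, eigRep (RR K S) z (-1) ⟨z, h⟩ v = -v) ∧
      ∀ e (he : e ∈ centralizer ({z} : Set ↥S)), eigRep (RR K S) z (-1) ⟨e, he⟩ = 1 → e = 1 := by
  classical
  have hpp : p.Prime := Fact.out
  have h2 : (2 : K) ≠ 0 := by exact_mod_cast cast_ne (K := K) p Nat.prime_two hp2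
  have h2k : (2 : AlgebraicClosure K) ≠ 0 := by exact_mod_cast cast_ne' (K := K) p Nat.prime_two hp2
  have ho : Odd (Fintype.card K) := by
    obtain ⟨n, -, hn⟩ := FiniteField.card K p
    rw [hn]
    exact (hpp.odd_of_ne_two hp2).pow
  have hzz : z * z = 1 := Kt.z_sq
  have hzzK : (z : ↥(Zgrp K)) * (z : ↥(Zgrp K)) = 1 := by rw [← Subgroup.coe_mul, hzz, Subgroup.coe_one]
  have hz : z ∈ centralizer ({z} : Set ↥S) := mem_centralizer_singleton_iff.2 rfl
  have hρz : ∀ h v, eigRep (RR K S) z (-1) ⟨z, h⟩ v = -v := by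
    intro h v
    apply Subtype.ext
    rw [eigRep_apply]
    have h1 := Module.End.mem_eigenspace_iff.1 v.2
    rw [h1, neg_one_smul]
    rfl
  obtain ⟨i, hi⟩ := IsAlgClosed.exists_pow_nat_eq (-1 : AlgebraicClosure K) (n := 2) (by norm_num)
  have h8 := Cfsg.Agent.H169.Co3.dvd_eight Kt h2k (i := i) (by rw [← pow_two]; exact hi)
    (eigRep (RR K S) z (-1)) hz (hρz hz)
  rw [finrank_eig h2 S hzz] at h8
  have hrk : ((((z : ↥(Zgrp K)) : GL I27 K) : Matrix I27 I27 K) - 1).rank = 16 := by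
    rcases Cfsg.Agent.H318.Four.E6Inv.rank_inv ho h2 hzzK with h | h | h
    · exfalso
      apply Kt.z_ne
      apply Subtype.ext
      apply Subtype.ext
      apply Units.ext
      exact sub_eq_zero.1 (eq_zero_of_rank h)
    · rw [h] at h8
      omega
    · exact h
  refine ⟨by rw [finrank_eig h2 S hzz, hrk], hρz, ?_⟩
  intro e he h1
  apply Subtype.ext
  refine faith ho h2 hzzK hrk ?_ ?_
  · have h4 := mem_centralizer_singleton_iff.1 he
    have h5 := congrArg (fun g : ↥S => (g : ↥(Zgrp K))) h4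
    exact h5
  · intro v hv
    have h6 : (fun i => algebraMap K (AlgebraicClosure K) (v i)) ∈ Module.End.eigenspace (RR K S z) (-1) := by
      rw [Module.End.mem_eigenspace_iff, RR_map, hv]
      funext i
      rw [Pi.neg_apply, map_neg, neg_one_smul, Pi.neg_apply]
    have h7 := (eigRep_apply (RR K S) z (-1) ⟨e, he⟩ ⟨_, h6⟩).symm.trans
      (congrArg Subtype.val (LinearEquiv.congr_fun h1 ⟨_, h6⟩))
    have h8 := (RR_map S e v).symm.trans h7
    funext i
    exact (algebraMap K (AlgebraicClosure K)).injective (congrFun h8 i)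

omit [Fintype K] in
/-- the configuration lifts -/
theorem lift_cb [Finite K] {S : Subgroup ↥(Zgrp K)} {G : Type*} [Group G] (f : ↥S →* G)
    (hf : Function.Surjective f) (hker : ∀ g : ↥S, f g = 1 → ad K (g : ↥(Zgrp K)) = 1)
    {P N0 : Subgroup G} {z s : G} {ψ : ↥(normalizer (P : Set G)) →* Equiv.Perm (Fin 6)} (C : CB P N0 z s ψ) :
    ∃ (Ph Nh : Subgroup ↥S) (zh sh : ↥S) (ψh : ↥(normalizer (Ph : Set ↥S)) →* Equiv.Perm (Fin 6)),
      CB Ph Nh zh sh ψh := by
  have hkp : ∀ g : ↥S, f g = 1 → g ^ 3 = 1 ∧ ∀ x, g * x = x * g := by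
    intro g hg
    obtain ⟨ha, hb⟩ := Cfsg.Agent.H65.E6Ext.ker_pow (hker g hg)
    exact ⟨Subtype.ext ha, fun x => Subtype.ext (hb _).symm⟩
  have hodd : Odd (Nat.card f.ker) := by
    have h1 : IsPGroup 3 f.ker := by
      rintro ⟨g, hg⟩
      exact ⟨1, Subtype.ext (by rw [pow_one]; exact (hkp g hg).1)⟩
    obtain ⟨n, hn⟩ := IsPGroup.iff_card.1 h1
    rw [hn]
    exact (by decide : Odd 3).pow
  obtain ⟨Ph, Nh, zh, sh, ψh, Ch, -⟩ := Cfsg.Agent.H275.Co3.exists_cb f hf (fun g hg => (hkp g hg).2) hodd C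
  exact ⟨Ph, Nh, zh, sh, ψh, Ch⟩

/-- the representation of `C(z)` by linear maps -/
noncomputable def eigLin {k M G : Type*} [Field k] [AddCommGroup M] [Module k M] [Group G]
    (R : Representation k G M) (z : G) (μ : k) : ↥(centralizer ({z} : Set G)) →*
    (↥(Module.End.eigenspace (R z) μ) →ₗ[k] ↥(Module.End.eigenspace (R z) μ)) where
  toFun g := (eigRep R z μ g : ↥(Module.End.eigenspace (R z) μ) →ₗ[k] ↥(Module.End.eigenspace (R z) μ))
  map_one' := by rw [map_one]; rfl
  map_mul' a b := by rw [map_mul]; rfl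

/-- **No configuration in a quotient of a subgroup of `Zgrp K` by central scalars, `p ≥ 5`.** -/
theorem kill5 (hp2 : p ≠ 2) (hp3 : p ≠ 3) {S : Subgroup ↥(Zgrp K)} {G : Type*} [Group G] (f : ↥S →* G)
    (hf : Function.Surjective f) (hker : ∀ g : ↥S, f g = 1 → ad K (g : ↥(Zgrp K)) = 1)
    {P N0 : Subgroup G} {z s : G} {ψ : ↥(normalizer (P : Set G)) →* Equiv.Perm (Fin 6)} (C : CB P N0 z s ψ) :
    False := by
  obtain ⟨Ph, Nh, zh, sh, ψh, Ch⟩ := lift_cb f hf hker C
  obtain ⟨A, E, x, r, ψ', Kt⟩ := Cfsg.Agent.H415.C3.exists_kit Ch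
  obtain ⟨h16, hρz, hfaith⟩ := setup p hp2 Kt
  have h2k : (2 : AlgebraicClosure K) ≠ 0 := by exact_mod_cast cast_ne' (K := K) p Nat.prime_two hp2
  have h3k : (3 : AlgebraicClosure K) ≠ 0 := by exact_mod_cast cast_ne' (K := K) p Nat.prime_three hp3
  refine Cfsg.Agent.H754.Co3.rep16_cent Ch (eigLin (RR K S) zh (-1)) h16 h2k h3k ?_ ?_
  · intro h
    apply LinearMap.ext
    intro v
    exact hρz h v
  · intro g hg _ h1
    refine hfaith g hg ?_
    apply LinearEquiv.ext
    intro v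
    exact LinearMap.congr_fun h1 v

end kill

end Cfsg.Agent.H129.Co3
end

private theorem dce_99ada14d3910 : _root_.True := by
  try have : _root_.True := by simp only [_root_.Cfsg.Agent.H512.DFive.p0.eq_1]
  try have : _root_.True := by simp only [_root_.Cfsg.Agent.H512.DFive.til.eq_1]
  try have : _root_.True := by simp only [_root_.Cfsg.Agent.H512.DFive.p16.eq_1]
  try have : _root_.True := by simp only [_root_.Cfsg.Agent.H512.DFive.p10.eq_1]
  exact _root_.True.intro
end
end
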